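import Cfsg.Agent.H56.FSKit
import Mathlib.GroupTheory.Focal

/-! S3257, piece K3: an involution centralises the points it normalises. -/

set_option autoImplicit false

namespace Cfsg.Agent.H7.FsK

open Subgroup Cfsg.Agent.H56.FS
open scoped commutatorElement

universe u

variable {G : Type*} [Group G] [Finite G] {p r : ℕ} {D : Set (Subgroup G)}

/-- the number of points is odd -/
theorem odd_all (h : Cl p r D) {A : Subgroup G} (hA : A ∈ D) :
    Odd (Nat.card {B // B ∈ D ∧ B ≤ ⊤}) := by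
  classical
  have := Fintype.ofFinite (Subgroup G)
  have card : ∀ X : Subgroup G, A ≤ X → Nat.card {B // B ∈ D ∧ B ≤ X} =
      ((Finset.univ.filter fun B => B ∈ D ∧ B ≤ X).erase A).card + 1 := by
    intro X hX
    rw [Finset.card_erase_add_one (by simp [hA, hX]), ← Nat.card_eq_finsetCard]
    exact Nat.card_congr (Equiv.subtypeEquivRight fun B => by simp)
  rw [card ⊤ le_top]
  refine Even.add_one ?_
  rw [Finset.card_eq_sum_card_image fun B => A ⊔ B]
  refine Finset.even_sum _ fun L hL => ?_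
  obtain ⟨B, hB, rfl⟩ := Finset.mem_image.1 hL
  simp only [Finset.mem_erase, Finset.mem_filter, Finset.mem_univ, true_and, le_top,
    and_true] at hB
  have h1 := h.odd_pts (h.sol_pair hA hB.2) hA le_sup_left
  rw [card _ le_sup_left, Nat.odd_add_one, Nat.not_odd_iff_even] at h1
  refine (congrArg (fun s : Finset (Subgroup G) => Even s.card) (Finset.ext fun C => ?_)).mpr h1
  simp only [Finset.mem_erase, Finset.mem_filter, Finset.mem_univ, true_and, le_top, and_true]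
  constructor
  · rintro ⟨⟨a, b⟩, c⟩
    exact ⟨a, b, c ▸ le_sup_right⟩
  · rintro ⟨a, b, c⟩
    exact ⟨⟨a, b⟩, h.line A hA B hB.2 A hA C b le_sup_left c (Ne.symm a)⟩

theorem fix_all (h : Cl p r D) {A : Subgroup G} (hA : A ∈ D) {P : Subgroup G}
    (hP : IsPGroup 2 P) : ∃ B ∈ D, ∀ g ∈ P, cj g B = B := by
  let _ := ptAct h.inv ⊤ P (le_top.trans (normalizer_eq_top (H := (⊤ : Subgroup G))).ge |>.trans
    (norm_LL h.inv ⊤))
  obtain ⟨B, hB⟩ := hP.nonempty_fixed_point_of_prime_not_dvd_card {B // B ∈ D ∧ B ≤ ⊤}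
    (odd_all h hA).not_two_dvd_nat
  exact ⟨B.1, B.2.1, fun g hg => congrArg Subtype.val (hB ⟨g, hg⟩)⟩

theorem two_le_commutator (h : Mn p r D) {s : G} {k : ℕ} (hs : s ^ 2 ^ k = 1) :
    s ∈ commutator G := by
  have h1 : (⊤ : Subgroup G) ≤
      ((powMonoidHom p : Abelianization G →* Abelianization G).comp Abelianization.of).ker := by
    rw [← h.gen]
    refine sSup_le fun A hA a ha => ?_
    rw [MonoidHom.mem_ker, MonoidHom.comp_apply, powMonoidHom_apply, ← map_pow, h.pow_p hA ha,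
      map_one]
  have h2 : Abelianization.of s ^ p = 1 := h1 (mem_top s)
  have h3 : Abelianization.of s ^ 2 ^ k = 1 := by rw [← map_pow, hs, map_one]
  have h4 : Abelianization.of s = 1 := by
    rw [← orderOf_eq_one_iff]
    exact Nat.eq_one_of_dvd_coprimes
      (((Nat.coprime_primes h.pp Nat.prime_two).2 h.p2).pow_right k)
      (orderOf_dvd_of_pow_eq_one h2) (orderOf_dvd_of_pow_eq_one h3)
  rw [← Abelianization.ker_of]
  exact h4

/-- a Sylow 2-subgroup centralises a point -/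
theorem syl_cen (h : Mn p r D) (S : Sylow 2 G) :
    ∃ A ∈ D, (S : Subgroup G) ≤ centralizer (A : Set G) := by
  obtain ⟨A0, hA0⟩ := h.exists_pt
  obtain ⟨A, hA, fx⟩ := fix_all h.toCl hA0 S.isPGroup'
  refine ⟨A, hA, ?_⟩
  have h1 : (S : Subgroup G) ≤ (S : Subgroup G).focalSubgroup := by
    rw [← commutator_inf_eq_focalSubgroup]
    refine le_inf (fun s hs => ?_) le_rfl
    obtain ⟨k, hk⟩ := S.isPGroup' ⟨s, hs⟩
    exact two_le_commutator h (k := k) (congrArg Subtype.val hk)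
  refine h1.trans ((closure_le _).2 ?_)
  rintro _ ⟨hg, x, hx, u, rfl⟩
  have hy : u * x⁻¹ * u⁻¹ ∈ (S : Subgroup G) := by
    have := mul_mem (inv_mem hx) hg
    rwa [show x⁻¹ * ⁅x, u⁆ = u * x⁻¹ * u⁻¹ by rw [commutatorElement_def]; group] at this
  obtain ⟨a, ha, -, ea⟩ := h.exists_gen hA
  obtain ⟨k, hk⟩ : ∃ k : ℤ, ∀ b ∈ A, x⁻¹ * b * x⁻¹⁻¹ = b ^ k := by
    have h2 : x⁻¹ * a * x⁻¹⁻¹ ∈ zpowers a := by
      rw [ea, ← fx _ (inv_mem hx)]; exact conj_mem_cj ha
    obtain ⟨k, hk⟩ := mem_zpowers_iff.1 h2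
    refine ⟨k, fun b hb => ?_⟩
    rw [← ea] at hb
    obtain ⟨j, rfl⟩ := mem_zpowers_iff.1 hb
    rw [← conj_zpow, ← hk, ← zpow_mul, ← zpow_mul, mul_comm]
  have h3 : cj x⁻¹ (cj u⁻¹ A) = cj u⁻¹ A := by
    rw [cj_cj, show x⁻¹ * u⁻¹ = u⁻¹ * (u * x⁻¹ * u⁻¹) by group, ← cj_cj, fx _ hy]
  have h4 := h.eps hA (h.inv A hA u⁻¹) h3 hk (fx _ (inv_mem hx))
  refine mem_centralizer_iff.2 fun b hb => ?_
  have h5 := h4 _ (conj_mem_cj (g := u⁻¹) hb)
  rw [conj_zpow, ← hk b hb] at h5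
  rw [commutatorElement_def]
  calc b * (x * u * x⁻¹ * u⁻¹)
      = x * u * (u⁻¹ * (x⁻¹ * b * x⁻¹⁻¹) * u⁻¹⁻¹) * (x⁻¹ * u⁻¹) := by group
    _ = x * u * x⁻¹ * u⁻¹ * b := by rw [← h5]; group

theorem k3 : K3Stmt.{u} := by
  intro G _ _ p r D h t ht A hA e
  have hP : IsPGroup 2 (zpowers t) :=
    IsPGroup.of_card (n := 1) (by rw [Nat.card_zpowers, ht]; rfl)
  obtain ⟨S, hS⟩ := hP.exists_le_sylow
  obtain ⟨B, hB, hc⟩ := syl_cen h S
  exact h.k1 hB hA (le_Ce_iff.2 (hc (hS (mem_zpowers t)))) e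

end Cfsg.Agent.H7.FsK
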