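import Cfsg.Agent.H7.FsK3
import Cfsg.Agent.H6.ZStar
import Cfsg.Agent.H52.Fitting
import Cfsg.Agent.S0205

/-! S3257, piece K4: an involution centralises two points. -/

set_option autoImplicit false

namespace Cfsg.Agent.H7.FsK

open Subgroup Cfsg.Agent.H56.FS

universe u

variable {G : Type*} [Group G] [Finite G] {p r : ℕ} {D : Set (Subgroup G)}

/-- the action of an involution with a unique fixed point -/
theorem act_uniq (h : Cl p r D) {s : G} (hs : orderOf s = 2) {A B : Subgroup G} (hA : A ∈ D)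
    (hB : B ∈ D) (ne : B ≠ A) (fA : cj s A = A) (un : ∀ C ∈ D, cj s C = C → C = A) {u : G}
    (hu : u ∈ RR D (A ⊔ B)) (e : B = cj u A) : cj s B = cj u⁻¹ A := by
  have ss : s * s = 1 := by rw [← pow_two, ← hs, pow_orderOf_eq_one]
  have si : s⁻¹ = s := inv_eq_of_mul_eq_one_right ss
  have hB' := h.inv B hB s
  have n1 : s ∈ normalizer ((B ⊔ cj s B : Subgroup G) : Set G) :=
    cj_eq_iff.1 (by rw [cj_sup, cj_cj, ss, cj_one, sup_comm])
  obtain ⟨C, hC, le, fC⟩ := h.fix_pt_inv (h.sol_pair hB hB') hB le_sup_left hs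
    (norm_LL h.inv _ n1)
  rw [un C hC fC] at le
  rw [← h.line B hB _ hB' A hA B hB le le_sup_left ne.symm] at n1
  have n2 := norm_RR (D := D) _ (norm_LL h.inv _ n1)
  have hw : u * (s * u⁻¹ * s⁻¹) ∈ RR D (A ⊔ B) :=
    mul_mem hu ((mem_normalizer_iff.1 n2 _).1 (inv_mem hu))
  have iw : s * (u * (s * u⁻¹ * s⁻¹)) * s⁻¹ = (u * (s * u⁻¹ * s⁻¹))⁻¹ := by
    calc s * (u * (s * u⁻¹ * s⁻¹)) * s⁻¹ = s * u * (s * u⁻¹) * (s * s)⁻¹ := by group
      _ = s * u * (s⁻¹ * u⁻¹) := by rw [ss, si]; group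
      _ = _ := by group
  obtain ⟨m, hm⟩ := h.odd_of_pg (h.pg _ (h.sol_pair hA hB))
  have w1 := H4.pow_card_eq_one_of_mem hw
  have ew : u * (s * u⁻¹ * s⁻¹) * (s * u * s⁻¹) = u := by group
  generalize u * (s * u⁻¹ * s⁻¹) = w at hw iw w1 ew
  have y2 : w ^ (m + 1) * w ^ (m + 1) = w := by
    rw [← pow_add, show m + 1 + (m + 1) = 2 * m + 1 + 1 by ring, pow_succ, ← hm, w1, one_mul]
  have iy : s * w ^ (m + 1) * s⁻¹ = (w ^ (m + 1))⁻¹ := by rw [← conj_pow, iw, inv_pow]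
  have hy : w ^ (m + 1) ∈ RR D (A ⊔ B) := pow_mem hw _
  generalize w ^ (m + 1) = y at y2 iy hy
  have sc : s * (y⁻¹ * u) = y⁻¹ * u * s := by
    calc s * (y⁻¹ * u) = (s * y * s⁻¹)⁻¹ * (s * u * s⁻¹) * s := by group
      _ = y⁻¹ * (y * y * (s * u * s⁻¹)) * s := by rw [iy]; group
      _ = _ := by rw [y2, ew]
  have fc : cj (y⁻¹ * u) A = A := un _ (h.inv A hA _) (by rw [cj_cj, sc, ← cj_cj, fA])
  have cc := h.norm_cen' (h.sol_pair hA hB) hA le_sup_left (mul_mem (inv_mem hy) hu) fc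
  have cy : y * (y⁻¹ * u) = y⁻¹ * u * y := mem_centralizer_iff.1 cc y (RR_le _ hy)
  have e1 : B = cj y A := by
    have : cj y (cj (y⁻¹ * u) A) = cj u A := by rw [cj_cj, mul_inv_cancel_left]
    rw [e, ← this, fc]
  have e2 : u⁻¹ = y⁻¹ * (y⁻¹ * u)⁻¹ := by
    rw [← mul_inv_rev, ← cy]; group
  have fc' : cj (y⁻¹ * u)⁻¹ A = A := by rw [← fc, cj_inv_cj, fc]
  rw [e2, ← cj_cj, fc', e1, cj_cj, ← iy, ← cj_cj (s * y), si, fA]

theorem k4 (k3 : K3Stmt.{u}) : K4Stmt.{u} := by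
  intro G _ _ p r D h t ht
  by_contra hn
  have hP : IsPGroup 2 (zpowers t) :=
    IsPGroup.of_card (n := 1) (by rw [Nat.card_zpowers, ht]; rfl)
  obtain ⟨A0, hA0⟩ := h.exists_pt
  obtain ⟨A, hA, fx⟩ := fix_all h.toCl hA0 hP
  have fA := fx t (mem_zpowers t)
  have un : ∀ C ∈ D, cj t C = C → C = A := fun C hC e => by
    by_contra ne
    exact hn ⟨C, hC, A, hA, ne, k3 G p r D h t ht C hC e, k3 G p r D h t ht A hA fA⟩
  have iso : Cfsg.IsIsolatedInvolution t := by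
    refine ⟨ht, fun g hc => ?_⟩
    have hs : orderOf (g * t * g⁻¹) = 2 := by
      rw [← ht]; exact (MulAut.conj g).orderOf_eq t
    have us : ∀ C ∈ D, cj (g * t * g⁻¹) C = C → C = cj g A := fun C hC e => by
      rw [← un (cj g⁻¹ C) (h.inv C hC _) (by
        rw [cj_cj, show t * g⁻¹ = g⁻¹ * (g * t * g⁻¹) by group, ← cj_cj, e]), cj_cj_inv]
    generalize g * t * g⁻¹ = s at hc hs us
    have fs : cj s A = A := un _ (h.inv A hA s) (by rw [cj_cj, hc.eq, ← cj_cj, fA])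
    rw [← us A hA fs] at us
    have ss : s * s = 1 := by rw [← pow_two, ← hs, pow_orderOf_eq_one]
    have cA : A ≤ Ce (s * t) := fun a ha => by
      have h1 := mem_Ce.1 (k3 G p r D h t ht A hA fA ha)
      have h2 := mem_Ce.1 (k3 G p r D h s hs A hA fs ha)
      rw [mem_Ce, ← mul_assoc, h2, mul_assoc, h1, mul_assoc]
    have all : Ce (s * t) = ⊤ := by
      rw [eq_top_iff, ← h.gen]
      refine sSup_le fun B hB => ?_
      by_cases e : B = A
      · rw [e]; exact cA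
      · obtain ⟨u, hu, eu⟩ := h.conj_pt_pair hA hB
        refine h.k1 hA hB cA ?_
        rw [← cj_cj, act_uniq h.toCl ht hA hB e fA un hu eu,
          ← act_uniq h.toCl hs hA hB e fs us hu eu, cj_cj, ss, cj_one]
    have st : s * t = 1 := by
      by_contra e
      exact h.Ce_ne_top e all
    exact mul_left_cancel (a := s) (ss.trans st.symm)
  have hO : Cfsg.pPrimeCore 2 G = ⊥ := h.nsn _ inferInstance
    (S0205.result (Nat.coprime_two_right.1 H52.coprime_card_pPrimeCore))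
  refine h.Ce_ne_top (x := t) (fun e => by rw [e, orderOf_one] at ht; omega)
    (eq_top_iff.2 fun g _ => mem_Ce.2 ?_)
  have := H6.zstar G iso g
  rw [hO, mem_bot] at this
  calc g * t = (t * g * t⁻¹ * g⁻¹) * (g * t) := by rw [this, one_mul]
    _ = t * g := by group

end Cfsg.Agent.H7.FsK
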