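import Cfsg.Agent.H56.FSKit
import Cfsg.Agent.H9.SelfCent
import Cfsg.Agent.H9.Taussky
import Cfsg.Agent.H9.InvCount
import Cfsg.Agent.H8.SylowIn
import Cfsg.Agent.H3.Fitting

/-!
The two-class configuration forces 2-rank at most two.
-/

set_option autoImplicit false

namespace Cfsg.Agent.H7.FsB

open Subgroup Cfsg.Agent.H56.FS

universe u

variable {G : Type*} [Group G]

theorem card4 {E : Subgroup G} {a b c d : G} (h : ∀ e ∈ E, e = a ∨ e = b ∨ e = c ∨ e = d) :
    Nat.card E ≤ 4 := by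
  classical
  have h1 : (E : Set G) ⊆ ({a, b, c, d} : Finset G) := fun e he => by simpa using h e he
  have h2 : (E : Set G).ncard ≤ ({a, b, c, d} : Finset G).card := by
    rw [← Set.ncard_coe_finset]
    exact Set.ncard_le_ncard h1 (Finset.finite_toSet _)
  exact (Nat.card_coe_set_eq (E : Set G)).le.trans (h2.trans Finset.card_le_four)

theorem four_le [Finite G] {E : Subgroup G} {a b : G} (ha : a ∈ E) (hb : b ∈ E) (a1 : a ≠ 1)
    (b1 : b ≠ 1) (ab : a ≠ b) (ba : b * a ≠ 1) : 4 ≤ Nat.card E := by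
  classical
  have h1 : (({1, a, b, b * a} : Finset G) : Set G) ⊆ (E : Set G) := by
    simp [Set.insert_subset_iff, ha, hb, mul_mem hb ha]
  have h2 : ({1, a, b, b * a} : Finset G).card = 4 := by
    rw [Finset.card_insert_of_notMem (by simp [a1.symm, b1.symm, ba.symm]),
      Finset.card_insert_of_notMem (by simp [ab, b1]), Finset.card_pair (by simp [a1])]
  have h3 := Set.ncard_le_ncard h1 (Set.toFinite _)
  rw [Set.ncard_coe_finset, h2] at h3
  exact h3.trans (Nat.card_coe_set_eq (E : Set G)).ge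

theorem ord2 {s : G} (h : s * s = 1) (h1 : s ≠ 1) : orderOf s = 2 :=
  orderOf_eq_prime (by rw [pow_two, h]) h1

theorem sq1 {s : G} (h : orderOf s = 2) : s * s = 1 := by
  rw [← pow_two, ← h, pow_orderOf_eq_one]

theorem ne1 {s : G} (h : orderOf s = 2) : s ≠ 1 := fun e => by
  rw [e, orderOf_one] at h; omega

/-- descending by squares inside a 2-group -/
theorem descend [Finite G] {P : Subgroup G} (hP : IsPGroup 2 P) (U : G → Prop) (h1 : U 1)
    {q : G} (hq : q ∈ P) (hU : ¬ U q) : ∃ x ∈ P, ¬ U x ∧ U (x * x) := by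
  obtain ⟨k, hk⟩ := hP ⟨q, hq⟩
  have hk' : q ^ 2 ^ k = 1 := congrArg Subtype.val hk
  clear hk
  induction k generalizing q with
  | zero => exact (hU (by rw [pow_zero, pow_one] at hk'; rw [hk']; exact h1)).elim
  | succ k ih =>
    by_cases h : U (q * q)
    · exact ⟨q, hq, hU, h⟩
    · exact ih (mul_mem hq hq) h (by rw [← pow_two, ← pow_mul, ← pow_succ', hk'])

section

variable [Finite G] {W Y : G → Subgroup G} {S : Sylow 2 G} {z t : G}

theorem inU (c : Cf W Y S z t) {s : G} (h : s * s = 1) (hz : s * z = z * s) (ht : s * t = t * s) :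
    s = 1 ∨ s = z ∨ s = t ∨ s = t * z := by
  by_cases h1 : s = 1
  · exact Or.inl h1
  · exact Or.inr (c.inv s (ord2 h h1) hz ht)

theorem zt_ne (c : Cf W Y S z t) : z ≠ t := fun e => c.zn (by
  have := c.zY; rw [e] at this ⊢; exact this)

/-- `C_S(t)` is not Sylow in `C(t)` when `t` is not a square in `S` -/
theorem not_syl (w : TW W Y) (c : Cf W Y S z t) (hsq : ∀ s ∈ (S : Subgroup G), s * s ≠ t) :
    ¬ H8.IsSylowIn 2 ((S : Subgroup G) ⊓ Ce t) (Ce t) := by
  intro h
  have hP := h.inf_of_le_normalizer (w.ynm t c.ot)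
  rw [inf_eq_right.2 (w.yc t c.ot)] at hP
  have hle : (S : Subgroup G) ⊓ Ce t ⊓ Y t ≤ zpowers t := by
    intro q hq
    by_contra hn
    obtain ⟨x, hx, hxn, hxx⟩ := descend hP.isPGroup (fun x => x = 1 ∨ x = t) (Or.inl rfl) hq
      (by rintro (rfl | rfl); exacts [hn (one_mem _), hn (mem_zpowers _)])
    rcases hxx with e | e
    · rcases inU c e (mem_Ce.1 (c.zc hx.1.1)) (mem_Ce.1 hx.1.2) with e | e | e | e
      · exact hxn (Or.inl e)
      · exact c.zn (e ▸ hx.2)
      · exact hxn (Or.inr e)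
      · exact c.tzn (e ▸ hx.2)
    · exact hsq x hx.1.1 e
  have hc : IsCyclic ↥((S : Subgroup G) ⊓ Ce t ⊓ Y t) := Subgroup.isCyclic_of_le hle
  have hc' : IsCyclic (hP.toSylow : Subgroup (Y t)) := by
    rw [hP.coe_toSylow]
    exact isCyclic_of_surjective _ (subgroupOfEquivOfLe hP.le).symm.surjective
  obtain ⟨H, hH⟩ := H9.exists_index_two_of_cyclic_sylow (w.yev t c.ot) hP.toSylow hc'
  have h1 : Y t ≤ H.map (Y t).subtype := (w.ygen t c.ot).trans <| by
    rw [closure_le]
    rintro v ⟨hv, ho⟩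
    refine ⟨⟨v, hv⟩, ?_, rfl⟩
    have h2 : (⟨v, hv⟩ : Y t) ^ 2 ∈ H := sq_mem_of_index_two hH _
    obtain ⟨k, hk⟩ := ho
    have h3 : (⟨v, hv⟩ : Y t) = (((⟨v, hv⟩ : Y t) ^ 2) ^ k)⁻¹ := by
      rw [eq_inv_iff_mul_eq_one, ← pow_mul, ← pow_succ', ← hk]
      exact Subtype.ext (pow_orderOf_eq_one v)
    rw [h3]
    exact inv_mem (pow_mem h2 k)
  have h2 : H = ⊤ := by
    rw [eq_top_iff]
    intro y _
    obtain ⟨y', hy', e⟩ := h1 y.2
    rwa [← Subtype.ext e]
  rw [h2, index_top] at hH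
  omega

/-- an element normalising `C_S(t)` which moves `z` to `t z` -/
theorem mover (w : TW W Y) (c : Cf W Y S z t) (hsq : ∀ s ∈ (S : Subgroup G), s * s ≠ t) :
    ∃ y ∈ normalizer (((S : Subgroup G) ⊓ Ce t : Subgroup G) : Set G), y * z * y⁻¹ = t * z := by
  have hQ : IsPGroup 2 ↥((S : Subgroup G) ⊓ Ce t) := S.2.to_le inf_le_left
  obtain ⟨T, hT, hQT⟩ := H8.exists_isSylowIn_ge hQ inf_le_right
  have hlt : (S : Subgroup G) ⊓ Ce t < T := lt_of_le_of_ne hQT fun e => not_syl w c hsq (e ▸ hT)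
  obtain ⟨y, hy, hyn⟩ := SetLike.exists_of_lt (H8.lt_inf_normalizer_of_lt hT.isPGroup hlt)
  have hTz : T ⊓ Ce z = (S : Subgroup G) ⊓ Ce t :=
    c.syl _ (hT.isPGroup.to_le inf_le_left) (le_inf hQT (inf_le_left.trans c.zc))
      (le_inf inf_le_right (inf_le_left.trans hT.le))
  have hyt : y * t = t * y := mem_Ce.1 (hT.le hy.1)
  have hz : z ∈ (S : Subgroup G) ⊓ Ce t := ⟨c.zS, Ce_symm (c.zc c.tS)⟩
  have hz' := (mem_normalizer_iff.1 hy.2 z).1 hz
  refine ⟨y, hy.2, ?_⟩
  have e2 : y * z * y⁻¹ * (y * z * y⁻¹) = 1 := by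
    calc _ = y * (z * z) * y⁻¹ := by group
      _ = 1 := by rw [sq1 c.oz]; group
  rcases inU c e2 (mem_Ce.1 (c.zc hz'.1)) (mem_Ce.1 hz'.2) with e | e | e | e
  · exact (ne1 c.oz (by simpa using e)).elim
  · exact (hyn (hTz ▸ ⟨hy.1, mem_Ce.2 (mul_inv_eq_iff_eq_mul.1 e)⟩)).elim
  · refine (zt_ne c ?_).elim
    calc z = y⁻¹ * (y * z * y⁻¹) * y := by group
      _ = y⁻¹ * (t * y) := by rw [e, mul_assoc]
      _ = t := by rw [← hyt]; group
  · exact e

/-- `C_S(t)` is the four-group when neither `t` nor `t z` is a square in `S` -/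
theorem cent_four (w : TW W Y) (c : Cf W Y S z t) (hsq : ∀ s ∈ (S : Subgroup G), s * s ≠ t)
    (hsq' : ∀ s ∈ (S : Subgroup G), s * s ≠ t * z) {q : G} (hq : q ∈ (S : Subgroup G) ⊓ Ce t) :
    q = 1 ∨ q = z ∨ q = t ∨ q = t * z := by
  by_contra hn
  obtain ⟨x, hx, hxn, hxx⟩ := descend (S.2.to_le (inf_le_left (b := Ce t)))
    (fun x => x = 1 ∨ x = z ∨ x = t ∨ x = t * z) (Or.inl rfl) hq hn
  rcases hxx with e | e | e | e
  · exact hxn (inU c e (mem_Ce.1 (c.zc hx.1)) (mem_Ce.1 hx.2))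
  · obtain ⟨y, hy, hyz⟩ := mover w c hsq
    refine hsq' _ ((mem_normalizer_iff.1 hy x).1 hx).1 ?_
    rw [← hyz, ← e]; group
  · exact hsq x hx.1 e
  · exact hsq' x hx.1 e

/-- a normal four-group of `S` -/
theorem four (c : Cf W Y S z t) (hnt : ¬ (S : Subgroup G) ≤ Ce t) {E : Subgroup G}
    (hE : E ≤ S) (h4 : 4 < Nat.card E) (h2 : ∀ e ∈ E, e * e = 1) :
    ∃ n ∈ (S : Subgroup G), n * n = 1 ∧ n ≠ 1 ∧ n ≠ z ∧
      ∀ s ∈ (S : Subgroup G), s * n * s⁻¹ = n ∨ s * n * s⁻¹ = n * z := by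
  obtain ⟨N, hN, hK⟩ := H9.exists_normal_four_of_rank S.2 (E := E.subgroupOf S)
    (by rwa [Nat.card_congr (subgroupOfEquivOfLe hE).toEquiv])
    (fun e he => Subtype.ext (h2 e he))
  have hcard : Nat.card N = 4 := hK.card_four
  have hsq : ∀ x : N, x * x = 1 := fun x => IsKleinFour.mul_self x
  have hnt' : Nontrivial N := Finite.one_lt_card_iff_nontrivial.1 (by omega)
  -- a central element of `N`
  obtain ⟨m, hmN, hm1, hmc⟩ : ∃ m ∈ N, m ≠ 1 ∧ m ∈ center S := by
    have := S.2.isNilpotent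
    have := H3.inf_center_ne_bot N (by
      intro e; rw [e, card_bot] at hcard; omega)
    obtain ⟨⟨m, hm⟩, h1⟩ := ne_bot_iff_exists_ne_one.1 this
    exact ⟨m, hm.1, fun e => h1 (Subtype.ext e), hm.2⟩
  have hmm : (m : G) * m = 1 := congrArg (fun x : N => ((x : S) : G)) (hsq ⟨m, hmN⟩)
  have hc : ∀ s ∈ (S : Subgroup G), s * m = m * s := fun s hs =>
    congrArg Subtype.val (mem_center_iff.1 hmc ⟨s, hs⟩)
  have hmz : (m : G) = z := by
    rcases inU c hmm (hc z c.zS).symm (hc t c.tS).symm with e | e | e | e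
    · exact (hm1 (Subtype.ext e)).elim
    · exact e
    · exact (hnt fun s hs => mem_Ce.2 (e ▸ hc s hs)).elim
    · refine (hnt fun s hs => mem_Ce.2 ?_).elim
      have h1 := hc s hs
      rw [e, mul_assoc, ← mem_Ce.1 (c.zc hs), ← mul_assoc, ← mul_assoc] at h1
      exact mul_right_cancel h1
  obtain ⟨n, hn1, hnm⟩ : ∃ n : N, n ≠ 1 ∧ n ≠ ⟨m, hmN⟩ := by
    by_contra hcon
    push Not at hcon
    have : Nat.card (⊤ : Subgroup N) ≤ 4 - 1 := by
      classical
      have h1 : ((⊤ : Subgroup N) : Set N) ⊆ ({1, ⟨m, hmN⟩} : Finset N) := fun e _ => by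
        by_cases h : e = 1
        · simp [h]
        · simp [hcon e h]
      have h3 : ((⊤ : Subgroup N) : Set N).ncard ≤ ({1, ⟨m, hmN⟩} : Finset N).card := by
        rw [← Set.ncard_coe_finset]
        exact Set.ncard_le_ncard h1 (Finset.finite_toSet _)
      exact (Nat.card_coe_set_eq _).le.trans (h3.trans (Finset.card_le_two.trans (by norm_num)))
    rw [card_top, hcard] at this
    omega
  refine ⟨((n : S) : G), (n : S).2, congrArg (fun x : N => ((x : S) : G)) (hsq n),
    fun e => hn1 (Subtype.ext (Subtype.ext e)),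
    fun e => hnm (Subtype.ext (Subtype.ext (e.trans hmz.symm))), fun s hs => ?_⟩
  have hx : (⟨s, hs⟩ : S) * n * (⟨s, hs⟩ : S)⁻¹ ∈ N := hN.conj_mem _ n.2 _
  by_cases e : (⟨_, hx⟩ : N) = n
  · exact Or.inl (congrArg (fun x : N => ((x : S) : G)) e)
  · right
    have := IsKleinFour.eq_mul_of_ne_all (x := n) (y := ⟨m, hmN⟩) (z := ⟨_, hx⟩) hn1
      (fun e => hm1 (congrArg Subtype.val e)) hnm
      (fun e' => hn1 (by
        have := congrArg (fun x : N => ((x : S) : G)) e'
        exact Subtype.ext (Subtype.ext (by simpa using this)))) e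
      (fun e' => hnm (by
        have h1 : s * ((n : S) : G) * s⁻¹ = m := congrArg (fun x : N => ((x : S) : G)) e'
        refine Subtype.ext (Subtype.ext ?_)
        calc ((n : S) : G) = s⁻¹ * (s * ((n : S) : G) * s⁻¹) * s := by group
          _ = s⁻¹ * ((m : G) * s) := by rw [h1, mul_assoc]
          _ = m := by rw [← hc s hs]; group))
    rw [← hmz]
    exact congrArg (fun x : N => ((x : S) : G)) this

theorem inS (w : TW W Y) (c : Cf W Y S z t) {E : Subgroup G} (hE : E ≤ S)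
    (hab : ∀ a ∈ E, ∀ b ∈ E, a * b = b * a) (h2 : ∀ e ∈ E, e * e = 1) : Nat.card E ≤ 4 := by
  by_contra h4
  push Not at h4
  have hz : ∀ s ∈ (S : Subgroup G), s * z = z * s := fun s hs => mem_Ce.1 (c.zc hs)
  have ctz : ∀ s ∈ (S : Subgroup G), s * (t * z) = t * z * s → s * t = t * s := fun s hs h => by
    rw [mul_assoc, ← hz s hs, ← mul_assoc, ← mul_assoc] at h
    exact mul_right_cancel h
  have hU : (∀ e ∈ E, e * t = t * e) → False := fun h =>
    absurd (card4 fun e he => inU c (h2 e he) (hz e (hE he)) (h e he)) (not_le.2 h4)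
  have hnt : ¬ (S : Subgroup G) ≤ Ce t := fun h => hU fun e he => mem_Ce.1 (h (hE he))
  obtain ⟨n, hnS, hnn, hn1, hnz, hn⟩ := four c hnt hE h4 h2
  by_cases htn : n * t = t * n
  · have hnc : ∀ s ∈ (S : Subgroup G), s * n * s⁻¹ = n → s * t = t * s := fun s hs h => by
      have h' := mul_inv_eq_iff_eq_mul.1 h
      rcases inU c hnn (hz n hnS) htn with e | e | e | e
      · exact (hn1 e).elim
      · exact (hnz e).elim
      · rwa [e] at h'
      · rw [e] at h'; exact ctz s hs h'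
    have k : ∀ e ∈ E, e * t = t * e → e = 1 ∨ e = z := fun e he h => by
      rcases inU c (h2 e he) (hz e (hE he)) h with e' | e' | e' | e'
      · exact Or.inl e'
      · exact Or.inr e'
      · exact (hU fun x hx => e' ▸ hab x hx e he).elim
      · exact (hU fun x hx => ctz x (hE hx) (e' ▸ hab x hx e he)).elim
    obtain ⟨a, ha, hat⟩ : ∃ a ∈ E, a * t ≠ t * a := by
      by_contra h; push Not at h; exact hU h
    have ha' := (hn a (hE ha)).resolve_left fun h => hat (hnc a (hE ha) h)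
    refine absurd (card4 (a := 1) (b := z) (c := a) (d := a * z) fun e he => ?_) (not_le.2 h4)
    rcases hn e (hE he) with h | h
    · rcases k e he (hnc e (hE he) h) with e' | e'
      · exact Or.inl e'
      · exact Or.inr (Or.inl e')
    · have hae : a⁻¹ * e ∈ E := mul_mem (inv_mem ha) he
      have : a⁻¹ * e * n * (a⁻¹ * e)⁻¹ = n := by
        calc _ = a⁻¹ * (e * n * e⁻¹) * a := by group
          _ = a⁻¹ * (a * n * a⁻¹) * a := by rw [h, ha']
          _ = n := by group
      rcases k _ hae (hnc _ (hE hae) this) with e' | e'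
      · exact Or.inr (Or.inr (Or.inl (inv_mul_eq_one.1 e').symm))
      · exact Or.inr (Or.inr (Or.inr (inv_mul_eq_iff_eq_mul.1 e')))
  · have hs : ∀ s ∈ (S : Subgroup G), n * (s * s) = s * s * n := fun s hs => by
      have : s * s * n * (s * s)⁻¹ = n := by
        rcases hn s hs with h | h
        · calc _ = s * (s * n * s⁻¹) * s⁻¹ := by group
            _ = n := by rw [h, h]
        · calc _ = s * (s * n * s⁻¹) * s⁻¹ := by group
            _ = s * n * (z * s⁻¹) := by rw [h]; group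
            _ = s * n * s⁻¹ * z := by rw [← hz _ (inv_mem hs)]; group
            _ = n := by rw [h, mul_assoc, sq1 c.oz, mul_one]
      exact (mul_inv_eq_iff_eq_mul.1 this).symm
    have hsq : ∀ s ∈ (S : Subgroup G), s * s ≠ t := fun s h e => htn (e ▸ hs s h)
    have hsq' : ∀ s ∈ (S : Subgroup G), s * s ≠ t * z := fun s h e =>
      htn (ctz n hnS (e ▸ hs s h))
    have hC : Nat.card (centralizer ({(⟨t, c.tS⟩ : S)} : Set S)) = 4 := by
      refine le_antisymm (card4 (a := 1) (b := ⟨z, c.zS⟩) (c := ⟨t, c.tS⟩)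
        (d := ⟨t * z, mul_mem c.tS c.zS⟩) fun e he => ?_) ?_
      · have := cent_four w c hsq hsq' (q := e)
          ⟨e.2, mem_Ce.2 (congrArg Subtype.val (mem_centralizer_singleton_iff.1 he))⟩
        simpa only [Subtype.ext_iff, OneMemClass.coe_one] using this
      · refine four_le (a := ⟨z, c.zS⟩) (b := ⟨t, c.tS⟩)
          (mem_centralizer_singleton_iff.2 (Subtype.ext (hz t c.tS).symm))
          (mem_centralizer_singleton_iff.2 rfl) (fun e => ne1 c.oz (congrArg Subtype.val e))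
          (fun e => ne1 c.ot (congrArg Subtype.val e)) (fun e => zt_ne c (congrArg Subtype.val e))
          (fun e => zt_ne c ?_)
        have e' : t * z = 1 := congrArg Subtype.val e
        exact mul_left_cancel (e'.trans (sq1 c.ot).symm)
    have hE' : Nat.card (E.subgroupOf S) = Nat.card E :=
      Nat.card_congr (subgroupOfEquivOfLe hE).toEquiv
    rcases H9.MC_of_card_centralizer S.2 hC with h | ⟨a, b, m, h⟩
    · have := card_le_card_group (E.subgroupOf S)
      omega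
    · have := h.card_le_four (E := E.subgroupOf S) le_top fun e he => Subtype.ext (h2 e he)
      omega

end

theorem twb : TwoBStmt.{u} := by
  intro G _ _ W Y S z t w c A hA h2
  have hP : IsPGroup 2 A := fun a => ⟨1, Subtype.ext (by simpa using h2 a a.2)⟩
  obtain ⟨g, -, hg⟩ := (H8.isSylowIn_top S).exists_conj_le hP le_top
  rw [← H8.card_conj_smul A g]
  refine inS w c hg (fun a ha b hb => ?_) (fun a ha => ?_)
  · have := congrArg Subtype.val (hA.is_comm.comm (⟨_, H8.mem_conj_smul.1 ha⟩ : A)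
      ⟨_, H8.mem_conj_smul.1 hb⟩)
    calc a * b = g * ((g⁻¹ * a * g) * (g⁻¹ * b * g)) * g⁻¹ := by group
      _ = g * ((g⁻¹ * b * g) * (g⁻¹ * a * g)) * g⁻¹ := congrArg (fun x => g * x * g⁻¹) this
      _ = b * a := by group
  · calc a * a = g * (g⁻¹ * a * g) ^ 2 * g⁻¹ := by rw [pow_two]; group
      _ = 1 := by rw [h2 _ (H8.mem_conj_smul.1 ha)]; group

end Cfsg.Agent.H7.FsB
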