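import Mathlib
import Cfsg.Agent.Lead.T3Defs

/-!
# T3-CX: Coxeter basics

`cxStmt : CxStmt`, together with the single clauses as lemmas (`Cfsg.Agent.H7.T3Cx.*`).
-/

set_option autoImplicit false

namespace Cfsg.Agent.H7.T3Cx

open Cfsg.Agent.H35 Cfsg.Agent.H35.InvGen Cfsg.Agent.Lead.T3

variable {I W : Type} [Group W] (X : Cox I W)

theorem len_s (i : I) : X.len (X.s i) = 1 := by
  have := X.exch.len_s_mul i 1
  simp only [mul_one, len_one] at this
  omega

theorem s_mem {J : Set I} {i : I} (hi : i ∈ J) : X.s i ∈ X.WJ J :=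
  Subgroup.subset_closure ⟨i, hi, rfl⟩

theorem exists_eq_s {J : Set I} {w : W} (hw : w ∈ X.WJ J) (h1 : X.len w = 1) :
    ∃ j ∈ J, w = X.s j := by
  obtain ⟨l, hl, hr, rfl⟩ := X.exch.exists_isRed_of_mem_closure hw
  unfold IsRed at hr
  rw [hr, List.length_eq_one_iff] at h1
  obtain ⟨j, rfl⟩ := h1
  exact ⟨j, hl j (by simp), by simp⟩

theorem s_mem_iff (J : Set I) (i : I) : X.s i ∈ X.WJ J ↔ i ∈ J := by
  refine ⟨fun h => ?_, s_mem X⟩
  obtain ⟨j, hj, e⟩ := exists_eq_s X h (len_s X i)
  exact X.inj e ▸ hj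

theorem WJ_mono {J K : Set I} (h : J ⊆ K) : X.WJ J ≤ X.WJ K :=
  Subgroup.closure_mono (Set.image_mono h)

/-- A left descent of an element of `W_K` lies in `K`. -/
theorem mem_of_descent {K : Set I} {w : W} (hw : w ∈ X.WJ K) {j : I}
    (hj : X.len (X.s j * w) ≤ X.len w) : j ∈ K := by
  obtain ⟨l, hl, hr, rfl⟩ := X.exch.exists_isRed_of_mem_closure hw
  obtain ⟨a, k, b, rfl, e⟩ := X.exch j l hr (hr ▸ hj)
  have ha : X.wp a ∈ X.WJ K := X.wp_mem_closure fun i hi => hl i (by simp [hi])
  have hk : X.s k ∈ X.WJ K := s_mem X (hl k (by simp))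
  rw [← s_mem_iff X, eq_mul_inv_of_mul_eq e]
  exact mul_mem (mul_mem ha hk) (inv_mem ha)

theorem inf_WJ (J K : Set I) : X.WJ J ⊓ X.WJ K = X.WJ (J ∩ K) := by
  refine le_antisymm ?_ (le_inf (WJ_mono X Set.inter_subset_left)
    (WJ_mono X Set.inter_subset_right))
  intro w hw
  induction w using X.induction_left with
  | h1 => exact one_mem _
  | hs i w h ih =>
    have e : X.len (X.s i * (X.s i * w)) ≤ X.len (X.s i * w) := by
      rw [s_mul_s_cancel_left]; omega
    have h1 := mem_of_descent X hw.1 e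
    have h2 := mem_of_descent X hw.2 e
    refine mul_mem (s_mem X ⟨h1, h2⟩) (ih ⟨?_, ?_⟩)
    · simpa using mul_mem (s_mem X h1) hw.1
    · simpa using mul_mem (s_mem X h2) hw.2

theorem mem_WJ_single (i : I) (w : W) : w ∈ X.WJ {i} ↔ w = 1 ∨ w = X.s i := by
  constructor
  · intro hw
    obtain ⟨l, hl, rfl⟩ := X.mem_closure_iff.1 hw
    clear hw
    induction l with
    | nil => simp
    | cons j l ih =>
      obtain rfl : j = i := hl j (by simp)
      rcases ih (fun k hk => hl k (by simp [hk])) with h | h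
      · simp [h]
      · simp [h, X.s_mul_s]
  · rintro (rfl | rfl)
    exacts [one_mem _, s_mem X rfl]

theorem m_symm (i j : I) : X.m j i = X.m i j := by
  unfold Cox.m
  rw [← orderOf_inv]
  simp

theorem len_altw {i j : I} {n : ℕ} (hn : n ≤ X.m i j) : X.len (X.wp (altw i j n)) = n := by
  induction n generalizing i j with
  | zero => simp [altw]
  | succ n ih =>
    have h0 : X.IsRed (altw j i n) := by
      unfold IsRed
      rw [ih (by rw [m_symm]; omega), length_altw]
    have h1 : X.IsRed (altw i j (n + 1)) := by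
      refine h0.cons ?_
      by_contra hc
      rw [h0, not_lt] at hc
      obtain ⟨a, k, b, e, e'⟩ := X.exch i _ h0 hc
      have hl : a.length + 1 ≤ n := by
        have := congrArg List.length e
        simp at this
        omega
      have ha : a = altw j i a.length := by
        rw [← take_altw j i n _ (by omega), e]; simp
      have hak : a ++ [k] = altw j i (a.length + 1) := by
        rw [← take_altw j i n _ hl, e]
        simp [List.take_append]
      have h2 : X.wp (altw i j (a.length + 1)) = X.wp (altw j i (a.length + 1)) := by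
        rw [← hak, altw_succ, ← ha, wp_cons, e', wp_concat]
      have h3 := (prod_altw_eq_iff X.s i j (X.s_mul_s i) (X.s_mul_s j) _).1 h2
      exact pow_ne_one_of_lt_orderOf (by omega) (by unfold Cox.m at hn; omega) h3
    simpa [IsRed] using h1

theorem altw_mem (i j : I) (n : ℕ) : ∀ k ∈ altw i j n, k ∈ ({i, j} : Set I) := by
  induction n generalizing i j with
  | zero => simp [altw]
  | succ n ih =>
    intro k hk
    rw [altw_succ, List.mem_cons] at hk
    rcases hk with rfl | hk
    · simp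
    · have := ih j i k hk
      simp only [Set.mem_insert_iff, Set.mem_singleton_iff] at this ⊢
      tauto

theorem eq_altw {i j : I} {l : List I} (hl : ∀ k ∈ l, k ∈ ({i, j} : Set I)) (hr : X.IsRed l) :
    l = altw i j l.length ∨ l = altw j i l.length := by
  induction l with
  | nil => simp [altw]
  | cons a l ih =>
    have hne : ∀ l', l = a :: l' → False := by
      rintro l' rfl
      have := X.len_wp_le l'
      unfold IsRed at hr
      simp only [wp_cons, s_mul_s_cancel_left, List.length_cons] at hr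
      omega
    have ih' := ih (fun k hk => hl k (by simp [hk])) hr.tail
    have ha : a = i ∨ a = j := by simpa using hl a (by simp)
    rw [List.length_cons, altw_succ, altw_succ]
    cases l with
    | nil => rcases ha with rfl | rfl <;> simp [altw]
    | cons b l =>
      rcases ha with rfl | rfl
      · rcases ih' with h | h
        · exact (hne _ (by rw [h, List.length_cons, altw_succ])).elim
        · exact Or.inl (by rw [← h])
      · rcases ih' with h | h
        · exact Or.inr (by rw [← h])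
        · exact (hne _ (by rw [h, List.length_cons, altw_succ])).elim

theorem wp_altw_m (i j : I) : X.wp (altw i j (X.m i j)) = X.wp (altw j i (X.m i j)) :=
  (prod_altw_eq_iff X.s i j (X.s_mul_s i) (X.s_mul_s j) _).2 (pow_orderOf_eq_one _)

variable [Finite W]

theorem wJ_mem (K : Set I) : X.wJ K ∈ X.WJ K := (X.wJ_spec K).1

theorem wJ_inv (K : Set I) : (X.wJ K)⁻¹ = X.wJ K :=
  X.exch.isLongest_unique (X.wJ_spec K).inv (X.wJ_spec K)

theorem wJ_mul_wJ (K : Set I) : X.wJ K * X.wJ K = 1 := by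
  nth_rewrite 1 [← wJ_inv]
  exact inv_mul_cancel _

theorem len_mul_wJ {K : Set I} {v : W} (hv : v ∈ X.WJ K) :
    X.len (v * X.wJ K) + X.len v = X.len (X.wJ K) := by
  have := X.exch.len_add_isLongest (X.wJ_spec K) (inv_mem hv)
  rw [len_inv, inv_inv] at this
  omega

theorem len_wJ_mul {K : Set I} {v : W} (hv : v ∈ X.WJ K) :
    X.len (X.wJ K * v) + X.len v = X.len (X.wJ K) := by
  have := len_mul_wJ X (inv_mem hv)
  rw [← X.len_inv (v⁻¹ * _), mul_inv_rev, wJ_inv, inv_inv, len_inv] at this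
  exact this

theorem len_conj {K : Set I} {v : W} (hv : v ∈ X.WJ K) :
    X.len (X.wJ K * v * X.wJ K) = X.len v := by
  have h1 := len_mul_wJ X (mul_mem (wJ_mem X K) hv)
  have h2 := len_wJ_mul X hv
  omega

theorem exists_op {K : Set I} {i : I} (hi : i ∈ K) :
    ∃ j ∈ K, X.wJ K * X.s i = X.s j * X.wJ K := by
  obtain ⟨j, hj, e⟩ := exists_eq_s X (mul_mem (mul_mem (wJ_mem X K) (s_mem X hi)) (wJ_mem X K))
    (by rw [len_conj X (s_mem X hi), len_s])
  refine ⟨j, hj, ?_⟩
  rw [← e, mul_assoc _ (X.wJ K), wJ_mul_wJ, mul_one]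

theorem op_spec {K : Set I} {i : I} (hi : i ∈ K) :
    X.op K i ∈ K ∧ X.wJ K * X.s i = X.s (X.op K i) * X.wJ K := by
  have h := exists_op X hi
  unfold Cox.op
  rw [dif_pos h]
  exact h.choose_spec

theorem conj_s {K : Set I} {i : I} (hi : i ∈ K) :
    X.wJ K * X.s i * X.wJ K = X.s (X.op K i) := by
  rw [(op_spec X hi).2, mul_assoc, wJ_mul_wJ, mul_one]

theorem op_op {K : Set I} {i : I} (hi : i ∈ K) : X.op K (X.op K i) = i := by
  apply X.inj
  rw [← conj_s X (op_spec X hi).1, ← conj_s X hi]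
  simp only [← mul_assoc, wJ_mul_wJ, one_mul]
  rw [mul_assoc, wJ_mul_wJ, mul_one]

theorem conj_mem {J J' K : Set I} (hJ : J ⊆ K) (h : ∀ i ∈ J, X.op K i ∈ J') {v : W}
    (hv : v ∈ X.WJ J) : X.wJ K * v * X.wJ K ∈ X.WJ J' := by
  obtain ⟨l, hl, rfl⟩ := X.mem_closure_iff.1 hv
  clear hv
  induction l with
  | nil => simp [wJ_mul_wJ]
  | cons j l ih =>
    have hj := hl j (by simp)
    have e : X.wJ K * X.wp (j :: l) * X.wJ K =
        X.wJ K * X.s j * X.wJ K * (X.wJ K * X.wp l * X.wJ K) := by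
      simp only [wp_cons, mul_assoc]
      rw [← mul_assoc (X.wJ K) (X.wJ K), wJ_mul_wJ, one_mul]
    rw [e, conj_s X (hJ hj)]
    exact mul_mem (s_mem X (h j hj)) (ih fun k hk => hl k (by simp [hk]))

theorem conj_wJ {J K : Set I} (h : J ⊆ K) :
    X.wJ K * X.wJ J * X.wJ K = X.wJ (X.op K '' J) := by
  have hJ' : X.op K '' J ⊆ K := by
    rintro _ ⟨i, hi, rfl⟩
    exact (op_spec X (h hi)).1
  refine X.exch.isLongest_unique
    ⟨conj_mem X h (fun i hi => Set.mem_image_of_mem _ hi) (wJ_mem X J), ?_⟩ (X.wJ_spec _)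
  intro v hv
  rw [len_conj X (WJ_mono X h (wJ_mem X J)), ← len_conj X (WJ_mono X hJ' hv)]
  refine (X.wJ_spec J).2 _ (conj_mem X hJ' ?_ hv)
  rintro _ ⟨i, hi, rfl⟩
  rwa [op_op X (h hi)]

theorem m_pos (i j : I) : 0 < X.m i j := orderOf_pos _

theorem wJ_pair (i j : I) : X.wJ {i, j} = X.wp (altw i j (X.m i j)) := by
  refine X.exch.isLongest_unique (X.wJ_spec _)
    (X.exch.isLongest_of_left (X.wp_mem_closure (altw_mem i j _)) ?_)
  have hl := len_altw X (le_refl (X.m i j))
  have hw := wp_altw_m X i j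
  obtain ⟨n, hn⟩ : ∃ n, X.m i j = n + 1 := ⟨X.m i j - 1, by have := m_pos X i j; omega⟩
  rw [hn] at hl hw ⊢
  rintro k (rfl | rfl)
  · rw [hl, altw_succ, wp_cons, s_mul_s_cancel_left]
    have := X.len_wp_le (altw j k n)
    rw [length_altw] at this
    omega
  · rw [hl, hw, altw_succ, wp_cons, s_mul_s_cancel_left]
    have := X.len_wp_le (altw i k n)
    rw [length_altw] at this
    omega

theorem len_wJ_pair (i j : I) : X.len (X.wJ {i, j}) = X.m i j := by
  rw [wJ_pair, len_altw X le_rfl]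

theorem exists_altw {i j : I} {w : W} (hw : w ∈ X.WJ {i, j}) :
    ∃ n ≤ X.m i j, w = X.wp (altw i j n) ∨ w = X.wp (altw j i n) := by
  have h := (X.wJ_spec {i, j}).2 w hw
  rw [len_wJ_pair] at h
  obtain ⟨l, hl, hr, rfl⟩ := X.exch.exists_isRed_of_mem_closure hw
  refine ⟨l.length, hr ▸ h, ?_⟩
  rcases eq_altw X hl hr with e | e
  · exact Or.inl (by rw [← e])
  · exact Or.inr (by rw [← e])

theorem cxStmt : CxStmt := by
  intro I W _ _ X
  exact ⟨wJ_mul_wJ X, fun K v hv => ⟨len_wJ_mul X hv, len_mul_wJ X hv⟩,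
    fun K i hi => ⟨(op_spec X hi).1, (op_spec X hi).2, op_op X hi⟩, inf_WJ X, s_mem_iff X,
    mem_WJ_single X, fun J K h => conj_wJ X h,
    fun i j _ => ⟨fun n hn => len_altw X hn, wJ_pair X i j, fun w hw => exists_altw X hw⟩⟩

end Cfsg.Agent.H7.T3Cx
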