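import Cfsg.Agent.H17.KnDef2
import Cfsg.Agent.H67.Conj

/-!
# Project KN, piece PB2: the centraliser of `E` in a 2-group
-/

set_option autoImplicit false

namespace Cfsg.Agent.H7.KnPb2

open Equiv Subgroup Cfsg.Agent.H63 Cfsg.Agent.H8.GD Cfsg.Agent.H17.Kn
open Cfsg.Agent.H11.A16 hiding z2

universe u

theorem par_inv (a : N2) : par a⁻¹ = par a := Equiv.sum_comp a.σ⁻¹ a.f

theorem conj_AE {e u : N2} (he : e ∈ PP) (hu : u ∈ AE) : e * u * e⁻¹ ∈ AE := by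
  have h : π2 e = 1 := he
  refine ⟨?_, ?_⟩
  · show π2 (e * u * e⁻¹) ∈ TR
    rw [map_mul, map_mul, map_inv, h, one_mul, inv_one, mul_one]
    exact hu.1
  · show par (e * u * e⁻¹) = 0
    rw [par_mul, par_mul, par_inv, show par u = 0 from hu.2, add_zero, z2add]

theorem dl_PP : dl 0 ∈ PP := by decide
theorem dl_EE : dl 0 ∉ EE := by decide
theorem z2_EE : z2 ∈ EE := by decide
theorem z2_AA : z2 ∈ AA := by decide
theorem x_AA : ∀ i, xe i 4 ∈ AA := by decide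

variable {G : Type u} [Group G]

theorem exists_ext {K : Subgroup G} {p : G} (hn : p ∈ N[K]) (h2 : p * p ∈ K) :
    ∃ Y : Subgroup G, ∀ y, y ∈ Y ↔ y ∈ K ∨ p⁻¹ * y ∈ K := by
  have c : ∀ k ∈ K, p⁻¹ * k * p ∈ K := fun k hk => by
    simpa using (mem_normalizer_iff.1 (inv_mem hn) k).1 hk
  refine ⟨⟨⟨⟨{y | y ∈ K ∨ p⁻¹ * y ∈ K}, ?_⟩, Or.inl (one_mem _)⟩, ?_⟩, fun _ => Iff.rfl⟩
  · rintro a b (ha | ha) (hb | hb)
    · exact Or.inl (mul_mem ha hb)
    · exact Or.inr (by simpa [mul_assoc] using mul_mem (c a ha) hb)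
    · exact Or.inr (by simpa [mul_assoc] using mul_mem ha hb)
    · exact Or.inl (by simpa [mul_assoc] using mul_mem h2 (mul_mem (c _ ha) hb))
  · rintro a (ha | ha)
    · exact Or.inl (inv_mem ha)
    · exact Or.inr (by simpa [mul_assoc] using mul_mem (c _ (inv_mem ha)) (inv_mem h2))

theorem conj_cen {K : Subgroup G} {s c : G} (hs : s ∈ N[K]) (hc : c ∈ C[K]) :
    s * c * s⁻¹ ∈ C[K] := mem_centralizer_iff.2 fun k hk => by
  have := mem_centralizer_iff.1 hc _ ((mem_normalizer_iff.1 (inv_mem hs) k).1 hk)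
  calc k * (s * c * s⁻¹) = s * (s⁻¹ * k * s⁻¹⁻¹ * c) * s⁻¹ := by group
    _ = _ := by rw [this]; group

theorem cen_iff {J : N2 → G} {X : Subgroup N2} {g : G} :
    g ∈ C[im J X] ↔ ∀ e ∈ X, J e * g = g * J e := by
  rw [im, centralizer_closure, mem_centralizer_iff]
  exact ⟨fun h e he => h _ ⟨e, he, rfl⟩, by rintro h _ ⟨e, he, rfl⟩; exact h e he⟩

variable [Finite G] (hB : Base.{u}) {J : N2 → G} {φ : G → Perm Ω} (h : E0 J φ) {S : Subgroup G}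
  (hS : IsPGroup 2 S) (h1 : im J AE ≤ S) (h2 : S ≤ N[im J EE])
include hB

omit [Group G] [Finite G] in
theorem AA_AE : AA ≤ AE := hB.m2.le.2.2.2.1.trans hB.m2.le.2.2.1

omit [Group G] [Finite G] in
theorem EE_AE : EE ≤ AE := hB.m2.le.2.2.2.2.2.1

include h

omit [Finite G] in
theorem E_cen : im J EE ≤ C[im J EE] := im_le fun e he => cen_iff.2 fun f hf => by
  rw [← h.emE.mul _ (EE_AE hB hf) _ (EE_AE hB he), ← h.emE.mul _ (EE_AE hB he) _ (EE_AE hB hf),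
    (hB.m2.ab.1 f hf.1 e he.1).eq]

omit [Finite G] in
theorem cen_AE {g : G} (hg : g ∈ im J AE) (hc : g ∈ C[im J EE]) : g ∈ im J EE := by
  obtain ⟨m, hm, rfl⟩ := h.emE.mem.1 hg
  refine mem_im ⟨hB.m3.cEE m fun e he => ?_, hm.2⟩
  have he' := EE_AE hB he
  exact h.emE.inj _ (mul_mem hm he') _ (mul_mem he' hm)
    (by rw [h.emE.mul _ hm _ he', h.emE.mul _ he' _ hm, cen_iff.1 hc e he])

omit [Finite G] in
theorem ex_AE {g : G} (hc : g ∈ C[im J EE]) {e : N2} (he : e ∈ PP) (k : Ex J g e AA) :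
    Ex J g e AE := fun u hu => by
  obtain ⟨a, ha, f, hf, rfl⟩ := hB.m2.pAE u hu
  have e1 : e * (a * f) * e⁻¹ = e * a * e⁻¹ * f := by
    rw [mul_assoc (e * a), (hB.m2.ab.1 _ (inv_mem he) f hf.1).eq]; group
  rw [R, e1, h.emE.mul _ (AA_AE hB ha) _ (EE_AE hB hf),
    h.emE.mul _ (conj_AE he (AA_AE hB ha)) _ (EE_AE hB hf), ← k a ha, mul_assoc _ g⁻¹,
    ← cen_iff.1 (inv_mem hc) f hf]
  group

include hS h1

theorem cen_A {g : G} (hg : g ∈ S) (hc : g ∈ C[im J EE]) (hA : g ∈ C[im J AA]) :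
    g = 1 ∨ g = J z2 := by
  have K := hB.kit J φ h.toKi
  have hm := K.cA2 S hS ((im_mono (AA_AE hB)).trans h1) g hg hA
  obtain ⟨a, ha, rfl⟩ := (h.emE.mono (AA_AE hB)).mem.1 hm
  have := (h.emE.mem_iff (EE_AE hB) (AA_AE hB ha)).1 (cen_AE hB h (mem_im (AA_AE hB ha)) hc)
  rcases hB.m3.cPA a this.1 (hB.m2.ab.2.2.1 a ha) with rfl | rfl
  exacts [Or.inl h.emE.one, Or.inr rfl]

theorem cen_E {g : G} (hg : g ∈ S) (hc : g ∈ C[im J EE]) (hA : g ∈ C[im J AA]) : g ∈ im J EE := by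
  rcases cen_A hB h hS h1 hg hc hA with rfl | rfl
  exacts [one_mem _, mem_im z2_EE]

include h2

omit [Finite G] hB h hS in
theorem comm_cen {g : G} (hc : g ∈ C[im J EE]) {x : G} (hx : x ∈ im J AE) :
    x⁻¹ * (g * x * g⁻¹) ∈ C[im J EE] := by
  have := mul_mem (conj_cen (inv_mem (h2 (h1 hx))) hc) (inv_mem hc)
  rwa [show x⁻¹ * g * x⁻¹⁻¹ * g⁻¹ = x⁻¹ * (g * x * g⁻¹) by group] at this

omit [Finite G] hS in
theorem act {g : G} (hc : g ∈ C[im J EE]) (hn : ∀ a ∈ AA, g * J a * g⁻¹ ∈ im J AE) :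
    ∃ e ∈ PP, Ex J g e AA := by
  have k : ∀ a ∈ AA, ∃ c ∈ EE, R J g a (a * c) := fun a ha => by
    have ha' := AA_AE hB ha
    obtain ⟨c, hc', e⟩ := (h.emE.mono (EE_AE hB)).mem.1 (cen_AE hB h
      (mul_mem (inv_mem (mem_im ha')) (hn a ha)) (comm_cen h1 h2 hc (mem_im ha')))
    exact ⟨c, hc', by rw [R, h.emE.mul _ ha' _ (EE_AE hB hc'), e, mul_inv_cancel_left]⟩
  have cm : ∀ a ∈ AA, ∀ b ∈ AA, ∀ u ∈ AE, ∀ v ∈ AE, R J g a u → R J g b v → Commute u v :=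
    fun a ha b hb u hu v hv r s => h.emE.inj _ (mul_mem hu hv) _ (mul_mem hv hu) (by
      have := congrArg J (hB.m2.ab.2.2.1 a ha b hb).eq
      rw [h.emE.mul _ (AA_AE hB ha) _ (AA_AE hB hb),
        h.emE.mul _ (AA_AE hB hb) _ (AA_AE hB ha)] at this
      rw [h.emE.mul _ hu _ hv, h.emE.mul _ hv _ hu, ← r, ← s]
      calc _ = g * (J a * J b) * g⁻¹ := by group
        _ = _ := by rw [this]; group)
  have sq : ∀ a ∈ AA, ∀ u ∈ AE, R J g a u → u ^ 2 = 1 := fun a ha u hu r =>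
    h.emE.inj _ (pow_mem hu 2) _ (one_mem _) (by
      have := congrArg J (hB.m2.ab.2.2.2.2.2.1 a ha)
      rw [h.emE.mul _ (AA_AE hB ha) _ (AA_AE hB ha), h.emE.one] at this
      rw [h.emE.pow hu, h.emE.one, ← r, conj_pow, pow_two, this]; group)
  have mm : ∀ i, ∀ c ∈ EE, xe i 4 * c ∈ AE := fun i c hc =>
    mul_mem (AA_AE hB (x_AA i)) (EE_AE hB hc)
  obtain ⟨a, ha, ra⟩ := k _ (x_AA 1)
  obtain ⟨b, hb, rb⟩ := k _ (x_AA 2)
  obtain ⟨c, hc', rc⟩ := k _ (x_AA 3)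
  obtain ⟨e, he, e1, e2, e3⟩ := hB.m3.cpl a ha.1 b hb.1 c hc'.1 (sq _ (x_AA 1) _ (mm 1 a ha) ra)
    (sq _ (x_AA 2) _ (mm 2 b hb) rb) (sq _ (x_AA 3) _ (mm 3 c hc') rc)
    (cm _ (x_AA 1) _ (x_AA 2) _ (mm 1 a ha) _ (mm 2 b hb) ra rb)
    (cm _ (x_AA 1) _ (x_AA 3) _ (mm 1 a ha) _ (mm 3 c hc') ra rc)
    (cm _ (x_AA 2) _ (x_AA 3) _ (mm 2 b hb) _ (mm 3 c hc') rb rc)
  let L : Subgroup N2 :=
    { carrier := {u | u ∈ AE ∧ R J g u (e * u * e⁻¹)}
      one_mem' := ⟨one_mem _, by simp [R, h.emE.one]⟩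
      mul_mem' := fun {u v} hu hv => ⟨mul_mem hu.1 hv.1, by
        rw [R, show e * (u * v) * e⁻¹ = e * u * e⁻¹ * (e * v * e⁻¹) by group,
          h.emE.mul _ hu.1 _ hv.1, h.emE.mul _ (conj_AE he hu.1) _ (conj_AE he hv.1), ← hu.2,
          ← hv.2]
        group⟩
      inv_mem' := fun {u} hu => ⟨inv_mem hu.1, by
        rw [R, show e * u⁻¹ * e⁻¹ = (e * u * e⁻¹)⁻¹ by group, h.emE.inv hu.1,
          h.emE.inv (conj_AE he hu.1), ← hu.2]
        group⟩ }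
  have hL : AA ≤ L := hB.m2.gAA L fun i => ⟨AA_AE hB (x_AA i), by
    fin_cases i
    · show R J g z2 (e * z2 * e⁻¹)
      rw [R, (hB.m2.ab.2.2.2.2.2.2 e).eq, mul_inv_cancel_right, ← cen_iff.1 hc z2 z2_EE,
        mul_inv_cancel_right]
    · exact e1 ▸ ra
    · exact e2 ▸ rb
    · exact e3 ▸ rc
    · exact L.one_mem.2⟩
  exact ⟨e, he, fun a ha => (hL ha).2⟩

theorem nrm {g : G} (hg : g ∈ S) (hc : g ∈ C[im J EE]) (hn : ∀ a ∈ AA, g * J a * g⁻¹ ∈ im J AE) :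
    g ∈ im J EE ∨ ∃ x ∈ im J EE, Ex J (x * g) (dl 0) AA := by
  obtain ⟨e, he, k⟩ := act hB h h1 h2 hc hn
  have t : ∀ f ∈ EE, Ex J (J f * g) (f * e) AA := fun f hf a ha => by
    have := (k a ha).trans (h.emE.self (EE_AE hB hf) (conj_AE he (AA_AE hB ha)))
    rwa [show f * (e * a * e⁻¹) * f⁻¹ = f * e * a * (f * e)⁻¹ by group] at this
  rcases hB.m2.iPP e he with c | c
  · have m := mem_im (J := J) (inv_mem c)
    refine Or.inl ((mul_mem_cancel_left m).1 (cen_E hB h hS h1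
      (mul_mem (h1 (im_mono (EE_AE hB) m)) hg) (mul_mem (E_cen hB h m) hc)
      (cen_iff.2 fun a ha => ?_)))
    have := t _ (inv_mem c) a ha
    rw [R, inv_mul_cancel, one_mul, inv_one, mul_one] at this
    exact (mul_inv_eq_iff_eq_mul.1 this).symm
  · refine Or.inr ⟨_, mem_im (inv_mem c), ?_⟩
    have := t _ (inv_mem c)
    rwa [show ((dl 0)⁻¹ * e)⁻¹ * e = dl 0 by
      rw [mul_inv_rev, inv_inv, mul_assoc, ← (hB.m2.ab.1 e he _ dl_PP).eq, inv_mul_cancel_left]]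
      at this

omit h in
theorem grow {Y : Subgroup G} (y1 : im J AE ≤ Y) (y2 : Y ≤ (S ⊓ C[im J EE]) ⊔ im J AE)
    (y3 : ∀ q ∈ S, q ∈ C[im J EE] → q ∈ N[Y] → q ∈ Y) {g : G} (hg : g ∈ S) (hc : g ∈ C[im J EE]) :
    g ∈ Y := by
  have hN : im J AE ≤ N[S ⊓ C[im J EE]] := fun x hx => mem_normalizer_fintype fun q hq =>
    ⟨S.mul_mem (S.mul_mem (h1 hx) hq.1) (S.inv_mem (h1 hx)), conj_cen (h2 (h1 hx)) hq.2⟩
  rw [← (hB.gen (G := G)).grow Y _ (hS.to_le (sup_le inf_le_left h1)) y2 fun n hn nY => by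
    obtain ⟨q, hq, x, hx, rfl⟩ := (H67.mem_sup_of_le_normalizer' hN).1 hn
    exact mul_mem (y3 q hq.1 hq.2 ((mul_mem_cancel_right (le_normalizer (y1 hx))).1 nY)) (y1 hx)]
  exact mem_sup_left ⟨hg, hc⟩

theorem main : (∀ g ∈ S, g ∈ C[im J EE] → g ∈ im J EE) ∨ ∃ p, Pb J S p := by
  have EA : im J EE ≤ im J AE := im_mono (EE_AE hB)
  by_cases hp : ∀ g ∈ S, g ∈ C[im J EE] → g ∈ N[im J AE] → g ∈ im J EE
  · exact Or.inl fun g hg hc => cen_AE hB h (grow hB hS h1 h2 le_rfl le_sup_right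
      (fun q a b c => EA (hp q a b c)) hg hc) hc
  push Not at hp
  obtain ⟨g, g1, g2, g3, g4⟩ := hp
  obtain ⟨x, hx, ex⟩ := (nrm hB h hS h1 h2 g1 g2 fun a ha =>
    (mem_normalizer_iff.1 g3 _).1 (mem_im (AA_AE hB ha))).resolve_left g4
  have p1 : x * g ∈ S := mul_mem (h1 (EA hx)) g1
  have p2 : x * g ∈ C[im J EE] := mul_mem (E_cen hB h hx) g2
  have p3 : x * g ∈ N[im J AE] := mul_mem (le_normalizer (EA hx)) g3
  have p4 : x * g ∉ im J EE := fun c => g4 ((mul_mem_cancel_left hx).1 c)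
  generalize x * g = p at ex p1 p2 p3 p4
  have ex' := ex_AE hB h p2 dl_PP ex
  have d2 : dl 0 * dl 0 = 1 := by decide
  have sq : p * p = 1 ∨ p * p = J z2 := cen_A hB h hS h1 (mul_mem p1 p1) (mul_mem p2 p2)
    (cen_iff.2 fun a ha => by
      have := (ex a ha).trans (ex' _ (conj_AE dl_PP (AA_AE hB ha)))
      rw [show dl 0 * (dl 0 * a * (dl 0)⁻¹) * (dl 0)⁻¹ = dl 0 * dl 0 * a * (dl 0 * dl 0)⁻¹ by group,
        d2, one_mul, inv_one, mul_one] at this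
      exact (mul_inv_eq_iff_eq_mul.1 this).symm)
  have ni : ∀ a ∈ AA, a ≠ 1 → a ≠ z2 → ∀ y, p⁻¹ * y ∈ im J EE → (J a * y) ^ 2 ≠ 1 :=
    fun a ha a1 a2 y hy e => by
      obtain ⟨f, hf, e1⟩ := (h.emE.mono (EE_AE hB)).mem.1 hy
      obtain rfl : y = p * J f := by rw [e1, mul_inv_cancel_left]
      have ha' := AA_AE hB ha
      have hf' := EE_AE hB hf
      obtain ⟨ζ, z1, z3⟩ : ∃ ζ, (ζ = 1 ∨ ζ = z2) ∧ p * p = J ζ := by
        rcases sq with c | c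
        exacts [⟨1, Or.inl rfl, by rw [c, h.emE.one]⟩, ⟨z2, Or.inr rfl, c⟩]
      have z4 : ζ ∈ EE := by
        rcases z1 with rfl | rfl
        exacts [one_mem _, z2_EE]
      have hc := conj_AE dl_PP (mul_mem hf' ha')
      have e2 : a * (dl 0 * (f * a) * (dl 0)⁻¹) * ζ * f = 1 :=
        h.emE.inj _ (mul_mem (mul_mem (mul_mem ha' hc) (EE_AE hB z4)) hf') _ (one_mem _) (by
          rw [h.emE.mul _ (mul_mem (mul_mem ha' hc) (EE_AE hB z4)) _ hf',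
            h.emE.mul _ (mul_mem ha' hc) _ (EE_AE hB z4), h.emE.mul _ ha' _ hc,
            ← ex' _ (mul_mem hf' ha'), h.emE.mul _ hf' _ ha', ← z3, h.emE.one, ← e, pow_two]
          group)
      have e3 : a * (dl 0 * f) * a⁻¹ * (dl 0 * f) * ζ = 1 := by
        rw [← e2, inv_eq_of_mul_eq_one_right (hB.m2.ab.2.2.2.2.2.1 a ha),
          inv_eq_of_mul_eq_one_right d2, mul_assoc _ ζ f, (hB.m2.ab.1 ζ z4.1 f hf.1).eq]
        group
      have := hB.m3.odd a ha a1 a2 _ (mul_mem dl_PP hf.1) (by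
        rcases z1 with rfl | rfl
        · exact Or.inl (by rwa [mul_one] at e3)
        · exact Or.inr ((eq_inv_of_mul_eq_one_left e3).trans (by decide)))
      exact dl_EE ((mul_mem_cancel_right hf).1 this)
  obtain ⟨Y, hY⟩ := exists_ext p3 (show p * p ∈ im J AE by
    rcases sq with c | c <;> rw [c]
    exacts [one_mem _, EA (mem_im z2_EE)])
  have yc : ∀ q ∈ Y, q ∈ C[im J EE] → q ∈ im J EE ∨ p⁻¹ * q ∈ im J EE := fun q hq hc =>
    ((hY q).1 hq).imp (fun c => cen_AE hB h c hc) fun c => cen_AE hB h c (mul_mem (inv_mem p2) hc)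
  have y1 : im J AE ≤ Y := fun y hy => (hY y).2 (Or.inl hy)
  have idx : ∀ q ∈ S, q ∈ C[im J EE] → q ∈ im J EE ∨ p⁻¹ * q ∈ im J EE := fun q hq hc =>
    yc q (grow hB hS h1 h2 y1 (fun y hy => by
      rcases (hY y).1 hy with c | c
      · exact mem_sup_right c
      · rw [← mul_inv_cancel_left p y]
        exact mul_mem (mem_sup_left ⟨p1, p2⟩) (mem_sup_right c)) (fun r r1 r2 r3 => by
      rcases nrm hB h hS h1 h2 r1 r2 (fun a ha => by
        have m := mem_im (J := J) (AA_AE hB ha)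
        by_cases a1 : a = 1
        · rw [a1, h.emE.one, mul_one, mul_inv_cancel]; exact one_mem _
        by_cases a2 : a = z2
        · rw [a2, ← cen_iff.1 r2 z2 z2_EE, mul_inv_cancel_right]; exact EA (mem_im z2_EE)
        rcases yc _ (mul_mem (inv_mem (y1 m)) ((mem_normalizer_iff.1 r3 _).1 (y1 m)))
          (comm_cen h1 h2 r2 m) with c | c
        · exact (mul_mem_cancel_left (inv_mem m)).1 (EA c)
        · refine absurd ?_ (ni a ha a1 a2 _ c)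
          rw [mul_inv_cancel_left, conj_pow, pow_two,
            ← h.emE.mul _ (AA_AE hB ha) _ (AA_AE hB ha), hB.m2.ab.2.2.2.2.2.1 a ha, h.emE.one]
          group) with c | ⟨x, hx, c⟩
      · exact y1 (EA c)
      · have := cen_E hB h hS h1 (mul_mem (inv_mem p1) (mul_mem (h1 (EA hx)) r1))
          (mul_mem (inv_mem p2) (mul_mem (E_cen hB h hx) r2)) (cen_iff.2 fun a ha =>
            (mul_inv_eq_iff_eq_mul.1 ((c a ha).trans (ex a ha).symm)).symm)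
        exact (mul_mem_cancel_left (y1 (EA hx))).1 ((hY _).2 (Or.inr (EA this)))) hq hc) hc
  exact Or.inr ⟨p, p1, p2, p4, ex, sq, idx, fun a ha a1 a2 q hq hc e =>
    (idx q hq hc).resolve_right fun c => ni a ha a1 a2 q c e⟩

omit h hS h1 h2 in
/-- **PB2** -/
theorem pb2 : Pb2Stmt.{u} := by
  intro G _ _ J φ h S hS h1 h2
  exact main hB h hS h1 h2

end Cfsg.Agent.H7.KnPb2
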