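import Mathlib
import Cfsg.Agent.H75.T3Good
import Cfsg.Agent.H75.ChevLin
import Cfsg.Agent.H34.Chev3
import Cfsg.Agent.H40.ChevPar

/-!
# T3-ME, T3-MF: the models of types `E₆`, `E₇`, `E₈`, `F₄`
-/

set_option autoImplicit false
set_option maxRecDepth 100000

namespace Cfsg.Agent.H7.T3Me

open Cfsg.Lie Cfsg.Agent.H34 Cfsg.Agent.H75 Cfsg.Agent.H75.T3G Cfsg.Agent.Lead.T3

/-- The check of the Coxeter matrix. -/
def Chk (n : ℕ) (c : List (List ℤ)) (e : Fin n → Fin n) (A : Fin n → Fin n → ℕ) : Prop :=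
  ∀ a b : Fin n, 0 < A a b ∧ ∀ k ∈ List.range (A a b + 1), 0 < k →
    ((actE c ((List.replicate k [e a, e b]).flatten.map Fin.val) (List.replicate n 1, 0)).1 =
      List.replicate n 1 ↔ k = A a b)

instance (n : ℕ) (c : List (List ℤ)) (e : Fin n → Fin n) (A : Fin n → Fin n → ℕ) :
    Decidable (Chk n c e A) := by unfold Chk; infer_instance

theorem hasMod_chev {D : ChevalleyDatum}
    (hD : D ∈ [chevG2, chevB2, chevD4, chevF4, chevE6, chevE7, chevE8])
    (hD' : ¬ (D = chevG2 ∨ D = chevB2)) (F : Type) [Field F] [Fintype F] {c : List (List ℤ)}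
    (hc : IsCartan (cert hD).R c) (e : Fin D.rank → Fin D.rank) (he : Function.Surjective e)
    {par : ℕ → ℕ} {sp : ℕ} (h : Chk D.rank c e (tm D.rank par sp)) (hC : Concl (D.group F)) :
    HasMod (tm D.rank par sp) fun _ => Fintype.card F := by
  obtain ⟨p, hp⟩ := CharP.exists F
  haveI : Fact p.Prime := ⟨CharP.char_is_prime F p⟩
  haveI := (H40.isSimpleGroup (F := F) hD fun h => (hD' h).elim).1
  refine ⟨D.group F, inferInstance,
    MD.isMod (M := chevModel1 hD F p) (e := e) (MD.of_one rfl he (fun a b => ?_) fun a => ?_)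
      (fun _ _ => tm_eq_one) hC⟩
  · rw [← hc.orderOf_word [e a, e b] _ (h a b).1 (h a b).2]
    simp [SignedSys.word_cons]
    rfl
  · rw [← Nat.card_eq_fintype_card]
    exact Cert.card_X (C := cert hD) _

theorem ne_of_rank {D : ChevalleyDatum} (h : D.rank ≠ 2) : ¬ (D = chevG2 ∨ D = chevB2) := by
  rintro (rfl | rfl) <;> exact h rfl

/-- The numbering of the diagram `E6`. -/
def eE6 : Fin 6 → Fin 6 := ![0, 2, 3, 4, 5, 1]

/-- The numbering of the diagram `E7`. -/
def eE7 : Fin 7 → Fin 7 := ![0, 2, 3, 4, 5, 6, 1]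

/-- The numbering of the diagram `E8`. -/
def eE8 : Fin 8 → Fin 8 := ![0, 2, 3, 4, 5, 6, 7, 1]

theorem meStmt : MeStmt := by
  intro F _ _ n hn
  rcases hn with rfl | rfl | rfl
  · exact hasMod_chev (D := chevE6) (by simp) (ne_of_rank (by decide)) F (isCartan_E6 _)
      eE6 (show Function.Surjective eE6 by decide)
      (show Chk 6 cartE6 eE6 (tm 6 (parE 6) 0) by decide +kernel)
      (by simp [Concl, IsExceptionalLieType, show IsoChevE6 (chevE6.group F) from
        ⟨F, _, _, ⟨MulEquiv.refl _⟩⟩])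
  · exact hasMod_chev (D := chevE7) (by simp) (ne_of_rank (by decide)) F (isCartan_E7 _)
      eE7 (show Function.Surjective eE7 by decide)
      (show Chk 7 cartE7 eE7 (tm 7 (parE 7) 0) by decide +kernel)
      (by simp [Concl, IsExceptionalLieType, show IsoE7 (chevE7.group F) from
        ⟨F, _, _, ⟨MulEquiv.refl _⟩⟩])
  · exact hasMod_chev (D := chevE8) (by simp) (ne_of_rank (by decide)) F (isCartan_E8 _)
      eE8 (show Function.Surjective eE8 by decide)
      (show Chk 8 cartE8 eE8 (tm 8 (parE 8) 0) by decide +kernel)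
      (by simp [Concl, IsExceptionalLieType, show IsoE8 (chevE8.group F) from
        ⟨F, _, _, ⟨MulEquiv.refl _⟩⟩])

theorem mfStmt : MfStmt := by
  intro F _ _
  exact hasMod_chev (D := chevF4) (by simp) (ne_of_rank (by decide)) F (isCartan_F4 _) id
    Function.surjective_id (by decide +kernel)
    (by simp [Concl, IsExceptionalLieType, show IsoF4 (chevF4.group F) from
      ⟨F, _, _, ⟨MulEquiv.refl _⟩⟩])

end Cfsg.Agent.H7.T3Me
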