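import Cfsg.Agent.H37.FkKit
import Cfsg.Agent.S0215

/-! A nontrivial strongly closed subgroup does not lie in the large normal subgroup. -/

set_option autoImplicit false

namespace Cfsg.Agent.H7.FkLxb

open Cfsg Subgroup Cfsg.Agent.H37.FK

universe u

variable {K : Type*} [Group K]

/-- a subgroup of symplectic type with central involution `z` -/
structure D (z : K) (Q : Subgroup K) : Prop where
  zz : z * z = 1
  z1 : z ≠ 1
  le : ∀ x ∈ Q, x * z = z * x
  sq : ∀ x ∈ Q, x * x = 1 ∨ x * x = z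
  cen : ∀ x ∈ Q, (∀ y ∈ Q, x * y = y * x) → x * x = 1 → x = 1 ∨ x = z

namespace D

variable {z : K} {Q : Subgroup K} (h : D z Q)
include h

theorem map (e : K ≃* K) : D (e z) (Q.map e.toMonoidHom) where
  zz := by rw [← map_mul, h.zz, map_one]
  z1 := fun h1 => h.z1 (e.injective (by rw [h1, map_one]))
  le := by
    rintro _ ⟨x, hx, rfl⟩
    simpa using congrArg e (h.le x hx)
  sq := by
    rintro _ ⟨x, hx, rfl⟩
    exact (h.sq x hx).imp (fun h1 => by simpa using congrArg e h1)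
      fun h1 => by simpa using congrArg e h1
  cen := by
    rintro _ ⟨x, hx, rfl⟩ h1 h2
    refine (h.cen x hx (fun y hy => e.injective ?_) (e.injective ?_)).imp
      (fun h1 => by simp [h1]) fun h1 => by simp [h1]
    · simpa using h1 _ ⟨y, hy, rfl⟩
    · simpa using h2

theorem comm {x y : K} (hx : x ∈ Q) (hy : y ∈ Q) : x * y = y * x ∨ x * y = z * (y * x) := by
  have zi : z⁻¹ = z := inv_eq_of_mul_eq_one_right h.zz
  have e : x * y = x * y * (x * y) * (y⁻¹ * (x * x)⁻¹ * y) * (y * y)⁻¹ * (y * x) := by group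
  have c : y⁻¹ * z * y = z := by rw [mul_assoc, ← h.le y hy, inv_mul_cancel_left]
  rcases h.sq _ (mul_mem hx hy) with h1 | h1 <;> rcases h.sq x hx with h2 | h2 <;>
    rcases h.sq y hy with h3 | h3 <;> rw [h1, h2, h3] at e <;>
    simp only [zi, c, inv_one, mul_one, one_mul, inv_mul_cancel, h.zz] at e <;>
    first | exact Or.inl e | exact Or.inr e

theorem nc {x y v : K} (hx : x ∈ Q) (hy : y ∈ Q) (hv : v ∈ Q) (h1 : x * v ≠ v * x)
    (h2 : y * v ≠ v * y) : x * y * v = v * (x * y) := by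
  rw [mul_assoc, (h.comm hy hv).resolve_left h2, ← mul_assoc, h.le x hx, mul_assoc, ← mul_assoc x,
    (h.comm hx hv).resolve_left h1, ← mul_assoc, ← mul_assoc, h.zz, one_mul, mul_assoc]

theorem dbl {a v : K} (ha : a ∈ Q) (hv : v ∈ Q) (a2 : a * a = 1) (v2 : v * v = 1)
    (c : a * v = v * a) (hc : ∀ r ∈ Q, r * v = v * r → r * a = a * r) :
    a = 1 ∨ a = z ∨ a * v = 1 ∨ a * v = z := by
  by_cases h0 : ∀ y ∈ Q, a * y = y * a
  · rcases h.cen a ha h0 a2 with h1 | h1
    exacts [Or.inl h1, Or.inr (Or.inl h1)]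
  push Not at h0
  obtain ⟨x, hx, h0⟩ := h0
  refine Or.inr (Or.inr (h.cen _ (mul_mem ha hv) (fun r hr => ?_) ?_))
  · by_cases h1 : r * v = v * r
    · rw [mul_assoc, ← h1, ← mul_assoc, ← hc r hr h1, mul_assoc]
    · refine h.nc ha hv hr (fun h2 => h0 ?_) (Ne.symm h1)
      have h3 := hc _ (mul_mem hr hx) (h.nc hr hx hv h1 fun h4 => h0 (hc x hx h4).symm)
      rw [← mul_assoc, h2, mul_assoc, mul_assoc] at h3
      exact (mul_left_cancel h3).symm
  · rw [mul_assoc, ← mul_assoc v, ← c, mul_assoc, v2, mul_one, a2]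

end D

theorem core [Finite K] {z t : K} {T Q Qt : Subgroup K} (hQ : D z Q) (hQt : D t Qt) (hTQ : T ≤ Q)
    (hz : z ∈ T) (ht : t ∈ T) (hne : t ≠ z) (hA : ∀ a ∈ T, a * t = t * a → a ∈ Qt)
    (hn : ∀ c, c * z = z * c → ∀ x ∈ T, c * x * c⁻¹ ∈ T)
    (hab : ¬ ∀ a ∈ T, ∀ b ∈ T, a * b = b * a) {g : K} (hg : g * z = z * g)
    (ho : Odd (orderOf g)) : g * t = t * g := by
  have el : ∀ a ∈ T, a * t = t * a → a * a = 1 := fun a ha c => by
    rcases hQ.sq a (hTQ ha) with h1 | h1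
    · exact h1
    · exact (hQt.sq a (hA a ha c)).resolve_right fun h2 => hne (h2.symm.trans h1)
  have ab' : ∀ a b : K, a * a = 1 → b * b = 1 → a * b * (a * b) = 1 → a * b = b * a :=
    fun a b a2 b2 h => by
      rw [← inv_eq_of_mul_eq_one_right h, mul_inv_rev, inv_eq_of_mul_eq_one_right a2,
        inv_eq_of_mul_eq_one_right b2]
  have ab : ∀ a ∈ T, a * t = t * a → ∀ b ∈ T, b * t = t * b → a * b = b * a :=
    fun a ha c b hb d => ab' a b (el a ha c) (el b hb d) (el _ (mul_mem ha hb) (by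
      rw [mul_assoc, d, ← mul_assoc, c, mul_assoc]))
  have tnc : ¬ ∀ a ∈ T, t * a = a * t := fun h =>
    hab fun a ha b hb => ab a ha (h a ha).symm b hb (h b hb).symm
  have zt : z * t = t * z := (hQ.le t (hTQ ht)).symm
  have hT : D z T := ⟨hQ.zz, hQ.z1, fun x hx => hQ.le x (hTQ hx), fun x hx => hQ.sq x (hTQ hx),
    fun u hu hc u2 => by
      have uq := hA u hu (hc t ht)
      rcases hQt.dbl uq (hA z hz zt) u2 hQ.zz (hc z hz) (fun r hr c => by
        refine (hQt.comm hr uq).resolve_right fun e => tnc fun a ha => ?_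
        have h1 := hc _ (hn r⁻¹ ((Commute.inv_left c).eq) a ha)
        have e1 : t = r * u * r⁻¹ * u⁻¹ := by rw [e]; group
        have h2 : r * u * r⁻¹ * a = a * (r * u * r⁻¹) := by
          rw [show r * u * r⁻¹ * a = r * (u * (r⁻¹ * a * r⁻¹⁻¹)) * r⁻¹ by group, h1]; group
        rw [e1, mul_assoc, (Commute.inv_left (hc a ha)).eq, ← mul_assoc, h2, mul_assoc]) with
        h1 | h1 | h1 | h1
      · exact Or.inl h1
      · exact absurd (h1 ▸ hc) tnc
      · exact Or.inr (mul_right_cancel (h1.trans hQ.zz.symm))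
      · refine absurd (fun a ha => ?_) tnc
        rw [← h1, mul_assoc, ← hQ.le a (hTQ ha), ← mul_assoc, hc a ha, mul_assoc]⟩
  have key : ∀ c, c * z = z * c → c * t * c⁻¹ * t = t * (c * t * c⁻¹) → Commute (c * c) t := by
    intro c hc h
    have ha := hn c hc t ht
    have cz : c * z * c⁻¹ = z := by rw [hc, mul_inv_cancel_right]
    rcases hT.dbl ha ht (el _ ha h) hQt.zz h (fun r hr d => ab r hr d _ ha h) with
      h1 | h1 | h1 | h1
    · exact absurd (by simpa using h1) hQt.z1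
    · exact absurd (by simpa using h1.trans cz.symm) hne
    · have h2 : Commute c t := mul_inv_eq_iff_eq_mul.1 (mul_right_cancel (h1.trans hQt.zz.symm))
      exact h2.mul_left h2
    · have h2 : c * t * c⁻¹ = z * t := by
        rw [← h1, mul_assoc _ t t, hQt.zz, mul_one]
      refine mul_inv_eq_iff_eq_mul.1 ?_
      rw [show c * c * t * (c * c)⁻¹ = c * (c * t * c⁻¹) * c⁻¹ by group, h2, ← conj_mul, cz, h2,
        ← mul_assoc, hQ.zz, one_mul]
  have h4 : Commute (g ^ 4) t := by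
    rw [show g ^ 4 = g * g * (g * g) by simp [pow_succ, mul_assoc]]
    by_cases h1 : g * t * g⁻¹ * t = t * (g * t * g⁻¹)
    · exact (key g hg h1).mul_left (key g hg h1)
    have gg : g * g * z = z * (g * g) := (Commute.mul_left hg hg).eq
    refine key (g * g) gg ?_
    by_contra h2
    have m1 := hn g hg t ht
    have m2 := hn _ gg t ht
    have h3 := ab' _ _ (by rw [conj_mul, hQt.zz]; group) (by rw [conj_mul, hQt.zz]; group)
      (el _ (mul_mem m1 m2) (hQ.nc (hTQ m1) (hTQ m2) (hTQ ht) h1 h2))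
    apply h1
    have := congrArg (fun y => g⁻¹ * y * g) h3
    simpa [mul_assoc] using this.symm
  obtain ⟨k, hk⟩ := (mem_zpowers_pow_iff (g := g) (k := 4)).2
    ((Nat.coprime_two_left.2 ho).pow_left 2)
  have := h4.zpow_left k
  simp only at hk
  rw [hk] at this
  exact this

theorem zp {z x : K} (h : orderOf z = 2) (hx : x ∈ zpowers z) : x = 1 ∨ x = z := by
  have zz : z * z = 1 := by rw [← pow_two, ← h, pow_orderOf_eq_one]
  refine zpowers_le_of_mem (H := ⟨⟨⟨{y | y = 1 ∨ y = z}, ?_⟩, Or.inl rfl⟩, ?_⟩) (Or.inr rfl) hx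
  · rintro _ _ (rfl | rfl) (rfl | rfl) <;> simp [zz]
  · rintro _ (rfl | rfl) <;> simp [inv_eq_of_mul_eq_one_right zz]

theorem lxb (hG : GoldStmt.{u}) (hA : LxaStmt.{u}) : LxbStmt.{u} := by
  intro K _ _ hK z Q _ h hO S hS T hT h0 hTQ
  let C := centralizer ({z} : Set K)
  let Q' := Q.map C.subtype
  change T ≤ Q' at hTQ
  have mC : ∀ x, x ∈ C ↔ x * z = z * x := fun x => mem_centralizer_singleton_iff
  have zz : z * z = 1 := by rw [← pow_two, ← h.ord, pow_orderOf_eq_one]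
  have z1 : z ≠ 1 := fun e => by have := h.ord; rw [e, orderOf_one] at this; omega
  have hQ : D z Q' := by
    refine ⟨zz, z1, ?_, ?_, ?_⟩
    · rintro _ ⟨x, -, rfl⟩
      exact (mC _).1 x.2
    · rintro _ ⟨x, hx, rfl⟩
      exact zp h.ord (h.sq x hx)
    · rintro _ ⟨x, hx, rfl⟩ h1 h2
      exact zp h.ord (h.cen x hx (fun y hy => Subtype.ext (h1 _ ⟨y, hy, rfl⟩)) (Subtype.ext h2))
  have nQ : ∀ c, c * z = z * c → ∀ x ∈ Q', c * x * c⁻¹ ∈ Q' := by
    rintro c hc _ ⟨x, hx, rfl⟩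
    exact ⟨_, (inferInstance : Q.Normal).conj_mem x hx ⟨c, (mC c).2 hc⟩, rfl⟩
  have QS : Q' ≤ S := by
    have := h.two.le_sylow_of_normal (S.subtype hS)
    rintro _ ⟨x, hx, rfl⟩
    exact this hx
  have hn : ∀ c, c * z = z * c → ∀ x ∈ T, c * x * c⁻¹ ∈ T := fun c hc x hx =>
    hT.2 x hx c (QS (nQ c hc x (hTQ hx)))
  have hz : z ∈ T := by
    obtain ⟨⟨t, ht⟩, t1⟩ := ne_bot_iff_exists_ne_one.1 h0
    by_cases h1 : ∀ y ∈ Q', t * y = y * t
    · rcases hQ.sq t (hTQ ht) with h2 | h2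
      · exact (hQ.cen t (hTQ ht) h1 h2).resolve_left (fun e => t1 (Subtype.ext e)) ▸ ht
      · exact h2 ▸ mul_mem ht ht
    · push Not at h1
      obtain ⟨y, hy, h1⟩ := h1
      have h2 := (hQ.comm hy (hTQ ht)).resolve_left (Ne.symm h1)
      have := mul_mem (hn y (hQ.le y hy) t ht) (inv_mem ht)
      rw [h2] at this
      simpa [mul_assoc] using this
  have key : ∀ x ∈ InX T, x * z = z * x → x ∈ T := fun x hx c => by
    have h2 : Two (⟨x, (mC x).2 c⟩ : C) := by
      obtain ⟨k, hk⟩ := (xc_inX hT).two x hx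
      exact ⟨k, Subtype.ext hk⟩
    obtain ⟨g, hg⟩ := exists_conj_sylow (S.subtype hS) h2.zpowers
    have h3 := InX.mem hT ((xc_inX hT).conj x hx g trivial) (hg _ (mem_zpowers _))
    simpa [mul_assoc] using hn _ ((mC _).1 (inv_mem g.2)) _ h3
  obtain ⟨k, hk, hne⟩ : ∃ k : K, k * z * k⁻¹ ∈ (S : Subgroup K) ∧ k * z * k⁻¹ ≠ z := by
    by_contra hc
    push Not at hc
    obtain ⟨N, hN, ho, h1⟩ := S0215.result S z h.ord (hT.1 hz) hc
    have := hK.1
    rcases IsSimpleGroup.eq_bot_or_eq_top_of_normal N hN with rfl | rfl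
    · rcases IsSimpleGroup.eq_bot_or_eq_top_of_normal (center K) inferInstance with h2 | h2
      · refine z1 (mem_bot.1 (h2 ▸ mem_center_iff.2 fun g => ?_))
        have h3 : z * g * z⁻¹ * g⁻¹ = 1 := h1 g
        rw [mul_inv_eq_one, mul_inv_eq_iff_eq_mul] at h3
        exact h3.symm
      · exact hK.2 ⟨⟨fun a b => (mem_center_iff.1 (h2 ▸ mem_top b) a)⟩⟩
    · rw [card_top] at ho
      exact absurd (Odd.of_dvd_nat ho (h.ord ▸ orderOf_dvd_natCard z)) (by decide)
  have ht := hT.2 z hz k hk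
  have hQt : D (k * z * k⁻¹) (Q'.map (MulAut.conj k).toMonoidHom) := hQ.map (MulAut.conj k)
  generalize ht' : k * z * k⁻¹ = t at hk hne ht hQt
  have hab : ¬ ∀ a ∈ T, ∀ b ∈ T, a * b = b * a := fun hab => by
    refine h0 (hG K hK ?_ S T hT hab)
    have h1 : ¬ ∀ y ∈ Q', t * y = y * t := fun h1 =>
      (hQ.cen t (hTQ ht) h1 hQt.zz).elim hQt.z1 hne
    push Not at h1
    obtain ⟨y, hy, h1⟩ := h1
    have tw : ∀ x ∈ Q', Two x := fun x hx => Two.of_mem S.isPGroup' (QS hx)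
    rcases hQ.sq y hy with h2 | h2
    · exact ⟨t, y, hQt.zz, h2, tw _ (mul_mem (hTQ ht) hy), h1⟩
    · refine ⟨t, y * t, hQt.zz, ?_, tw _ (mul_mem (hTQ ht) (mul_mem hy (hTQ ht))), fun e => h1 ?_⟩
      · rw [mul_assoc, ← mul_assoc t, (hQ.comm (hTQ ht) hy).resolve_left h1, mul_assoc, mul_assoc,
          hQt.zz, mul_one, ← mul_assoc, hQ.le y hy, mul_assoc, h2, zz]
      · rw [← mul_assoc] at e
        exact mul_right_cancel e
  obtain ⟨y, hy, rfl⟩ := hTQ ht
  obtain ⟨g, ho, hg⟩ := hA K z Q h hO y hy (isConj_iff.2 ⟨k, ht'⟩) hne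
  refine hg (Subtype.ext (core hQ hQt hTQ hz ht hne (fun a ha c => ?_) hn hab ((mC _).1 g.2)
    (by rwa [orderOf_coe])))
  refine ⟨k⁻¹ * a * k, hTQ (key _ ⟨k, by simpa [mul_assoc] using ha⟩ ?_), by simp [mul_assoc]⟩
  rw [← ht'] at c
  have := congrArg (fun w => k⁻¹ * w * k) c
  simpa [mul_assoc] using this

end Cfsg.Agent.H7.FkLxb
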