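import Cfsg.Agent.H42.HtDefs

/-!
# Project HT, piece NK: the position of `t`
-/

set_option autoImplicit false

namespace Cfsg.Agent.H7.HtNK

open Cfsg Cfsg.Agent.H63 Cfsg.Agent.H63.SL Cfsg.Agent.H63.AN Cfsg.Agent.H42.HT Subgroup
open Cfsg.Agent.H7.AA
open Cfsg.Agent.H68.HN (K K1 eU eU_K1 conj_Umul f_uu)
open Cfsg.Agent.H48.HS (U2 inn_class)
open Equiv (swap Perm)
open Equiv.Perm (sign)

universe u

variable {G : Type u} [Group G]

theorem key {β : A8 →* G} {W r : G} {J : K → G} (N : Ns β W r J) {b : K} (hb : b ∈ K1)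
    (b2 : J b * J b = 1) (b1 : J b ≠ 1) (bW : J b ≠ W) {a : K} (ha : a ∈ K1)
    (a2 : J a * J a = 1) : J a = 1 ∨ J a = W ∨ ∃ m ∈ K1, J m * J a * (J m)⁻¹ = J b ∨
      J m * J a * (J m)⁻¹ = W * J b := by
  have sq : ∀ {x}, x ∈ K1 → J x * J x = 1 → x * x = 1 := fun hx e =>
    N.inj _ (mul_mem hx hx) _ (one_mem _) (by rw [N.mul _ hx _ hx, e, N.one])
  by_cases c : U2 a
  · rcases c with rfl | rfl
    exacts [Or.inl N.one, Or.inr (Or.inl N.ju)]
  obtain ⟨m, hm, e⟩ := inn_class ha (sq ha a2) c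
  obtain ⟨n, hn, e'⟩ := inn_class hb (sq hb b2) (by
    rintro (rfl | rfl)
    exacts [b1 N.one, bW N.ju])
  refine Or.inr (Or.inr ⟨n⁻¹ * m, mul_mem (inv_mem hn) hm, ?_⟩)
  rw [N.conj (mul_mem (inv_mem hn) hm) ha, ← N.uj hb,
    show n⁻¹ * m * a * (n⁻¹ * m)⁻¹ = n⁻¹ * (m * a * m⁻¹) * n⁻¹⁻¹ by group]
  have k : ∀ x, n⁻¹ * (n * x * n⁻¹) * n⁻¹⁻¹ = x := fun x => by group
  rcases e with e | e <;> rcases e' with e' | e' <;> rw [e]
  · exact Or.inl (by rw [← e', k])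
  · refine Or.inr (congrArg J ?_)
    rw [← k (eU * b), conj_Umul n, e', ← mul_assoc eU, f_uu, one_mul]
  · exact Or.inr (by rw [← e', ← conj_Umul n, k])
  · exact Or.inl (by rw [← e', k])

theorem sw : sign w = 1 := by decide
theorem sv : sign v = 1 := by decide
theorem sw2 : sign w2 = 1 := by decide

/-- **NK** -/
theorem nk : NkStmt.{u} := by
  intro _ G _ _ ψ t F _ τ h C J
  have e2 : bt (cf h ψ) w2' = ev ψ w2 := by
    rw [bt_apply, ev_cj]
    exact mul_inv_eq_iff_eq_mul.2 (C.hB w2 (H78.mem_altOn.2 (by decide)))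
  have tL : ∀ σ, Commute t (ev ψ σ) := fun σ => KA_ev F.tK σ
  have nl : ∀ x ∈ ψ.range, ¬ IsConj t x := fun x hx => by
    obtain ⟨σ, -, rfl⟩ := mem_range_iff.1 hx
    exact F.nl σ
  have k : ∀ {r : G}, Ns (bt (cf h ψ)) (ev ψ w) r J → ∀ a ∈ K1, J a * J a = 1 →
      ∃ m ∈ K1, J m * J a * (J m)⁻¹ ∈ ψ.range := fun N a ha a2 => by
    obtain ⟨b, hb, e⟩ := N.hA w2'
    rw [e2] at e
    rcases key N hb (by rw [e, ← ev_mul sw2 sw2, show w2 * w2 = 1 by decide, ev_one])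
      (fun c => absurd (ev_eq_one F.inj sw2 (e.symm.trans c)) (by decide))
      (fun c => absurd (ev_inj F.inj sw2 sw (e.symm.trans c)) (by decide)) ha a2 with
      c | c | ⟨m, hm, c | c⟩
    · exact ⟨1, one_mem _, by rw [c, mul_one, mul_inv_cancel]; exact one_mem _⟩
    · exact ⟨1, one_mem _, by rw [c, N.one, one_mul, inv_one, mul_one]; exact ev_mem _⟩
    · exact ⟨m, hm, by rw [c, e]; exact ev_mem _⟩
    · exact ⟨m, hm, by rw [c, e]; exact mul_mem (ev_mem _) (ev_mem _)⟩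
  have nlk : ∀ {r : G}, Ns (bt (cf h ψ)) (ev ψ w) r J → ∀ a ∈ K1, ¬ IsConj t (J a) :=
    fun N a ha c => by
      obtain ⟨g, hg⟩ := isConj_iff.1 c
      obtain ⟨m, -, hm⟩ := k N a ha (by
        rw [← hg, show g * t * g⁻¹ * (g * t * g⁻¹) = g * (t * t) * g⁻¹ by group, F.t2]; group)
      exact nl _ hm (c.trans (isConj_iff.2 ⟨_, rfl⟩))
  have t2 : Is2 t := ⟨1, by rw [pow_one, pow_two, F.t2]⟩
  have vv : ev ψ v * ev ψ v = 1 := by rw [← ev_mul sv sv, show v * v = 1 by decide, ev_one]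
  refine ⟨fun N => ?_, fun N => ?_⟩
  · obtain ⟨a, ha, e | e⟩ := N.dec t (tL w) (tL v) t2
    · exact nlk N a ha (e ▸ IsConj.refl _)
    · have c := N.cr a ha
      obtain ⟨m, hm, hk⟩ := k N a ha (by
        have := F.t2
        rwa [e, mul_assoc, ← mul_assoc (J a), ← c, mul_assoc, ← mul_assoc, vv, one_mul] at this)
      refine nl _ (mul_mem (ev_mem v) hk) (isConj_iff.2 ⟨J m, ?_⟩)
      rw [e, ← mul_assoc, ← N.cr m hm]
      group
  · obtain ⟨a, ha, e | e⟩ := N.dec t (tL w) (C.d1.cm.symm.mul_right (tL v)) t2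
    · exact absurd (e ▸ IsConj.refl _) (nlk N a ha)
    refine ⟨a, nlk N, ha, e, N.inj _ (mul_mem ha ha) _ eU_K1 ?_⟩
    have τ2 : τ * τ = 1 := by
      rw [← C.ht, show h * t * h⁻¹ * (h * t * h⁻¹) = h * (t * t) * h⁻¹ by group, F.t2]; group
    have r2 : τ * ev ψ v * (τ * ev ψ v) = ev ψ w := by
      have := C.d1.ac v sv
      rw [inv_eq_of_mul_eq_one_right τ2] at this
      rw [← mul_assoc, this, ← ev_mul (by decide) sv]
      exact congrArg _ (by decide)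
    have ww : ev ψ w * ev ψ w = 1 := by rw [← ev_mul sw sw, show w * w = 1 by decide, ev_one]
    have := F.t2
    rw [e, mul_assoc, ← mul_assoc (J a), ← N.cr a ha, mul_assoc _ (J a), ← mul_assoc, r2] at this
    rw [N.mul _ ha _ ha, N.ju, eq_inv_of_mul_eq_one_right this, inv_eq_of_mul_eq_one_right ww]

end Cfsg.Agent.H7.HtNK
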