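import Cfsg.Agent.H58.Q4K

/-! Project Q4: blocks of size six. -/

set_option autoImplicit false

namespace Cfsg.Agent.H7.Q4

open Subgroup Cfsg.Agent.H58.Q4

universe u

theorem dvd_of_part {Ω : Type u} [Finite Ω] (D : Ω → Set Ω) (k : ℕ) (S : Set Ω)
    (h : ∀ x ∈ S, x ∈ D x ∧ D x ⊆ S ∧ (D x).ncard = k ∧ ∀ y ∈ D x, D y = D x) : k ∣ S.ncard := by
  induction hn : S.ncard using Nat.strong_induction_on generalizing S with
  | _ n ih =>
  subst hn
  rcases S.eq_empty_or_nonempty with rfl | ⟨x, hx⟩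
  · simp
  obtain ⟨h1, h2, h3, h4⟩ := h x hx
  have e := Set.ncard_diff_add_ncard_of_subset h2
  have := ih _ (Set.ncard_lt_ncard (Set.diff_ssubset_left_iff.2 ⟨x, hx, h1⟩)) (S \ D x)
    (fun y hy => by
      obtain ⟨a1, a2, a3, a4⟩ := h y hy.1
      exact ⟨a1, fun z hz => ⟨a2 hz, fun e => hy.2 (h4 z e ▸ (a4 z hz).symm ▸ a1)⟩, a3, a4⟩) rfl
  rw [← e, h3]
  exact dvd_add this dvd_rfl

theorem k6 (fr : FrStmt.{u}) (blk : BlkStmt.{u}) (cf : CfStmt.{u}) : K6Stmt.{u} := by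
  intro G Ω _ _ _ _ K P h hB F hF c hc hK hp
  obtain ⟨hl, h1, -⟩ := cf G Ω K P h F hF c hc hK hp
  have odd : Odd (orderOf c) := (blk G Ω K P h F hF).2.1.of_dvd_nat
    ((fr G _ _ (h.fr F hF)).2.1 c hc hK)
  have sub : ∀ F' ⊆ F1 Ω c, F'.ncard = 4 → Fx Ω (P F') ⊆ F1 Ω c := fun F' hs h4 y hy => by
    obtain ⟨-, -, a1, -, -, a2, -⟩ := blk G Ω K P h F' h4
    have cS : c ∈ St G F' := mem_St.2 hs
    by_cases hy' : y ∈ F'
    · exact hs hy'
    have mv : ∀ y ∈ Fx Ω (P F') \ F', c • y ∈ Fx Ω (P F') \ F' := fun y hy =>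
      ⟨smul_mem_Fx (a2 cS) hy.1, fun e => hy.2 (by
        have := hs e
        rw [mem_F1, smul_left_cancel_iff] at this
        exact this ▸ e)⟩
    have e2 : (Fx Ω (P F') \ F').ncard = 2 := by rw [Set.ncard_diff a1, hB F' h4, h4]
    by_contra hne
    have e3 : {c • y, y} = Fx Ω (P F') \ F' := Set.eq_of_subset_of_ncard_le
      (Set.pair_subset (mv y ⟨hy, hy'⟩) ⟨hy, hy'⟩) (by rw [e2, Set.ncard_pair hne])
    have := mv _ (mv y ⟨hy, hy'⟩)
    rw [← e3] at this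
    rcases this with e | e
    · exact hne ((smul_left_cancel_iff c).1 e)
    · exact hne (smul_eq_of_sq odd e)
  obtain ⟨T, hT, h3⟩ := Set.exists_subset_card_eq (s := F) (n := 3) (by omega)
  have TΦ : T ⊆ F1 Ω c := hT.trans (mem_St.1 hc)
  have i4 : ∀ x ∉ T, (insert x T).ncard = 4 := fun x hx => by
    rw [Set.ncard_insert_of_notMem hx, h3]
  have := dvd_of_part (fun x => Fx Ω (P (insert x T)) \ T) 3 (F1 Ω c \ T) fun x hx => by
    obtain ⟨-, -, a1, -, -, -, -, -, -, a2, -⟩ := blk G Ω K P h _ (i4 x hx.2)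
    have a3 := (Set.subset_insert x T).trans a1
    refine ⟨⟨a1 (Set.mem_insert _ _), hx.2⟩,
      Set.diff_subset_diff_left (sub _ (Set.insert_subset hx.1 TΦ) (i4 x hx.2)),
      by rw [Set.ncard_diff a3, hB _ (i4 x hx.2), h3], fun y hy => ?_⟩
    simp only [(a2 _ (Set.insert_subset hy.1 a3) (i4 y hy.2)).1]
  rw [Set.ncard_diff TΦ, h3] at this
  have := hl.card
  omega

end Cfsg.Agent.H7.Q4
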