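import Cfsg.Agent.H62.EJDefs
import Cfsg.Agent.H82.Extremal
import Cfsg.Agent.H83.CharP
import Cfsg.Agent.H52.FStar
import Cfsg.Agent.H52.Rel

/-! Project EVJ: the pieces S0 and TR. -/

set_option autoImplicit false
set_option linter.style.haveILetI false

namespace Cfsg.Agent.H7.EjS

open Cfsg Subgroup Cfsg.Agent.H62.TE Cfsg.Agent.H62.EV Cfsg.Agent.H62.EJ
open Cfsg.Agent.H8 (IsSylowIn)
open scoped commutatorElement

universe u

theorem prod_one {P Ω B : Type*} [Group P] [MulAction P Ω] [Fintype Ω] [CommGroup B]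
    (hP : IsPGroup 2 P) (f : Ω → B) (hf : ∀ (p : P) q, f (p • q) = f q)
    (h2 : ∀ q, f q * f q = 1) (h1 : ∀ q, (∀ p : P, p • q = q) → f q = 1) : ∏ q, f q = 1 := by
  classical
  have := Finset.prod_comp (s := (Finset.univ : Finset Ω)) (fun b : B => b) f
  rw [this]
  refine Finset.prod_eq_one fun b hb => ?_
  obtain ⟨q0, -, rfl⟩ := Finset.mem_image.1 hb
  by_cases hb1 : f q0 = 1
  · rw [hb1, one_pow]
  let X : SubMulAction P Ω :=
    { carrier := {q | f q = f q0}
      smul_mem' := fun p q hq => (hf p q).trans hq }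
  have h4 := hP.card_modEq_card_fixedPoints X
  have h5 : Nat.card (MulAction.fixedPoints P X) = 0 := by
    rw [Nat.card_eq_zero]
    refine Or.inl ⟨fun q => hb1 ?_⟩
    have e1 : f (q.1 : Ω) = f q0 := q.1.2
    rw [← e1]
    exact h1 _ fun p => congrArg Subtype.val (q.2 p)
  have h6 : Nat.card X = (Finset.univ.filter fun q => f q = f q0).card := by
    rw [← Nat.card_eq_finsetCard]
    exact Nat.card_congr (Equiv.subtypeEquivRight fun q => by
      simp only [Finset.mem_filter, Finset.mem_univ, true_and]; rfl)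
  rw [h5, h6] at h4
  obtain ⟨m, hm⟩ := (Nat.modEq_zero_iff_dvd).1 h4
  rw [hm, pow_mul, sq, h2, one_pow]

theorem prod_fix {P Ω B : Type*} [Group P] [MulAction P Ω] [Fintype Ω] [CommGroup B]
    (hP : IsPGroup 2 P) (f : Ω → B) (hf : ∀ (p : P) q, f (p • q) = f q)
    (h2 : ∀ q, f q * f q = 1) (β : B) (h1 : ∀ q, (∀ p : P, p • q = q) → f q = β)
    (odd : ¬ 2 ∣ Nat.card Ω) : ∏ q, f q = β := by
  obtain ⟨q0, hq0⟩ := hP.nonempty_fixed_point_of_prime_not_dvd_card Ω odd
  have hβ : β * β = 1 := by rw [← h1 q0 hq0]; exact h2 q0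
  have h3 := prod_one hP (fun q => f q * β) (fun p q => by rw [hf])
    (fun q => by rw [mul_mul_mul_comm, h2, hβ, one_mul]) (fun q hq => by rw [h1 q hq, hβ])
  rw [Finset.prod_mul_distrib, Finset.prod_const, Finset.card_univ, ← Nat.card_eq_fintype_card]
    at h3
  obtain ⟨m, hm⟩ : Odd (Nat.card Ω) := by
    rw [← Nat.not_even_iff_odd, even_iff_two_dvd]; exact odd
  rw [hm, pow_succ, pow_mul, sq, hβ, one_pow, one_mul] at h3
  calc ∏ q, f q = (∏ q, f q) * β * β := by rw [mul_assoc, hβ, mul_one]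
    _ = β := by rw [h3, one_mul]

/-- Transfer of an involution, counted on the fixed points of a `2`-subgroup of its
centralizer. -/
theorem tr2 {G : Type u} [Group G] [Finite G] {S W P : Subgroup G} (odd : ¬ 2 ∣ S.index)
    (ab : ⁅S, S⁆ ≤ W) {e b : G} (he : e ∈ commutator G) (ee : e * e = 1)
    (hP : IsPGroup 2 P) (PC : P ≤ c1 e) (eP : e ∈ P) (hb : b ∈ S)
    (h : ∀ g : G, (∀ p ∈ P, g⁻¹ * p * g ∈ S) → b⁻¹ * (g⁻¹ * e * g) ∈ W) : b ∈ W := by
  classical
  have := Fintype.ofFinite (G ⧸ S)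
  have hle : commutator S ≤ W.subgroupOf S := by
    rw [commutator_def, commutator_le]
    intro a _ c _
    exact ab (commutator_mem_commutator a.2 c.2)
  haveI hN : (W.subgroupOf S).Normal := Subgroup.Normal.of_commutator_le _ hle
  letI : CommGroup (S ⧸ W.subgroupOf S) :=
    { (inferInstance : Group (S ⧸ W.subgroupOf S)) with
      mul_comm := (Subgroup.Normal.quotient_commutative_iff_commutator_le.2 hle).1.comm }
  let φ : S →* S ⧸ W.subgroupOf S := QuotientGroup.mk' _
  have hV : MonoidHom.transfer φ e = 1 := Abelianization.commutator_subset_ker _ he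
  rw [H82.transfer_involution φ ee] at hV
  have key := prod_fix (Ω := G ⧸ S) hP (fun q => H82.extOne φ (q.out⁻¹ * e * q.out))
    (fun r q => by
      have hc : (r : G) * e = e * r := mem_centralizer_singleton_iff.1 (PC r.2)
      show H82.extOne φ (((r : G) • q).out⁻¹ * e * ((r : G) • q).out) = _
      rw [H82.extOne_conj_of_mk_eq φ e (b := r * q.out)]
      · congr 1
        calc ((r : G) * q.out)⁻¹ * e * (r * q.out) = q.out⁻¹ * ((r : G)⁻¹ * (e * r)) * q.out := by
              group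
          _ = _ := by rw [← hc]; group
      · rw [QuotientGroup.out_eq', ← smul_eq_mul, ← MulAction.Quotient.smul_mk,
          QuotientGroup.out_eq'])
    (fun q => by
      by_cases hm : q.out⁻¹ * e * q.out ∈ S
      · rw [H82.extOne_of_mem φ hm, ← map_mul, ← map_one φ]
        congr 1
        apply Subtype.ext
        calc q.out⁻¹ * e * q.out * (q.out⁻¹ * e * q.out) = q.out⁻¹ * (e * e) * q.out := by group
          _ = 1 := by rw [ee]; group
      · rw [H82.extOne_of_not_mem φ hm, one_mul])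
    (φ ⟨b, hb⟩)
    (fun q hq => by
      have h1 : ∀ p ∈ P, q.out⁻¹ * p * q.out ∈ S := fun p hp =>
        H82.smul_mk_eq_iff.1 (by rw [QuotientGroup.out_eq']; exact hq ⟨p, hp⟩)
      rw [H82.extOne_of_mem φ (h1 e eP), eq_comm]
      exact QuotientGroup.eq.2 (h _ h1))
    odd
  rw [hV] at key
  exact (QuotientGroup.eq_one_iff (⟨b, hb⟩ : S)).1 key.symm

theorem tr : TRStmt.{u} := by
  intro G _ _ _ nc T z hT hz zz hN
  have perf : commutator G = ⊤ := by
    refine (inferInstance : (commutator G).Normal).eq_bot_or_eq_top.resolve_left fun e => nc ?_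
    refine ⟨⟨fun a b => commutatorElement_eq_one_iff_mul_comm.1 ?_⟩⟩
    have : ⁅a, b⁆ ∈ commutator G := commutator_mem_commutator (mem_top a) (mem_top b)
    rwa [e, mem_bot] at this
  refine tr2 (P := T) (by simpa using hT.not_dvd) le_rfl (perf ▸ mem_top z) zz hT.isPGroup
    (le_normalizer.trans hN) hz hz fun g hg => ?_
  have h1 : g⁻¹ ∈ nz T := mem_normalizer_fintype (S := (T : Set G)) fun p hp => by
    rw [inv_inv]; exact hg p hp
  have h2 : g⁻¹ * z = z * g⁻¹ := mem_centralizer_singleton_iff.1 (hN h1)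
  rw [h2, mul_assoc z, inv_mul_cancel, mul_one, inv_mul_cancel]
  exact one_mem _

theorem s0 : S0Stmt.{u} := by
  intro X _ _ h hn
  by_contra hL
  refine hn ?_
  have h0 : ∀ t : X, orderOf t = 2 → ∀ S : Sylow 2 X, (S : Subgroup X) ≤ centralizer {t} →
      layer (centralizer ({t} : Set X)) = ⊥ := fun t ht S hS =>
    sSup_eq_bot.2 fun K hK => (hL ⟨_, h, S, t,
      ⟨le_top, S.isPGroup', by simpa using S.not_dvd_index⟩, ht, hS,
      H52.IsComponent.isComponentOf_map_subtype hK⟩).elim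
  rintro _ ⟨T, hT, hT1, rfl⟩ ⟨S, hS⟩
  have hTS : T ≤ S := by
    have := S.is_maximal' (Q := T ⊔ S) (IsPGroup.to_sup_of_normal_left' hT S.2 hS) le_sup_right
    exact this ▸ le_sup_left
  obtain ⟨z, hz, hz1⟩ := (Subgroup.bot_or_exists_ne_one _).resolve_left
    (H83.inf_OZ_ne_bot (p := 2) S.2 hTS hS hT1)
  obtain ⟨hzT, hz⟩ := mem_inf.1 hz
  obtain ⟨-, hzS, hz2⟩ := H83.mem_OZ.mp hz
  have hzC : z ∈ centralizer (T : Set X) := centralizer_le hTS hzS
  have hzo : orderOf z = 2 := orderOf_eq_prime hz2 hz1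
  have h1 : H83.CharP 2 (Subgroup.centralizer ({z} : Set X)) := by
    rw [H83.charP_iff, ← H52.fstar_eq_pCore_iff_centralizer_le, H52.fstar_eq_pCore_iff]
    exact ⟨h0 z hzo S fun s hs =>
      mem_centralizer_singleton_iff.2 (mem_centralizer_iff.1 hzS s hs), h.e.1 z hzo⟩
  have hTz : T ≤ Subgroup.centralizer ({z} : Set X) := fun t ht =>
    Subgroup.mem_centralizer_singleton_iff.mpr (Subgroup.mem_centralizer_iff.mp hzC t ht)
  have h2 := h1.inf_centralizer hT (hTz.trans (H83.le_norm_pCoreOf _))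
  have h3 : Subgroup.centralizer ({z} : Set X) ⊓ Subgroup.centralizer (T : Set X) =
      Subgroup.normalizer (T : Set X) ⊓ Subgroup.centralizer (T : Set X) := by
    rw [inf_eq_right.mpr (Subgroup.centralizer_le (Set.singleton_subset_iff.mpr hzT)),
      inf_eq_right.mpr (Subgroup.centralizer_le_normalizer _)]
  rw [h3] at h2
  exact H83.charP_iff.mp (H83.charP_of_inf_centralizer hT Subgroup.le_normalizer le_rfl h2)

end Cfsg.Agent.H7.EjS
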