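import Cfsg.Agent.H7.HG3

/-! Homogeneous finite groups without normal `2`-complement have `2`-rank at most two. -/

set_option autoImplicit false
set_option linter.unusedSectionVars false

namespace Cfsg.Agent.H7.HG

open Subgroup Cfsg.Agent.H7.CA Cfsg.Agent.H83

universe u
variable {G : Type u} [Group G] [Finite G]

theorem I2.sq_cen {P Q : Subgroup G} (i : I2 P Q) (sq : ∀ e ∈ Q, e * e = 1) {x : G}
    (hP : x ∈ normalizer (P : Set G)) (hQ : x ∈ centralizer (Q : Set G)) :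
    x * x ∈ centralizer (P : Set G) := fun y hy => by
  have m := i.delta hP (centralizer_le_normalizer _ hQ) hy
  have k := (mC.1 hQ _ m).symm.mul_inv_cancel
  have k2 := sq _ m
  symm
  calc x * x * y = x * y * x⁻¹ * (x * (y⁻¹ * (x * y * x⁻¹)) * x⁻¹) * (x * x) := by group
    _ = y * (y⁻¹ * (x * y * x⁻¹) * (y⁻¹ * (x * y * x⁻¹))) * (x * x) := by rw [k]; group
    _ = _ := by rw [k2, mul_one]

theorem cover {E H X R : Subgroup G} {c g : G} (s : IsSylowIn 2 R X)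
    (l : X ≤ normalizer (E : Set G)) (pm : PMod 2 X (centralizer (E : Set G))) (t : Tv E H c g)
    (gX : g ∈ X) (hc : c ∈ E) : ∃ r ∈ R, Tv E H c r := by
  have n := l.trans (normalizer_le_normalizer_centralizer (E : Set G))
  obtain ⟨a, ha, b, hb, rfl⟩ := (mem_sup_left_norm (s.le.trans n)).1 (s.le_sup_of_pMod n pm gX)
  exact ⟨b, hb, t.of_mul ha hc⟩

/-- the case of a self-centralising `E` -/
theorem Hm.case_eq (h : Hm G) {E : Subgroup G} (sq : ∀ e ∈ E, e * e = 1) (h8 : 4 < Nat.card E)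
    (s : IsSylowIn 2 E (centralizer (E : Set G)))
    (tv : ∀ H, I2 E H → ∀ c ∈ H, ∃ g, Tv E H c g) : False := by
  obtain ⟨H, i, -⟩ := ex_hyp sq h8 (one_mem _) (one_mem _)
  have sH : ∀ e ∈ H, e * e = 1 := fun e he => sq e (i.le he)
  have c1 := i.card
  obtain ⟨H₀, -, i₀⟩ := ex_max (pg_of_sq sH) bot_le fun k => by
    rw [le_bot_iff.1 k, card_bot] at c1; omega
  have c2 := i₀.card
  obtain ⟨⟨b, hb⟩, b1⟩ := ne_bot_iff_exists_ne_one.1 (show H₀ ≠ ⊥ from fun k => by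
    rw [k, card_bot] at c2; omega)
  replace b1 : b ≠ 1 := fun k => b1 (Subtype.ext k)
  obtain ⟨c, hc, nc⟩ := i₀.ex
  obtain ⟨e, he, ne⟩ := i.ex
  have l₀ := i₀.le.trans i.le
  let X := (normalizer (E : Set G) ⊓ normalizer (H : Set G)) ⊓ centralizer (H₀ : Set G)
  have pm : PMod 2 X (centralizer (E : Set G)) := fun x hx => ⟨2, by
    have := i.sq_cen sH (mul_mem hx.1.1 hx.1.1) (i₀.sq_cen (fun e he => sq e (l₀ he)) hx.1.2 hx.2)
    convert this using 1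
    simp only [pow_succ, pow_zero, one_mul, mul_assoc, Nat.reduceMul]⟩
  have EC : E ≤ centralizer (E : Set G) := s.le
  have EH : E ≤ centralizer (H : Set G) := EC.trans (centralizer_le (SetLike.coe_subset_coe.2 i.le))
  obtain ⟨R', s', lE⟩ := exists_isSylowIn_ge (p := 2) (H := X) (le_inf (le_inf le_normalizer i.norm)
    (EC.trans (centralizer_le (SetLike.coe_subset_coe.2 l₀)))) (pg_of_sq sq)
  have lX : X ≤ normalizer (E : Set G) := fun x hx => hx.1.1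
  obtain ⟨H₂, i₂, l₂, n₂⟩ := ex_hyp' sq l₀ (i.le hc) nc
  obtain ⟨t', ht'⟩ := tv H₂ i₂ b (l₂ hb)
  obtain ⟨t, tR, ht⟩ := cover s' lX pm ht'
    ⟨⟨ht'.norm (l₀ hb), ht'.normK i.le (i₀.le hb)⟩, ht'.cen l₀ l₂⟩ (l₀ hb)
  obtain ⟨τ', hτ'⟩ := tv H i c hc
  obtain ⟨τ, τR, hτ⟩ := cover s' lX pm hτ'
    ⟨⟨hτ'.norm (i.le hc), hτ'.normK i.le hc⟩, hτ'.cen l₀ i₀.le⟩ (i.le hc)
  let R := R' ⊓ centralizer (H : Set G)
  have dH : ∀ x ∈ R, e⁻¹ * (x * e * x⁻¹) ∈ H := fun x hx =>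
    i.delta (s'.le hx.1).1.1 (s'.le hx.1).1.2 he
  have dm : ∀ x ∈ R, ∀ y ∈ R, e⁻¹ * (x * y * e * (x * y)⁻¹) =
      e⁻¹ * (x * e * x⁻¹) * (e⁻¹ * (y * e * y⁻¹)) := fun x hx y hy => by
    conv_rhs => rw [← (mC.1 hx.2 _ (dH y hy)).symm.mul_inv_cancel]
    group
  let Q : Subgroup G :=
    { carrier := {x | x ∈ R ∧ e⁻¹ * (x * e * x⁻¹) ∈ H₀}
      one_mem' := ⟨one_mem _, by simp⟩
      mul_mem' := fun {x y} hx hy => ⟨mul_mem hx.1 hy.1, dm x hx.1 y hy.1 ▸ mul_mem hx.2 hy.2⟩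
      inv_mem' := fun {x} hx => ⟨inv_mem hx.1, by
        have := dm x hx.1 _ (inv_mem hx.1)
        rw [mul_inv_cancel, one_mul, inv_one, mul_one, inv_mul_cancel] at this
        rw [← inv_eq_of_mul_eq_one_right this.symm]
        exact inv_mem hx.2⟩ }
  have τR' : τ ∈ R := ⟨τR, hτ.cen i.le le_rfl⟩
  have τQ : τ ∉ Q := fun k => nc (by
    have := k.2
    rwa [hτ e he, ep_neg ne, inv_mul_cancel_left] at this)
  have iQ : I2 R Q := ⟨fun x hx => hx.1, fun k => τQ (k τR'), fun x hx y hy a b =>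
    ⟨mul_mem hx hy, dm x hx y hy ▸ i₀.mul _ (dH x hx) _ (dH y hy) (fun k => a ⟨hx, k⟩)
      fun k => b ⟨hy, k⟩⟩⟩
  have EQ : E ≤ Q := fun x hx => ⟨⟨lE hx, EH hx⟩, by
    rw [(comm_sq sq hx e he).mul_inv_cancel, inv_mul_cancel]; exact one_mem _⟩
  have tR' : t ∈ normalizer (R : Set G) := inf_normalizer_le_normalizer_inf
    ⟨le_normalizer tR, normalizer_le_normalizer_centralizer _ (s'.le tR).1.2⟩
  have tQ : t ∈ normalizer (Q : Set G) := mem_normalizer_fintype fun x hx =>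
    ⟨(mem_normalizer_iff.1 tR' x).1 hx.1, by
      have m : ep H₂ b e ∈ H₀ := ep_mem hb
      have k := ht _ (mul_mem he (l₀ m))
      rw [ep_congr (mul_mem_cancel_right (l₂ m)), mul_assoc e, ep_sq (sq b (l₀ hb)), mul_one] at k
      have k1 := (mC.1 hx.1.2 _ (i₀.le m)).symm.mul_inv_cancel
      have k2 := (mC.1 (s'.le tR).2 _ (mul_mem (mul_mem (inv_mem m) hx.2) m)).symm.mul_inv_cancel
      have := mul_mem (mul_mem (inv_mem m) hx.2) m
      rw [← k2] at this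
      convert this using 1
      generalize ep H₂ b e = d at *
      conv_lhs => rw [← k]
      conv_rhs => enter [1, 2, 2]; rw [← k1]
      group⟩
  obtain ⟨g, hg⟩ := h.real' iQ (EQ (i.le hc)) (sH c hc) (fun x hx => mC.1 hx.2 c hc) tR' tQ
  rw [ht c (i.le hc), ep_neg n₂, ← mul_assoc, sH c hc, one_mul] at hg
  obtain ⟨m, k, y1, -, y2⟩ := two_act iQ.le (EQ (l₀ hb)) (sq b (l₀ hb)) hg
  generalize g ^ m = y at y1 y2
  have yC : y ∈ centralizer (E : Set G) := fun x hx => by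
    have := y2 x (iQ.le (EQ hx))
    rw [ep_pos (EQ hx), mul_one, mul_inv_eq_iff_eq_mul] at this
    exact this.symm
  have yE := s.mem_of_norm yC y1 (centralizer_le_normalizer _ yC)
  have k1 := y2 τ τR'
  have k2 := hτ y yE
  rw [ep_neg τQ] at k1
  have k3 : b * ep H c y = 1 := by
    have k4 := (mC.1 τR'.2 b (i₀.le hb)).eq
    rw [mul_inv_eq_iff_eq_mul] at k1 k2
    rw [← k4, mul_assoc, k2, ← mul_assoc, ← mul_assoc, mul_left_inj, (comm_sq sq (l₀ hb) y yE).eq,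
      mul_assoc, left_eq_mul] at k1
    exact k1
  by_cases a : y ∈ H
  · rw [ep_pos a, mul_one] at k3; exact b1 k3
  · rw [ep_neg a] at k3
    exact nc ((mul_mem_cancel_left hb).1 (k3 ▸ one_mem _))

theorem Hm.wit_tv (h : Hm G) {P E H Q : Subgroup G} (c : Ctx P E)
    (s : IsSylowIn 2 P (centralizer (E : Set G))) (i : I2 P Q) (l : E ≤ Q) (iH : I2 E H) {a t : G}
    (ha : a ∈ E) (ht : Tv E H a t) (tP : t ∈ normalizer (P : Set G))
    (tQ : t ∈ normalizer (Q : Set G)) : ∃ y, Wit P Q a y := by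
  obtain ⟨e, he, ne⟩ := iH.ex
  obtain ⟨g, hg⟩ := h.real' i (l he) (c.sq e he) (c.cen e he) tP tQ
  rw [ht e he, ep_neg ne, ← mul_assoc, c.sq e he, one_mul] at hg
  refine wit_of s i.le (l ha) (c.sq a ha) (fun x hx => ?_) hg
  have := hg x (c.le hx)
  rw [ep_pos (l hx), mul_one, mul_inv_eq_iff_eq_mul] at this
  exact this.symm

theorem ex_R {P E H : Subgroup G} (c : Ctx P E) (s : IsSylowIn 2 P (centralizer (E : Set G)))
    (i : I2 E H) (tv : ∀ c ∈ H, ∃ g, Tv E H c g) : ∃ R : Subgroup G, IsPGroup 2 R ∧ P ≤ R ∧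
      R ≤ normalizer (P : Set G) ∧ ∀ a ∈ H, ∃ t ∈ R, Tv E H a t := by
  let X := normalizer (E : Set G) ⊓ centralizer (H : Set G)
  have lC : centralizer (E : Set G) ≤ X :=
    le_inf (centralizer_le_normalizer _) (centralizer_le (SetLike.coe_subset_coe.2 i.le))
  obtain ⟨R, s', l⟩ := exists_isSylowIn_ge (p := 2) (s.le.trans lC) s.isPGroup
  have e : R ⊓ centralizer (E : Set G) = P :=
    s.max _ inf_le_right (s'.isPGroup.to_le inf_le_left) (le_inf l s.le)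
  refine ⟨R, s'.isPGroup, l, e ▸ le_norm_inf le_normalizer ((s'.le.trans inf_le_left).trans
    (normalizer_le_normalizer_centralizer _)), fun a ha => ?_⟩
  obtain ⟨g, hg⟩ := tv a ha
  exact cover s' inf_le_left (fun x hx => ⟨1, by
    simpa [pow_two] using i.sq_cen (fun e he => c.sq e (i.le he)) hx.1 hx.2⟩) hg
    ⟨hg.norm (i.le ha), hg.cen i.le le_rfl⟩ (i.le ha)

theorem Hm.case_lt (h : Hm G) {P E : Subgroup G} (c : Ctx P E) (h8 : 4 < Nat.card E)
    (s : IsSylowIn 2 P (centralizer (E : Set G))) (n : ¬ P ≤ E)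
    (tv : ∀ H, I2 E H → ∀ c ∈ H, ∃ g, Tv E H c g) : False := by
  have A : ∀ H, I2 E H → ∃ R Q : Subgroup G, IsPGroup 2 R ∧ P ≤ R ∧ R ≤ normalizer (P : Set G) ∧
      (∀ a ∈ H, ∃ t ∈ R, Tv E H a t) ∧ I2 P Q ∧ E ≤ Q ∧ R ≤ normalizer (Q : Set G) ∧
      ∀ a ∈ H, ∃ y, Wit P Q a y := fun H i => by
    obtain ⟨R, r1, r2, r3, r4⟩ := ex_R c s i (tv H i)
    obtain ⟨Q, q1, q2, q3⟩ := ex_i2 r1 r2 r3 (r3.trans c.norm) c.le n
    refine ⟨R, Q, r1, r2, r3, r4, q2, q1, q3, fun a ha => ?_⟩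
    obtain ⟨t, tR, ht⟩ := r4 a ha
    exact h.wit_tv c s q2 q1 i (i.le ha) ht (r3 tR) (q3 tR)
  have c2 : ∀ H, I2 E H → 2 < Nat.card H := fun H i => by have := i.card; omega
  obtain ⟨H, i, -⟩ := ex_hyp c.sq h8 (one_mem _) (one_mem _)
  obtain ⟨R, Q, r1, r2, r3, r4, iQ, lQ, rQ, w⟩ := A H i
  have wE : ∀ a ∈ E, ∃ y, Wit P Q a y := fun a ha => by
    obtain ⟨H', i', a', -⟩ := ex_hyp c.sq h8 ha ha
    obtain ⟨-, Q', -, -, -, -, iQ', -, -, w'⟩ := A H' i'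
    by_contra k
    refine c.key iQ iQ' (fun e => k (e ▸ w' a a')) i.le (E₁ := H') (fun _ k => i'.le k) w w'
      (fun a _ => ex_ne2 (c2 H i) a) ?_
    rw [i.card, mul_comm]
    exact Nat.mul_lt_mul_of_pos_left (c2 H' i') Nat.card_pos
  obtain ⟨a₁, a1, n1, -⟩ := ex_ne2 (c2 H i) 1
  obtain ⟨a₂, a2, n2, n12⟩ := ex_ne2 (c2 H i) a₁
  obtain ⟨b, hb, nb⟩ := iQ.ex
  let N : Subgroup G := ⨅ Q ∈ {Q | I2 P Q ∧ E ≤ Q}, Q
  have mN : ∀ x, x ∈ N ↔ ∀ Q, I2 P Q → E ≤ Q → x ∈ Q := fun x => by simp [N, mem_iInf]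
  have nN : ¬ Q ≤ N := fun k => by
    obtain ⟨y, y1, y2⟩ := w a₁ a1
    obtain ⟨Q', q, i'⟩ := ex_max s.isPGroup (M := P ⊓ centralizer {b}) inf_le_left fun e => by
      have := y2 b hb
      rw [ep_neg nb, (mc.1 (e y1).2).mul_inv_cancel, left_eq_mul] at this
      exact n1 this
    have := iQ.eq_of_le i' fun x hx =>
      (mN x).1 (k hx) Q' i' fun e he => q ⟨c.le he, mc.2 (c.cen e he b hb)⟩
    exact nb (this ▸ q ⟨hb, mc.2 rfl⟩)
  obtain ⟨P₁, p1, i₁, p2⟩ := ex_i2 r1 (iQ.le.trans r2) rQ (N := N) (fun t ht =>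
    mem_normalizer_fintype fun x hx => (mN _).2 fun Q' i' l => by
      have := mem_cj.1 ((mN x).1 hx _ (i'.cj (inv_mem (r3 ht))) fun e he => mem_cj.2 (l (by
        rw [inv_inv]; exact (mem_normalizer_iff.1 (c.norm (r3 ht)) e).1 he)))
      rwa [inv_inv] at this) (fun x hx => (mN x).1 hx Q iQ lQ) nN
  have bb : b * b ∈ P₁ := p1 ((mN _).2 fun Q' i' _ => i'.sq hb)
  have cP : ∀ y ∈ R, ∀ x, y * x * y⁻¹ ∈ P₁ ↔ x ∈ P₁ := fun y hy x =>
    (mem_normalizer_iff.1 (p2 hy) x).symm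
  have bR := r2 hb
  let K : Subgroup G :=
    { carrier := {x | x ∈ P₁ ∨ x * b⁻¹ ∈ P₁}
      one_mem' := Or.inl (one_mem _)
      mul_mem' := by
        rintro x y (hx | hx) (hy | hy)
        · exact Or.inl (mul_mem hx hy)
        · exact Or.inr (by rw [mul_assoc]; exact mul_mem hx hy)
        · refine Or.inr ?_
          have := mul_mem hx ((cP b bR y).2 hy)
          convert this using 1; group
        · refine Or.inl ?_
          have := mul_mem (mul_mem hx ((cP b bR _).2 hy)) bb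
          convert this using 1; group
      inv_mem' := by
        rintro x (hx | hx)
        · exact Or.inl (inv_mem hx)
        · refine Or.inr ?_
          have := mul_mem ((cP _ (inv_mem bR) _).2 (inv_mem hx)) (inv_mem bb)
          convert this using 1; group }
  have bK : b ∈ K := Or.inr (by simp)
  have iK : I2 P K := by
    refine ⟨?_, fun k => i₁.ne fun x hx => (k (iQ.le hx)).elim id fun e => absurd
      (inv_mem_iff.1 ((mul_mem_cancel_left hx).1 (i₁.le e))) nb, fun x hx y hy k k' => ?_⟩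
    · rintro x (hx | hx)
      · exact iQ.le (i₁.le hx)
      · simpa using mul_mem (iQ.le (i₁.le hx)) hb
    have x1 : x ∉ P₁ := fun e => k (Or.inl e)
    have x2 : x * b⁻¹ ∉ P₁ := fun e => k (Or.inr e)
    have y1 : y ∉ P₁ := fun e => k' (Or.inl e)
    have y2 : y * b⁻¹ ∉ P₁ := fun e => k' (Or.inr e)
    have nb' : b⁻¹ ∉ Q := mt inv_mem_iff.1 nb
    have cQ : ∀ z ∈ Q, b * z * b⁻¹ ∈ Q := fun z hz => (mem_normalizer_iff.1 (rQ bR) z).1 hz
    by_cases u : x ∈ Q <;> by_cases v : y ∈ Q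
    · exact Or.inl (i₁.mul _ u _ v x1 y1)
    · exact Or.inr (by
        rw [mul_assoc]; exact i₁.mul _ u _ (iQ.mul _ hy _ (inv_mem hb) v nb') x1 y2)
    · refine Or.inr ?_
      have := i₁.mul _ (iQ.mul _ hx _ (inv_mem hb) u nb') _ (cQ y v) x2 (mt (cP b bR y).1 y1)
      convert this using 1; group
    · refine Or.inl ?_
      have := mul_mem (i₁.mul _ (iQ.mul _ hx _ (inv_mem hb) u nb') _
        (cQ _ (iQ.mul _ hy _ (inv_mem hb) v nb')) x2 (mt (cP b bR _).1 y2)) bb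
      convert this using 1; group
  have EK : E ≤ K := fun x hx => Or.inl (p1 ((mN x).2 fun _ _ l => l hx))
  have fin : ∀ a ∈ H, a ≠ 1 → ∀ t ∈ R, Tv E H a t → t * b * t⁻¹ * b⁻¹ ∉ P₁ := by
    intro a ha a1 t tR ht k
    have w' := h.wit_tv c s iK EK i (i.le ha) ht (r3 tR) (mem_normalizer_fintype (by
      rintro x (hx | hx)
      · exact Or.inl ((cP t tR x).2 hx)
      · refine Or.inr ?_
        have := mul_mem ((cP t tR _).2 hx) k
        convert this using 1; group))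
    refine c.key iQ iK (fun e => nb (e ▸ bK)) le_rfl (E₁ := {1, a}) ?_ wE ?_
      (fun a _ => ex_ne2 (by omega) a) ?_
    · rintro _ (rfl | rfl)
      exacts [one_mem _, i.le ha]
    · rintro _ (rfl | rfl)
      exacts [⟨1, wit_one⟩, w']
    · rw [Nat.card_coe_set_eq, Set.ncard_pair a1.symm]
      omega
  obtain ⟨t₁, t1, ht1⟩ := r4 a₁ a1
  obtain ⟨t₂, t2, ht2⟩ := r4 a₂ a2
  have dQ : ∀ t ∈ R, t * b * t⁻¹ * b⁻¹ ∈ Q := fun t ht =>
    iQ.mul _ ((mem_normalizer_iff.1 (r3 ht) b).1 hb) _ (inv_mem hb)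
      (mt (mem_normalizer_iff.1 (rQ ht) b).2 nb) (mt inv_mem_iff.1 nb)
  refine fin _ (mul_mem a1 a2) (fun e => n12 (mul_left_cancel (e.trans (c.sq _ (i.le a1)).symm)))
    _ (mul_mem t1 t2) (fun x hx => ?_) ?_
  · calc _ = t₁ * (t₂ * x * t₂⁻¹) * t₁⁻¹ := by group
      _ = t₁ * x * t₁⁻¹ * (t₁ * ep H a₂ x * t₁⁻¹) := by rw [ht2 x hx]; group
      _ = _ := by
        rw [ht1 x hx, (mC.1 (ht1.cen i.le le_rfl) _ (ep_mem a2)).symm.mul_inv_cancel, mul_assoc,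
          ep_mul_ep]
  · have := i₁.mul _ ((mem_normalizer_iff.1 (rQ t1) _).1 (dQ _ t2)) _ (dQ _ t1)
      (mt (cP _ t1 _).1 (fin _ a2 n2 _ t2 ht2)) (fin _ a1 n1 _ t1 ht1)
    convert this using 1; group

/-- the `2`-local theorem -/
theorem Hm.rank (h : Hm G) (n : ¬ HasNormalPComplement 2 G) {E : Subgroup G}
    (sq : ∀ e ∈ E, e * e = 1) : Nat.card E ≤ 4 := by
  obtain ⟨M, ⟨m1, m2⟩, hm⟩ := Set.Finite.exists_maximal
    (s := {M : Subgroup G | E ≤ M ∧ ∀ e ∈ M, e * e = 1}) (Set.toFinite _) ⟨E, le_rfl, sq⟩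
  refine (card_le_of_le m1).trans (not_lt.1 fun h8 => ?_)
  have hmax : ∀ x, x * x = 1 → x ∈ centralizer (M : Set G) → x ∈ M := fun x xx hx => by
    refine hm (y := M ⊔ zpowers x) ⟨m1.trans le_sup_left, fun y hy => ?_⟩ le_sup_left
      (mem_sup_right (mem_zpowers x))
    obtain ⟨a, ha, b, hb, rfl⟩ := (mem_sup_left_norm
      (zpowers_le.2 (centralizer_le_normalizer _ hx))).1 hy
    rcases mem_zp xx hb with rfl | rfl
    · rw [mul_one, m2 a ha]
    · rw [mul_assoc, ← mul_assoc b, ← (mC.1 hx a ha).eq, mul_assoc, xx, mul_one, m2 a ha]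
  by_cases k : normalizer (M : Set G) ≤ centralizer (M : Set G)
  · exact n (h.cenE m2 (by omega) hmax k)
  obtain ⟨g, g1, g2⟩ := SetLike.not_le_iff_exists.1 k
  have tv : ∀ H, I2 M H → ∀ c ∈ H, ∃ g, Tv M H c g := fun H i c hc => h.all_tv m2 h8 g1 g2 i hc
  obtain ⟨P, s, l⟩ := exists_isSylowIn_ge (p := 2) (H := centralizer (M : Set G))
    (fun a ha b hb => (comm_sq m2 ha b hb).symm) (pg_of_sq m2)
  by_cases e : P ≤ M
  · exact h.case_eq m2 h8 (le_antisymm e l ▸ s) tv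
  · exact h.case_lt ⟨l, m2, fun e he x hx => mC.1 (s.le hx) e he,
      fun x hx k => hmax x k (s.le hx)⟩ h8 s e tv

end Cfsg.Agent.H7.HG
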