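import Cfsg.Agent.H7.HG2

/-! Homogeneous finite groups: transvections of an elementary abelian `2`-subgroup. -/

set_option autoImplicit false
set_option linter.unusedSectionVars false

namespace Cfsg.Agent.H7.HG

open Subgroup Cfsg.Agent.H7.CA Cfsg.Agent.H83

universe u
variable {G : Type u} [Group G] [Finite G]

/-- `g` induces the transvection with axis `H` and centre `c`. -/
def Tv (E H : Subgroup G) (c g : G) : Prop := ∀ x ∈ E, g * x * g⁻¹ = x * ep H c x

theorem comm_sq {E : Subgroup G} (sq : ∀ e ∈ E, e * e = 1) {a : G} (ha : a ∈ E) :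
    ∀ b ∈ E, Commute a b := fun b hb => by
  have := inv_eq_of_mul_eq_one_right (sq _ (mul_mem ha hb))
  rw [mul_inv_rev, inv_eq_of_mul_eq_one_right (sq a ha),
    inv_eq_of_mul_eq_one_right (sq b hb)] at this
  exact this.symm

theorem mem_zp {a x : G} (aa : a * a = 1) (h : x ∈ zpowers a) : x = 1 ∨ x = a := by
  obtain ⟨k, rfl⟩ := mem_powers_iff_mem_zpowers.2 h
  obtain ⟨j, rfl | rfl⟩ := k.even_or_odd'
  · exact Or.inl (by simp only [pow_mul, pow_two, aa, one_pow])
  · exact Or.inr (by simp only [pow_succ, pow_mul, pow_zero, one_mul, aa, one_pow])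

theorem ex_hyp {E : Subgroup G} (sq : ∀ e ∈ E, e * e = 1) (h8 : 4 < Nat.card E) {c d : G}
    (hc : c ∈ E) (hd : d ∈ E) : ∃ H, I2 E H ∧ c ∈ H ∧ d ∈ H := by
  classical
  have cc := sq c hc
  have dd := sq d hd
  have cd := (comm_sq sq hc d hd).eq
  let U : Subgroup G :=
    { carrier := {1, c, d, c * d}
      one_mem' := Or.inl rfl
      mul_mem' := by
        have e1 : c * (c * d) = d := by rw [← mul_assoc, cc, one_mul]
        have e2 : c * d * d = c := by rw [mul_assoc, dd, mul_one]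
        have e3 : d * (c * d) = c := by rw [← mul_assoc, ← cd, e2]
        have e4 : c * d * c = d := by rw [mul_assoc, ← cd, e1]
        have e5 := sq _ (mul_mem hc hd)
        rintro x y (rfl | rfl | rfl | rfl) (rfl | rfl | rfl | rfl) <;>
          simp [cc, dd, ← cd, e1, e2, e3, e4, e5]
      inv_mem' := by
        rintro x (rfl | rfl | rfl | rfl)
        · simp
        · simp [inv_eq_of_mul_eq_one_right cc]
        · simp [inv_eq_of_mul_eq_one_right dd]
        · rw [inv_eq_of_mul_eq_one_right (sq _ (mul_mem hc hd))]; simp }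
  have l : U ≤ E := by
    rintro x (rfl | rfl | rfl | rfl)
    exacts [one_mem _, hc, hd, mul_mem hc hd]
  obtain ⟨H, a, i⟩ := ex_max (pg_of_sq sq) l fun k => by
    have k1 : (E : Set G).ncard ≤ ({1, c, d, c * d} : Set G).ncard :=
      Set.ncard_le_ncard k (Set.toFinite _)
    have k2 := Set.ncard_insert_le (1 : G) {c, d, c * d}
    have k3 := Set.ncard_insert_le c {d, c * d}
    have k4 := Set.ncard_insert_le d {c * d}
    rw [Set.ncard_singleton] at k4
    have : Nat.card E = (E : Set G).ncard := rfl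
    omega
  exact ⟨H, i, a (by simp [U, ← mem_carrier]), a (by simp [U, ← mem_carrier])⟩

/-- a hyperplane containing `U` and missing `c` -/
theorem ex_hyp' {E U : Subgroup G} (sq : ∀ e ∈ E, e * e = 1) (l : U ≤ E) {c : G} (hc : c ∈ E)
    (n : c ∉ U) : ∃ H, I2 E H ∧ U ≤ H ∧ c ∉ H := by
  obtain ⟨H, ⟨q1, q2, q3⟩, hm⟩ := Set.Finite.exists_maximal
    (s := {Q : Subgroup G | U ≤ Q ∧ Q ≤ E ∧ c ∉ Q}) (Set.toFinite _) ⟨U, le_rfl, l, n⟩
  have k : ∀ x ∈ E, x ∉ H → x * c ∈ H := fun x hx nx => by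
    let K : Subgroup G :=
      { carrier := {y | y ∈ H ∨ x * y ∈ H}
        one_mem' := Or.inl (one_mem _)
        mul_mem' := by
          rintro y z (hy | hy) (hz | hz)
          · exact Or.inl (mul_mem hy hz)
          · exact Or.inr (by
              rw [← mul_assoc, (comm_sq sq hx y (q2 hy)).eq, mul_assoc]; exact mul_mem hy hz)
          · exact Or.inr (by rw [← mul_assoc]; exact mul_mem hy hz)
          · refine Or.inl ?_
            have := mul_mem hy hz
            rwa [mul_assoc, ← mul_assoc y,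
              ← (comm_sq sq hx y ((mul_mem_cancel_left hx).1 (q2 hy))).eq, ← mul_assoc,
              ← mul_assoc, sq x hx, one_mul] at this
        inv_mem' := by
          rintro y (hy | hy)
          · exact Or.inl (inv_mem hy)
          · exact Or.inr (by
              rwa [inv_eq_of_mul_eq_one_right (sq y ((mul_mem_cancel_left hx).1 (q2 hy)))]) }
    by_contra k
    exact nx (hm (y := K) ⟨fun y hy => Or.inl (q1 hy), fun y hy => hy.elim (fun a => q2 a)
      fun a => (mul_mem_cancel_left hx).1 (q2 a), fun a => a.elim q3 k⟩ (fun y hy => Or.inl hy)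
      (Or.inr (by rw [sq x hx]; exact one_mem _)))
  refine ⟨H, ⟨q2, fun e => q3 (e hc), fun x hx y hy a b => ?_⟩, q1, q3⟩
  have := mul_mem (k x hx a) (k y hy b)
  rwa [mul_assoc, ← mul_assoc c, (comm_sq sq hc y hy).eq, mul_assoc, sq c hc, mul_one] at this

theorem Tv.norm {E H : Subgroup G} {c g : G} (t : Tv E H c g) (hc : c ∈ E) :
    g ∈ normalizer (E : Set G) :=
  mem_normalizer_fintype fun x hx => t x hx ▸ mul_mem hx (ep_mem hc)

theorem Tv.normK {E H K : Subgroup G} {c g : G} (t : Tv E H c g) (l : K ≤ E) (hc : c ∈ K) :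
    g ∈ normalizer (K : Set G) :=
  mem_normalizer_fintype fun x hx => t x (l hx) ▸ mul_mem hx (ep_mem hc)

theorem Tv.cen {E H K : Subgroup G} {c g : G} (t : Tv E H c g) (l : K ≤ E) (l' : K ≤ H) :
    g ∈ centralizer (K : Set G) := fun x hx => by
  have := t x (l hx)
  rw [ep_pos (l' hx), mul_one, mul_inv_eq_iff_eq_mul] at this
  exact this.symm

theorem Tv.of_mul {E H : Subgroup G} {c g n : G} (t : Tv E H c (n * g))
    (hn : n ∈ centralizer (E : Set G)) (hc : c ∈ E) : Tv E H c g := fun x hx => by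
  have := (mC.1 (inv_mem hn) _ (mul_mem hx (ep_mem (Q := H) (x := x) hc))).symm.mul_inv_cancel
  rw [← this, ← t x hx]; group

/-- one transvection is induced -/
theorem Hm.ex_tv (h : Hm G) {E : Subgroup G} (sq : ∀ e ∈ E, e * e = 1) (h8 : 4 < Nat.card E)
    {n : G} (hn : n ∈ normalizer (E : Set G)) (hn' : n ∉ centralizer (E : Set G)) :
    ∃ H c g, I2 E H ∧ c ∈ H ∧ c ≠ 1 ∧ Tv E H c g := by
  obtain ⟨c, hc, nc⟩ : ∃ c ∈ E, n * c * n⁻¹ ≠ c := by
    by_contra k
    push Not at k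
    exact hn' fun x hx => (mul_inv_eq_iff_eq_mul.1 (k x hx)).symm
  have c1 : c ≠ 1 := by rintro rfl; simp at nc
  have hd := (mem_normalizer_iff.1 hn c).1 hc
  obtain ⟨H, i, cH, dH⟩ := ex_hyp sq h8 hc hd
  obtain ⟨g, hg⟩ := h.real i cH (sq c hc) (comm_sq sq hc) hn
  have k : ∀ y ∈ E, ∃ z, g * y * g⁻¹ = y * (ep H c y * ep H (n * c * n⁻¹) z) := fun y hy => by
    have k := hg _ (mul_mem hy (ep_mem (Q := H) (x := y) hc))
    rw [ep_congr (mul_mem_cancel_right (ep_mem cH)), mul_assoc y, ep_sq (sq c hc), mul_one,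
      mul_assoc y] at k
    exact ⟨_, k⟩
  have gE : g ∈ normalizer (E : Set G) := mem_normalizer_fintype fun y hy => by
    obtain ⟨z, e⟩ := k y hy
    exact e ▸ mul_mem hy (mul_mem (ep_mem hc) (ep_mem hd))
  have gH : g ∈ normalizer (H : Set G) := mem_normalizer_fintype fun y hy => by
    obtain ⟨z, e⟩ := k y (i.le hy)
    exact e ▸ mul_mem hy (mul_mem (ep_mem cH) (ep_mem dH))
  by_cases a : ∃ a ∈ H, g * a * g⁻¹ ≠ a
  · obtain ⟨a, ha, na⟩ := a
    obtain ⟨g', hg'⟩ := h.real' i ha (sq a (i.le ha)) (comm_sq sq (i.le ha)) gE gH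
    exact ⟨H, _, g', i, mul_mem ha ((mem_normalizer_iff.1 gH a).1 ha),
      fun e => na (mul_left_cancel (e.trans (sq a (i.le ha)).symm)), hg'⟩
  push Not at a
  obtain ⟨y, hy, ny⟩ := i.ex
  obtain ⟨z, e⟩ := k y hy
  refine ⟨H, _, g, i, mul_mem (ep_mem (Q := H) (x := y) cH) (ep_mem (Q := H) (x := z) dH), ?_,
    fun x hx => ?_⟩
  · rw [ep_neg ny]
    by_cases b : z ∈ H
    · rwa [ep_pos b, mul_one]
    · rw [ep_neg b]
      exact fun e => nc (mul_left_cancel (e.trans (sq c hc).symm))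
  by_cases b : x ∈ H
  · rw [ep_pos b, mul_one, a x b]
  · have m := i.mul _ hx _ (inv_mem hy) b (mt inv_mem_iff.1 ny)
    rw [ep_neg b]
    calc _ = g * (x * y⁻¹) * g⁻¹ * (g * y * g⁻¹) := by group
      _ = _ := by rw [a _ m, e]; group

theorem Tv.map {E H H' H₁ : Subgroup G} (sq : ∀ e ∈ E, e * e = 1) {a c g : G} (t : Tv E H c g)
    {α : G ≃* G} (hα : ∀ x ∈ E, α x = x * ep H₁ a x) (aE : a ∈ E) (aH : a ∈ H₁)
    (k : ∀ y ∈ E, y * ep H₁ a y ∈ H ↔ y ∈ H') : Tv E H' (α c) (α g) := fun y hy => by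
  have m := mul_mem hy (ep_mem (Q := H₁) (x := y) aE)
  have e := hα _ m
  rw [ep_congr (mul_mem_cancel_right (ep_mem aH)), mul_assoc y, ep_sq (sq a aE), mul_one] at e
  have := congrArg α (t _ m)
  rwa [map_mul α (g * _), map_mul α g, map_mul α (y * _), map_inv, e, ep_map,
    ep_congr (k y hy)] at this

/-- all transvections are induced -/
theorem Hm.all_tv (h : Hm G) {E : Subgroup G} (sq : ∀ e ∈ E, e * e = 1) (h8 : 4 < Nat.card E)
    {n : G} (hn : n ∈ normalizer (E : Set G)) (hn' : n ∉ centralizer (E : Set G))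
    {H : Subgroup G} (i : I2 E H) {c : G} (hc : c ∈ H) : ∃ g, Tv E H c g := by
  classical
  have s1 : ∀ H c d, I2 E H → c ∈ H → c ≠ 1 → d ∈ H → (∃ g, Tv E H c g) → ∃ g, Tv E H d g := by
    rintro H c d i hc c1 hd ⟨g, t⟩
    by_cases d1 : d = 1
    · exact ⟨1, fun x _ => by rw [d1, ep_one]; group⟩
    have m := mul_mem hc hd
    have mm := sq _ (i.le m)
    obtain ⟨H₁, i₁, l, n⟩ := ex_hyp' sq (zpowers_le.2 (i.le m)) (i.le hc) fun k =>
      (mem_zp mm k).elim c1 fun k => d1 (left_eq_mul.1 k)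
    have m1 := l (mem_zpowers _)
    obtain ⟨α, hα⟩ := h.cen i₁ m1 mm (comm_sq sq (i.le m))
    have := t.map sq hα (i.le m) m1 fun y _ => mul_mem_cancel_right (ep_mem m)
    rw [hα c (i.le hc), ep_neg n, ← mul_assoc, sq c (i.le hc), one_mul] at this
    exact ⟨_, this⟩
  have s2 : ∀ H H' c, I2 E H → I2 E H' → c ∈ H → c ∈ H' → (∃ g, Tv E H c g) →
      ∃ g, Tv E H' c g := by
    rintro H H' c i i' hc hc' ⟨g, t⟩
    by_cases e : H = H'
    · exact ⟨g, e ▸ t⟩
    obtain ⟨x, x1, x2⟩ := i.ex_ne i' e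
    obtain ⟨y, y1, y2⟩ := i'.ex_ne i (Ne.symm e)
    have m := mul_mem (i.le x1) (i'.le y1)
    have a1 : x * y ∉ H := mt (mul_mem_cancel_left x1).1 y2
    have a2 : x * y ∉ H' := mt (mul_mem_cancel_right y1).1 x2
    have m1 : x * y ∈ i.sm i' := ⟨m, iff_of_false a1 a2⟩
    obtain ⟨α, hα⟩ := h.cen (i.sm_i2 i' e) m1 (sq _ m) (comm_sq sq m)
    have := t.map (H' := H') sq hα m m1 fun z hz => by
      by_cases b : z ∈ i.sm i'
      · rw [ep_pos b, mul_one]; exact b.2
      · rw [ep_neg b, i.mul_iff hz m]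
        rw [I2.mem_sm] at b
        tauto
    rw [hα c (i.le hc), ep_pos (show c ∈ i.sm i' from ⟨i.le hc, iff_of_true hc hc'⟩),
      mul_one] at this
    exact ⟨_, this⟩
  obtain ⟨H₀, c₀, g, i₀, a, b, t⟩ := h.ex_tv sq h8 hn hn'
  have := Fintype.ofFinite E
  obtain ⟨x, y, ne, e⟩ := Fintype.exists_ne_map_eq_of_card_lt
    (fun x : E => ((decide ((x : G) ∈ H₀), decide ((x : G) ∈ H)) : Bool × Bool))
    (by rwa [← Nat.card_eq_fintype_card (α := E)])
  simp only [Prod.mk.injEq, decide_eq_decide] at e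
  have m₀ := (i₀.mul_iff x.2 y.2).2 e.1
  have m := (i.mul_iff x.2 y.2).2 e.2
  exact s1 H _ c i m (fun k => ne (Subtype.ext (mul_right_cancel (k.trans (sq _ y.2).symm)))) hc
    (s2 H₀ H _ i₀ i m₀ m (s1 H₀ c₀ _ i₀ a b m₀ ⟨g, t⟩))

end Cfsg.Agent.H7.HG
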