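import Cfsg.Agent.H7.HG5
import Cfsg.Agent.H7.HG3
import Cfsg.Agent.S0434
import Cfsg.Agent.S0435

/-! Homogeneous finite groups: `A₇`, its double cover, and the simple group of order 7920. -/

set_option autoImplicit false
set_option linter.unusedSectionVars false

namespace Cfsg.Agent.H7.HG

open Subgroup Cfsg.Agent.H7.CA Cfsg.Agent.H83 Equiv Equiv.Perm

universe u
variable {G : Type u} [Group G]

theorem noA7 (e : G ≃* alternatingGroup (Fin 7))
    (k : ∀ x y : G, orderOf x = 3 → orderOf y = 3 → ∃ β : G ≃* G, β x = y) : False := by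
  let x : alternatingGroup (Fin 7) := ⟨swap 0 1 * swap 1 2, mem_alternatingGroup.2 (by decide)⟩
  let y : alternatingGroup (Fin 7) := ⟨swap 0 1 * swap 1 2 * (swap 3 4 * swap 4 5),
    mem_alternatingGroup.2 (by decide)⟩
  let t : alternatingGroup (Fin 7) := ⟨swap 3 4 * swap 5 6, mem_alternatingGroup.2 (by decide)⟩
  obtain ⟨β, hβ⟩ := k (e.symm x) (e.symm y)
    (by rw [MulEquiv.orderOf_eq]; exact orderOf_eq_prime (by decide) (by decide))
    (by rw [MulEquiv.orderOf_eq]; exact orderOf_eq_prime (by decide) (by decide))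
  let γ := e.symm.trans (β.trans e)
  have g : γ x = y := by simp [γ, hβ]
  have c : Commute (γ t) y := g ▸ (show Commute t x from by unfold Commute SemiconjBy; decide).map γ
  have s : γ t * γ t = 1 := by rw [← map_mul, show t * t = 1 by decide, map_one]
  have n : γ t ≠ 1 := fun h => absurd ((map_eq_one_iff _ γ.injective).1 h) (by decide)
  generalize γ t = w at c s n
  have c' : ∀ i, w.1 (y.1 i) = y.1 (w.1 i) := fun i => congrArg (fun z => z.1 i) c.eq
  have s' : ∀ i, w.1 (w.1 i) = i := fun i => congrArg (fun z => z.1 i) s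
  let f : Fin 7 → Fin 7 → Fin 7 → Fin 7 → Fin 7 := fun a b d =>
    ![a, y.1 a, y.1 (y.1 a), b, y.1 b, y.1 (y.1 b), d]
  have key : ∀ a b d, y.1 d = d → (∀ i, f a b d (f a b d i) = i) → (∀ i, f a b d i = i) ∨
      (∀ i, f a b d i = (swap 0 3 * swap 1 4 * swap 2 5 : Perm _) i) ∨
      (∀ i, f a b d i = (swap 0 4 * swap 1 5 * swap 2 3 : Perm _) i) ∨
      (∀ i, f a b d i = (swap 0 5 * swap 1 3 * swap 2 4 : Perm _) i) := by decide +kernel
  have ew : ∀ i, f (w.1 0) (w.1 3) (w.1 6) i = w.1 i := fun i => by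
    fin_cases i
    exacts [rfl, (c' 0).symm, (congrArg y.1 (c' 0).symm).trans (c' 1).symm, rfl, (c' 3).symm,
      (congrArg y.1 (c' 3).symm).trans (c' 4).symm, rfl]
  have sg := mem_alternatingGroup.1 w.2
  rcases key _ _ _ (c' 6).symm (fun i => by rw [ew, ew, s']) with h | h | h | h <;>
    simp only [ew] at h
  · exact n (Subtype.ext (Equiv.ext h))
  all_goals rw [Equiv.ext h] at sg; exact absurd sg (by decide)

theorem Hm.lift3 (h : Hm G) (hz : Nat.card (center G) = 2) (x y : G ⧸ center G)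
    (hx : orderOf x = 3) (hy : orderOf y = 3) : ∃ β : (G ⧸ center G) ≃* (G ⧸ center G), β x = y := by
  have l : ∀ x : G ⧸ center G, orderOf x = 3 → ∃ a, pz G a = x ∧ orderOf a = 3 := fun x hx => by
    obtain ⟨a, rfl⟩ := pz_surj x
    have k : pz G a ^ 3 = 1 := hx ▸ pow_orderOf_eq_one _
    have m : a ^ 3 ∈ center G := pz_one.1 k
    have e : (a ^ 3) ^ 2 = 1 := congrArg Subtype.val (hz ▸ pow_card_eq_one' (x := (⟨_, m⟩ : center G)))
    have e' : pz G (a ^ 4) = pz G a := by rw [map_pow, pow_succ, k, one_mul]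
    refine ⟨a ^ 4, e', orderOf_eq_prime (by rw [← one_pow 2, ← e, ← pow_mul, ← pow_mul, ← pow_mul])
      fun e => ?_⟩
    rw [← e', e, map_one, orderOf_one] at hx
    exact absurd hx (by norm_num)
  obtain ⟨a, rfl, oa⟩ := l x hx
  obtain ⟨b, rfl, ob⟩ := l y hy
  obtain ⟨φ, rfl⟩ := h.elt (oa.trans ob.symm)
  exact ⟨H31.quotientCenterCongr φ, rfl⟩

variable [Finite G]

theorem Hm.tw3 (h : Hm G) {P : Subgroup G} (s : IsSylowIn 3 P ⊤) (c9 : Nat.card P = 9) {g v : G}
    (gP : g ∈ normalizer (P : Set G)) (gg : g * g = 1) (vP : v ∈ P) (v1 : v ≠ 1)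
    (gv : Commute g v) : g ∈ centralizer (P : Set G) := by
  have : Fact (Nat.Prime 3) := ⟨Nat.prime_three⟩
  by_contra n
  have cm : ∀ a ∈ P, ∀ b ∈ P, Commute a b := fun a ha b hb => congrArg Subtype.val
    ((IsPGroup.isMulCommutative_of_card_eq_prime_sq (p := 3) c9).is_comm.comm ⟨a, ha⟩ ⟨b, hb⟩)
  have gi : g⁻¹ = g := inv_eq_of_mul_eq_one_right gg
  have cj : ∀ x ∈ P, g * x * g⁻¹ ∈ P := fun x => (mem_normalizer_iff.1 gP x).1
  have c3 : ∀ K : Subgroup G, K ≤ P → K ≠ ⊥ → ¬ P ≤ K → Nat.card K = 3 := fun K l a b => by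
    obtain ⟨i, hi, e⟩ := (Nat.dvd_prime_pow Nat.prime_three (m := 2)).1
      ((card_dvd_of_le l).trans (by rw [c9]; rfl))
    interval_cases i
    · exact absurd (card_eq_one.1 e) a
    · exact e
    · exact absurd (eq_of_le_of_card_ge l (by rw [c9, e]; rfl)).ge b
  have o3 : ∀ K : Subgroup G, Nat.card K = 3 → ∀ x ∈ K, x ≠ 1 → orderOf x = 3 ∧ K ≤ zpowers x :=
    fun K c x hx x1 => by
      have o : orderOf x = 3 := orderOf_eq_prime
        (congrArg Subtype.val (c ▸ pow_card_eq_one' (x := (⟨x, hx⟩ : K)))) x1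
      exact ⟨o, (eq_of_le_of_card_ge (zpowers_le.2 hx) (by rw [Nat.card_zpowers, o, c])).ge⟩
  let π : G → G := fun x => x⁻¹ * (g * x * g⁻¹)
  have πP : ∀ x ∈ P, π x ∈ P := fun x hx => mul_mem (inv_mem hx) (cj x hx)
  have πm : ∀ x ∈ P, ∀ y ∈ P, π (x * y) = π x * π y := fun x hx y hy => by
    calc _ = y⁻¹ * π x * (g * y * g⁻¹) := by simp only [π]; group
      _ = _ := by rw [(cm _ (inv_mem hy) _ (πP x hx)).eq, mul_assoc]
  have πi : ∀ x ∈ P, g * π x * g⁻¹ = (π x)⁻¹ := fun x hx => by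
    calc _ = (g * x * g⁻¹)⁻¹ * (g * g * x * (g * g)⁻¹) := by simp only [π]; group
      _ = _ := by rw [gg]; simp only [π]; group
  let I : Subgroup G :=
    { carrier := {x | x ∈ P ∧ g * x * g⁻¹ = x⁻¹}
      one_mem' := ⟨one_mem _, by simp⟩
      mul_mem' := fun {x y} hx hy => ⟨mul_mem hx.1 hy.1, by
        rw [(cm _ hx.1 _ hy.1).mul_inv, ← hx.2, ← hy.2]; group⟩
      inv_mem' := fun {x} hx => ⟨inv_mem hx.1, by rw [← conj_inv, hx.2]⟩ }
  obtain ⟨w, wP, nw⟩ : ∃ w ∈ P, π w ≠ 1 := by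
    by_contra k
    push Not at k
    exact n fun x hx => (mul_inv_eq_iff_eq_mul.1 (inv_mul_eq_one.1 (k x hx)).symm).symm
  obtain ⟨ov, -⟩ := o3 _ (c3 (P ⊓ centralizer {g}) inf_le_left
    (fun e => v1 (mem_bot.1 (e ▸ ⟨vP, mc.2 gv.symm⟩))) fun e => n fun x hx => mc.1 (e hx).2) v
    ⟨vP, mc.2 gv.symm⟩ v1
  obtain ⟨ow, lw⟩ := o3 _ (c3 I (fun x hx => hx.1)
    (fun e => nw (mem_bot.1 (e ▸ ⟨πP w wP, πi w wP⟩))) fun e => by
      have := (e vP).2
      rw [gv.mul_inv_cancel, eq_inv_iff_mul_eq_one, ← pow_two, ← orderOf_dvd_iff_pow_eq_one,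
        ov] at this
      exact absurd this (by norm_num)) _ ⟨πP w wP, πi w wP⟩ nw
  obtain ⟨φ, hφ⟩ := h.elt (ow.trans ov.symm)
  have fv : ∀ x ∈ P, φ (π x) ∈ zpowers v := fun x hx => by
    obtain ⟨k, hk⟩ := lw ⟨πP x hx, πi x hx⟩
    exact ⟨k, by rw [← hk, map_zpow, hφ]⟩
  have fP : ∀ x ∈ P, φ (π x) ∈ P := fun x hx => zpowers_le.2 vP (fv x hx)
  have fg : ∀ x ∈ P, g * φ (π x) * g⁻¹ = φ (π x) := fun x hx =>
    (mc.1 (zpowers_le.2 (mc.2 gv.symm) (fv x hx))).symm.mul_inv_cancel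
  have f3 : ∀ x ∈ P, φ (π x) ^ 3 = 1 := fun x hx => by
    obtain ⟨k, hk⟩ := fv x hx
    rw [← hk, ← ov, ← zpow_natCast, ← zpow_mul, mul_comm, zpow_mul, zpow_natCast,
      pow_orderOf_eq_one, one_zpow]
  have ff : ∀ x ∈ P, π (φ (π x)) = 1 := fun x hx => inv_mul_eq_one.2 (fg x hx).symm
  let u : P →* G := MonoidHom.mk' (fun x => x * φ (π x)) fun x y => by
    rw [Subgroup.coe_mul, πm _ x.2 _ y.2, map_mul, mul_assoc, ← mul_assoc (y : G),
      (cm _ y.2 _ (fP _ x.2)).eq]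
    simp only [mul_assoc]
  obtain ⟨α, hα⟩ := h.ext_inj P.subtype_injective (v := u) ((injective_iff_map_eq_one u).2
    fun x e => by
      have e : (x : G) * φ (π x) = 1 := e
      have k := πm _ x.2 _ (fP _ x.2)
      rw [e, ff _ x.2, mul_one] at k
      rw [← k] at e
      exact Subtype.ext (by simpa [π] using e))
  replace hα : ∀ x ∈ P, α x = x * φ (π x) := fun x hx => hα ⟨x, hx⟩
  have act : ∀ x ∈ P, g⁻¹ * α g * (x * φ (π x)) * (g⁻¹ * α g)⁻¹ = x * (φ (π x))⁻¹ :=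
    fun x hx => by
      have k := hα _ (cj x hx)
      have k2 : π (g * x * g⁻¹) = (π x)⁻¹ := by rw [← πi x hx]; simp only [π]; group
      rw [k2, map_mul, map_mul, hα x hx, map_inv, map_inv] at k
      calc _ = g⁻¹ * (α g * (x * φ (π x)) * (α g)⁻¹) * g := by group
        _ = _ := by
          rw [k]
          conv_lhs => rw [← fg x hx]
          group
  generalize g⁻¹ * α g = H at act
  have act' : ∀ x ∈ P, H * x * H⁻¹ = x * φ (π x) := fun x hx => by
    have m := mul_mem hx (fP x hx)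
    have k := act _ (mul_mem m (fP x hx))
    rw [πm _ m _ (fP x hx), πm _ hx _ (fP x hx), ff x hx, mul_one, mul_one,
      mul_inv_cancel_right, mul_assoc x, mul_assoc x, ← pow_three', f3 x hx, mul_one] at k
    exact k
  have Hv : H * v * H⁻¹ = v := by
    rw [act' v vP, ← hφ, ff w wP, map_one, mul_one]
  have actn : ∀ n : ℕ, H ^ n * w * (H ^ n)⁻¹ = w * v ^ n := fun n => by
    induction n with
    | zero => simp
    | succ n ih =>
      calc _ = H * (H ^ n * w * (H ^ n)⁻¹) * H⁻¹ := by rw [pow_succ']; group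
        _ = H * w * H⁻¹ * (H * v * H⁻¹) ^ n := by rw [ih, conj_pow]; group
        _ = _ := by rw [Hv, act' w wP, hφ, pow_succ', mul_assoc]
  obtain ⟨m, k, m1, m2⟩ := ppart H 3 Nat.prime_three
  have := actn m
  rw [(cm _ (s.mem_of_norm trivial m2 (pow_mem (mem_normalizer_fintype fun x hx =>
    act' x hx ▸ mul_mem hx (fP x hx)) m)) w wP).mul_inv_cancel, left_eq_mul,
    ← orderOf_dvd_iff_pow_eq_one, ov] at this
  exact Nat.prime_three.coprime_iff_not_dvd.1 m1.symm this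

theorem card_syl {p k m : ℕ} [hp : Fact p.Prime] {T H : Subgroup G} (s : IsSylowIn p T H)
    (c : Nat.card H = p ^ k * m) (n : ¬ p ∣ m) : Nat.card T = p ^ k := by
  have e := (s.toSylow).card_eq_multiplicity
  rw [s.coe_toSylow, Nat.card_congr (subgroupOfEquivOfLe s.le).toEquiv, c,
    Nat.factorization_mul (pow_ne_zero _ hp.out.ne_zero) (by rintro rfl; simp at n),
    Finsupp.add_apply, Nat.factorization_eq_zero_of_not_dvd n, hp.out.factorization_pow] at e
  simpa using e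

theorem noM11 (h : Hm G) (m : IsM11 G) {A : Subgroup G} (sq : ∀ e ∈ A, e * e = 1)
    (hA : 2 < Nat.card A) : False := by
  have : Fact (Nat.Prime 3) := ⟨Nat.prime_three⟩
  obtain ⟨P⟩ := (inferInstance : Nonempty (Sylow 3 G))
  obtain ⟨S⟩ := (inferInstance : Nonempty (Sylow 2 G))
  have s := isSylowIn_of_sylow P le_top
  have c9 : Nat.card P = 9 := card_syl s (k := 2) (m := 880) (card_top.trans m.2) (by norm_num)
  obtain ⟨T, sT, -⟩ := exists_isSylowIn_ge (p := 2) (H := normalizer ((P : Subgroup G) : Set G))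
    bot_le IsPGroup.of_bot
  have sT' := (isSylowIn_of_sylow S le_top).of_card_ge le_top sT.isPGroup (by
    rw [card_syl sT (k := 4) (m := 9) (S0434.result m P) (by norm_num),
      card_syl (isSylowIn_of_sylow S le_top) (k := 4) (m := 495) (card_top.trans m.2) (by norm_num)])
  obtain ⟨c, -, hc⟩ := sT'.exists_conj_le le_top (pg_of_sq sq)
  have l := hc.trans sT.le
  have sq' : ∀ e ∈ cj c A, e * e = 1 := by
    rintro _ ⟨e, he, rfl⟩
    rw [← map_mul, sq e he, map_one]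
  have hA' : 2 < Nat.card (cj c A) := by
    rwa [card_map_of_injective (MulAut.conj c).injective]
  generalize cj c A = B at l sq' hA'
  have nc : ∀ g ∈ B, g ≠ 1 → g ∉ centralizer ((P : Subgroup G) : Set G) := fun g hg g1 k => by
    have := card_dvd_of_le (show (P : Subgroup G) ≤ centralizer {g} from
      fun x hx => mc.2 (mC.1 k x hx))
    rw [c9, S0435.result m g (orderOf_eq_prime (by rw [pow_two, sq' g hg]) g1)] at this
    exact absurd this (by norm_num)
  have inv : ∀ g ∈ B, g ≠ 1 → ∀ x ∈ (P : Subgroup G), g * x * g⁻¹ = x⁻¹ := fun g hg g1 x hx => by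
    have m1 := (mem_normalizer_iff.1 (l hg) x).1 hx
    have cm : Commute x (g * x * g⁻¹) := congrArg Subtype.val
      ((IsPGroup.isMulCommutative_of_card_eq_prime_sq (p := 3) c9).is_comm.comm ⟨x, hx⟩ ⟨_, m1⟩)
    by_contra k
    refine nc g hg g1 (h.tw3 s c9 (l hg) (sq' g hg) (mul_mem hx m1)
      (fun e => k (eq_inv_of_mul_eq_one_right e)) ?_)
    calc _ = g * x * g⁻¹ * (g * g * x * (g * g)⁻¹) * g := by group
      _ = _ := by rw [sq' g hg, inv_one, one_mul, mul_one, ← cm.eq]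
  obtain ⟨a, ha, a1, -⟩ := ex_ne2 hA' 1
  obtain ⟨b, hb, b1, ba⟩ := ex_ne2 hA' a
  refine nc _ (mul_mem ha hb) (fun e => ba (mul_left_cancel (e.trans (sq' a ha).symm)))
    fun x hx => ?_
  symm
  rw [← mul_inv_eq_iff_eq_mul]
  calc _ = a * (b * x * b⁻¹) * a⁻¹ := by group
    _ = _ := by rw [inv b hb b1 x hx, inv a ha a1 _ (inv_mem hx), inv_inv]

end Cfsg.Agent.H7.HG
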