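import Cfsg.Agent.H7.HG5
import Cfsg.Agent.H73.OutPSL

/-! Homogeneous finite groups: the two-dimensional linear groups. -/

set_option autoImplicit false
set_option linter.unusedSectionVars false

namespace Cfsg.Agent.H7.HG

open Subgroup Cfsg.Agent.H7.CA Matrix
open scoped MatrixGroups

universe u
variable {G : Type u} [Group G] {F : Type*} [Field F]

theorem pz_eq_smul {s t : SL(2, F)} (h : pz _ s = pz _ t) :
    ∃ r : F, r ^ 2 = 1 ∧ t.1 = r • s.1 := by
  obtain ⟨r, h1, h2⟩ := Matrix.SpecialLinearGroup.mem_center_iff.1 (QuotientGroup.eq.1 h)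
  refine ⟨r, h1, ?_⟩
  have : t = s * (s⁻¹ * t) := by group
  rw [this, Matrix.SpecialLinearGroup.coe_mul, ← h2, scalar_apply, ← smul_eq_mul_diagonal]

theorem aut_form [Finite F] (hK : ∀ x : F, ∃ n : ℤ, n = x) (β : PSL(2, F) ≃* PSL(2, F)) :
    ∃ g : GL (Fin 2) F, ∀ s t : SL(2, F), β (pz _ s) = pz _ t →
      ∃ r : F, r ^ 2 = 1 ∧ t.1 = r • (g.1 * s.1 * (g⁻¹).1) := by
  obtain ⟨γ, h | ⟨h, -⟩⟩ := H73.psl_aut_cases' (ι := Fin 2) (F := F) (by simp) β
  swap
  · simp at h
  have k := H73.isInducedBySemilinearPSL_iff.2 h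
  refine ⟨γ.left, fun s t e => ?_⟩
  have m : s.1.map γ.right = s.1 := by
    ext i j
    obtain ⟨n, hn⟩ := hK (s.1 i j)
    rw [map_apply, ← hn, map_intCast]
  let s' : SL(2, F) := ⟨γ.left.1 * s.1 * (γ.left⁻¹).1, by
    rw [det_mul, det_mul, s.2, mul_one, ← det_mul, Units.mul_inv, det_one]⟩
  exact pz_eq_smul (s := s') ((k s s' (by rw [m])).symm.trans e)

theorem aut_tr [Finite F] (hK : ∀ x : F, ∃ n : ℤ, n = x) {β : PSL(2, F) ≃* PSL(2, F)}
    {s t : SL(2, F)} (e : β (pz _ s) = pz _ t) : t.1.trace ^ 2 = s.1.trace ^ 2 := by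
  obtain ⟨g, hg⟩ := aut_form hK β
  obtain ⟨r, h1, h2⟩ := hg s t e
  rw [h2, trace_smul, trace_units_conj, smul_eq_mul, mul_pow, h1, one_mul]

/-- upper unitriangular matrices -/
def up (F : Type*) [Field F] : Multiplicative F →* SL(2, F) :=
  MonoidHom.mk' (fun x => ⟨!![1, x.toAdd; 0, 1], by simp [det_fin_two]⟩) fun x y => Subtype.ext (by
    change !![1, x.toAdd + y.toAdd; 0, 1] = !![1, x.toAdd; 0, 1] * !![1, y.toAdd; 0, 1]
    simp [add_comm])

theorem up_val (x : F) : (up F (Multiplicative.ofAdd x)).1 = !![1, x; 0, 1] := rfl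

/-- diagonal matrices -/
def di (F : Type*) [Field F] : Fˣ →* SL(2, F) :=
  MonoidHom.mk' (fun a => ⟨!![a.1, 0; 0, (a⁻¹).1], by simp [det_fin_two]⟩) fun a b =>
    Subtype.ext (by
      change !![(a * b).1, 0; 0, ((a * b)⁻¹).1] = !![a.1, 0; 0, (a⁻¹).1] * !![b.1, 0; 0, (b⁻¹).1]
      simp [mul_comm])

theorem di_val (a : Fˣ) : (di F a).1 = !![a.1, 0; 0, (a⁻¹).1] := rfl

theorem Hm.prime_field (h : Hm G) [Finite F] (h2 : (2 : F) ≠ 0) (π : SL(2, F) →* G)
    (hs : Function.Surjective π) (hk : ∀ s t, π s = π t → pz _ s = pz _ t) (x : F) :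
    x ∈ (⊥ : Subfield F) := by
  by_contra n
  obtain ⟨a, ha⟩ : ∃ a : F, a ^ 2 ∉ (⊥ : Subfield F) := by
    by_contra k
    push Not at k
    have := div_mem (sub_mem (k (x + 1)) (k (x - 1))) (k 2)
    exact n (by convert this using 1; field_simp; ring)
  have a0 : a ≠ 0 := by rintro rfl; simp at ha
  obtain ⟨f, f1, f2⟩ := Submodule.exists_dual_map_eq_bot_of_notMem
    (p := Submodule.span (⊥ : Subfield F) {(1 : F)}) (x := a ^ 2) (fun k => by
      obtain ⟨c, hc⟩ := Submodule.mem_span_singleton.1 k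
      exact ha (by rw [← hc, Subfield.smul_def, smul_eq_mul, mul_one]; exact c.2)) inferInstance
  have f0 : ∀ c : (⊥ : Subfield F), f c = 0 := fun c =>
    (Submodule.mem_bot _).1 (f2 ▸ Submodule.mem_map_of_mem (f := f) (Submodule.mem_span_singleton.2
      ⟨c, by rw [Subfield.smul_def, smul_eq_mul, mul_one]⟩))
  let t : F →+ F := AddMonoidHom.mk' (fun x => x + f x) fun x y => by
    rw [map_add, Subfield.coe_add]; ring
  have ti : Function.Injective t := (injective_iff_map_eq_zero t).2 fun x e => by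
    have e : x + f x = 0 := e
    have e' : x = ((-f x : (⊥ : Subfield F)) : F) := by rw [Subfield.coe_neg]; linear_combination e
    rw [e', f0] at e
    rw [e']; simpa using e
  have ui : Function.Injective (π.comp (up F)) := fun x y e => by
    obtain ⟨r, -, k⟩ := pz_eq_smul (hk _ _ e)
    have k0 := congrFun (congrFun k 0) 0
    have k1 := congrFun (congrFun k 0) 1
    change (1 : F) = r * 1 at k0
    change y.toAdd = r * x.toAdd at k1
    rw [← k0.trans (mul_one r), one_mul] at k1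
    exact k1.symm
  obtain ⟨α, hα⟩ := h.ext_inj ui (v := (π.comp (up F)).comp t.toMultiplicative) (ui.comp ti)
  obtain ⟨M, hM⟩ := hs (α (π (di F (Units.mk0 a a0))))
  have key : ∀ x : F, M.1 1 0 * t x = 0 ∧ M.1 0 0 * t x = t (a ^ 2 * x) * M.1 1 1 := fun x => by
    have e : di F (Units.mk0 a a0) * up F (Multiplicative.ofAdd x) =
        up F (Multiplicative.ofAdd (a ^ 2 * x)) * di F (Units.mk0 a a0) := Subtype.ext (by
      simp only [Matrix.SpecialLinearGroup.coe_mul, up_val, di_val]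
      ext i j
      fin_cases i <;> fin_cases j <;> simp
      field_simp)
    have e2 := congrArg (fun z => α (π z)) e
    simp only [map_mul] at e2
    rw [← hM] at e2
    have e3 : π (M * up F (Multiplicative.ofAdd (t x)) * M⁻¹) =
        π (up F (Multiplicative.ofAdd (t (a ^ 2 * x)))) := by
      rw [map_mul, map_mul, map_inv, mul_inv_eq_iff_eq_mul]
      exact (congrArg _ (hα _).symm).trans (e2.trans (congrArg (· * π M) (hα _)))
    obtain ⟨r, -, k⟩ := pz_eq_smul (hk _ _ e3)
    have k1 := congrArg trace k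
    rw [trace_smul, Matrix.SpecialLinearGroup.coe_mul, trace_mul_comm,
      ← Matrix.SpecialLinearGroup.coe_mul, ← mul_assoc, inv_mul_cancel, one_mul] at k1
    have r1 : r = 1 := mul_right_cancel₀ h2 (by
      simp only [up_val, trace_fin_two_of, smul_eq_mul] at k1
      linear_combination -k1)
    rw [r1, one_smul] at k
    replace k : up F (Multiplicative.ofAdd (t (a ^ 2 * x))) * M =
      M * up F (Multiplicative.ofAdd (t x)) := eq_mul_inv_iff_mul_eq.1 (Subtype.ext k)
    have k2 := fun i j => congrFun (congrFun (congrArg Subtype.val k) i) j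
    have k3 := k2 1 1
    have k4 := k2 0 1
    simp only [Matrix.SpecialLinearGroup.coe_mul, up_val, mul_apply, Fin.sum_univ_two] at k3 k4
    simp at k3 k4
    exact ⟨mul_eq_zero.2 k3, by linear_combination -k4⟩
  have t1 : t 1 = 1 := by
    change 1 + (f 1 : F) = 1
    rw [show f 1 = 0 from f0 1]; simp
  have d := M.2
  rw [det_fin_two, show M.1 1 0 = 0 by simpa [t1] using (key 1).1] at d
  have k1 := (key 1).2
  have k2 := (key (a ^ 2)).2
  rw [t1, mul_one (a ^ 2)] at k1
  have k3 : t (a ^ 2 * a ^ 2) = t (a ^ 2) * t (a ^ 2) := by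
    have m : M.1 1 1 ≠ 0 := fun e => by simp [e] at d
    exact mul_right_cancel₀ m (by linear_combination -k2 + t (a ^ 2) * k1)
  change a ^ 2 * a ^ 2 + f (a ^ 2 * a ^ 2) = (a ^ 2 + f (a ^ 2)) * (a ^ 2 + f (a ^ 2)) at k3
  have e0 : ((f (a ^ 2) : (⊥ : Subfield F)) : F) ≠ 0 := fun e => f1 (Subtype.ext e)
  refine ha ?_
  have := div_mem (sub_mem (f (a ^ 2 * a ^ 2)).2 (mul_mem (f (a ^ 2)).2 (f (a ^ 2)).2))
    (add_mem (f (a ^ 2)).2 (f (a ^ 2)).2)
  convert this using 1
  rw [← two_mul, eq_div_iff (mul_ne_zero h2 e0)]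
  linear_combination -k3

theorem nt {n : ℕ} (h : ∀ k, 1 ≤ k → k.Coprime (2 * n) → n ∣ k + 1 ∨ n ∣ k - 1) :
    n ≤ 4 ∨ n = 6 := by
  by_contra k
  push Not at k
  obtain ⟨j, rfl | rfl⟩ := n.even_or_odd'
  · obtain ⟨i, rfl | rfl⟩ := j.even_or_odd'
    · have c : (2 * i + 1).Coprime (2 * i) := by simp
      have c2 : (2 * i + 1).Coprime 2 := by simp
      rcases h (2 * i + 1) (by omega) (c2.mul_right (c2.mul_right c)) with d | d <;>
        have := Nat.le_of_dvd (by omega) d <;> omega
    · have c : (2 * i + 3).Coprime (2 * i + 1) := by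
        rw [show 2 * i + 3 = 2 + (2 * i + 1) by ring, Nat.coprime_add_self_left]; simp
      have c2 : (2 * i + 3).Coprime 2 := by
        rw [show 2 * i + 3 = 2 * (i + 1) + 1 by ring]; simp
      rcases h (2 * i + 3) (by omega) (c2.mul_right (c2.mul_right c)) with d | d <;>
        have := Nat.le_of_dvd (by omega) d <;> omega
  · have c : (2 * j + 3).Coprime (2 * j + 1) := by
      rw [show 2 * j + 3 = 2 + (2 * j + 1) by ring, Nat.coprime_add_self_left]; simp
    have c2 : (2 * j + 3).Coprime 2 := by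
      rw [show 2 * j + 3 = 2 * (j + 1) + 1 by ring]; simp
    rcases h (2 * j + 3) (by omega) (c2.mul_right c) with d | d
    · rw [show 2 * j + 3 + 1 = 2 * j + 1 + 3 by ring, Nat.dvd_add_self_left] at d
      have := Nat.le_of_dvd (by omega) d; omega
    · rw [show 2 * j + 3 - 1 = 2 * j + 1 + 1 by omega, Nat.dvd_add_self_left] at d
      have := Nat.le_of_dvd (by omega) d; omega

theorem card_57 [Fintype F] (ho : Odd (Fintype.card F)) (h3 : 3 < Fintype.card F)
    (hK : ∀ x : F, x ∈ (⊥ : Subfield F))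
    (hT : ∀ (s : SL(2, F)) (k : ℕ), k.Coprime (orderOf s) →
      ∃ β : PSL(2, F) ≃* PSL(2, F), β (pz _ s) = pz _ (s ^ k)) :
    (∀ x : F, ∃ n : ℤ, n = x) ∧ (Fintype.card F = 5 ∨ Fintype.card F = 7) := by
  obtain ⟨p, hc⟩ := CharP.exists F
  have hp := CharP.char_is_prime F p
  have := Fact.mk hp
  have hK' : ∀ x : F, ∃ n : ℤ, n = x := fun x => (mem_bot_iff_intCast p F).1 (hK x)
  refine ⟨hK', ?_⟩
  have cp : Fintype.card F = p := by
    rw [← ZMod.card p]
    refine (Fintype.card_of_bijective (f := ZMod.castHom (dvd_refl p) F)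
      ⟨(ZMod.castHom (dvd_refl p) F).injective, fun x => ?_⟩).symm
    obtain ⟨n, rfl⟩ := hK' x
    exact ⟨n, map_intCast _ n⟩
  obtain ⟨a, ha⟩ := IsCyclic.exists_generator (α := Fˣ)
  obtain ⟨n, hn⟩ := ho
  have o : orderOf a = 2 * n := by
    rw [orderOf_eq_card_of_forall_mem_zpowers ha, Nat.card_units, Nat.card_eq_fintype_card, hn]
    rfl
  have := nt (n := n) fun k k1 c => by
    obtain ⟨β, hβ⟩ := hT (di F a) k (c.coprime_dvd_right (o ▸ orderOf_map_dvd _ a))
    have e := aut_tr hK' hβ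
    rw [← map_pow] at e
    simp only [di_val, trace_fin_two_of, Units.val_inv_eq_inv_val] at e
    have : ((a ^ k : Fˣ) ^ 2 * a ^ 2 - 1 : F) * ((a ^ k : Fˣ) ^ 2 - a ^ 2) = 0 := by
      have := (a ^ k).ne_zero
      have := a.ne_zero
      field_simp at e
      linear_combination e
    rcases mul_eq_zero.1 this with d | d
    · left
      have : a ^ (2 * (k + 1)) = 1 := Units.ext (by
        rw [Units.val_pow_eq_pow_val] at d ⊢
        rw [Units.val_one]
        linear_combination d)
      exact Nat.dvd_of_mul_dvd_mul_left two_pos (o ▸ orderOf_dvd_of_pow_eq_one this)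
    · right
      obtain ⟨j, rfl⟩ := Nat.exists_eq_add_of_le' k1
      have : a ^ (2 * j) = 1 := Units.ext (mul_right_cancel₀ (pow_ne_zero 2 a.ne_zero) (by
        rw [Units.val_pow_eq_pow_val] at d ⊢
        rw [Units.val_one]
        linear_combination d))
      exact Nat.dvd_of_mul_dvd_mul_left two_pos (o ▸ orderOf_dvd_of_pow_eq_one this)
  have n9 : p ≠ 9 := by rintro rfl; exact absurd hp (by norm_num)
  have n13 : p ≠ 13 := by
    rintro rfl
    have z : (13 : F) = 0 := by exact_mod_cast CharP.cast_eq_zero F 13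
    let X : SL(2, F) := ⟨!![0, -1; 1, 7], by simp [det_fin_two]⟩
    have X2 : (X ^ 2).1 = !![-1, -7; 7, 48] := by
      change !![0, -1; 1, 7] ^ 2 = _
      simp [pow_two]; norm_num
    have X7 : X ^ 7 = 1 := Subtype.ext (by
      rw [show X ^ 7 = X ^ 2 * X ^ 2 * X ^ 2 * X by group]
      simp only [Matrix.SpecialLinearGroup.coe_mul, X2]
      change _ * !![0, -1; 1, 7] = 1
      ext i j
      fin_cases i <;> fin_cases j <;> simp
      · linear_combination -1189 * z
      · linear_combination -8149 * z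
      · linear_combination 8149 * z
      · linear_combination 55854 * z)
    obtain ⟨β, hβ⟩ := hT X 2 ((by norm_num : Nat.Coprime 2 7).coprime_dvd_right
      (orderOf_dvd_of_pow_eq_one X7))
    have e := aut_tr hK' hβ
    rw [X2] at e
    simp only [X, trace_fin_two_of] at e
    exact char_odd ⟨n, hn⟩ (by linear_combination e - 166 * z)
  omega

theorem psl_57 [Fintype F] (ho : Odd (Fintype.card F)) (h3 : 3 < Fintype.card F)
    (h : Hm PSL(2, F)) : Fintype.card F = 5 ∨ Fintype.card F = 7 :=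
  (card_57 ho h3 (h.prime_field (char_odd ho) (pz _) (QuotientGroup.mk'_surjective _)
    fun _ _ e => e) fun s k c => h.elt (by
      rw [map_pow, (c.coprime_dvd_right (orderOf_map_dvd _ s)).symm.orderOf_pow])).2

theorem sl_5 [Fintype F] (ho : Odd (Fintype.card F)) (h3 : 3 < Fintype.card F)
    (h : Hm SL(2, F)) : Fintype.card F = 5 := by
  obtain ⟨hK, e⟩ := card_57 ho h3 (h.prime_field (char_odd ho) (MonoidHom.id _)
    Function.surjective_id fun _ _ e => congrArg _ e) fun s k c => by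
      obtain ⟨φ, hφ⟩ := h.elt c.symm.orderOf_pow.symm
      exact ⟨H31.quotientCenterCongr φ, hφ ▸ rfl⟩
  refine e.resolve_right fun e => ?_
  have z : (7 : F) = 0 := by
    have := FiniteField.cast_card_eq_zero F
    rw [e] at this
    exact_mod_cast this
  let U : SL(2, F) := ⟨!![1, 1; 0, 1], by simp [det_fin_two]⟩
  let V : SL(2, F) := ⟨!![1, 0; 1, 1], by simp [det_fin_two]⟩
  have U7 : U ^ 7 = 1 := Subtype.ext (by
    change !![1, 1; 0, 1] ^ 7 = 1
    ext i j
    fin_cases i <;> fin_cases j <;> simp [pow_succ]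
    linear_combination z)
  have V7 : V ^ 7 = 1 := Subtype.ext (by
    change !![1, 0; 1, 1] ^ 7 = 1
    ext i j
    fin_cases i <;> fin_cases j <;> simp [pow_succ]
    linear_combination z)
  have X1 : (U * V).1 = !![2, 1; 1, 1] := by
    change !![1, 1; 0, 1] * !![1, 0; 1, 1] = _
    simp; norm_num
  have X3 : ((U * V) ^ 3).1 = !![13, 8; 8, 5] := by
    rw [Matrix.SpecialLinearGroup.coe_pow, X1]
    simp [pow_succ]; norm_num
  have X8 : (U * V) ^ 8 = 1 := Subtype.ext (by
    rw [show 8 = 3 + 3 + 1 + 1 from rfl, pow_succ, pow_succ, pow_add]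
    simp only [Matrix.SpecialLinearGroup.coe_mul _ (U * V), Matrix.SpecialLinearGroup.coe_mul (_ ^ 3),
      X3, X1, Matrix.SpecialLinearGroup.coe_one]
    ext i j
    fin_cases i <;> fin_cases j <;> simp
    · linear_combination 228 * z
    · linear_combination 141 * z
    · linear_combination 141 * z
    · linear_combination 87 * z)
  obtain ⟨φ, hφ⟩ := h.elt (((by norm_num : Nat.Coprime 8 3).coprime_dvd_left
    (orderOf_dvd_of_pow_eq_one X8)).orderOf_pow).symm
  obtain ⟨g, hg⟩ := aut_form hK (H31.quotientCenterCongr φ)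
  have k : ∀ s : SL(2, F), s ^ 7 = 1 → (φ s).1 = g.1 * s.1 * (g⁻¹).1 := fun s hs => by
    obtain ⟨r, r1, r2⟩ := hg s (φ s) rfl
    have := congrArg Subtype.val (show φ s ^ 7 = 1 by rw [← map_pow, hs, map_one])
    rw [Matrix.SpecialLinearGroup.coe_pow, r2, smul_pow, Units.conj_pow,
      ← Matrix.SpecialLinearGroup.coe_pow, hs, Matrix.SpecialLinearGroup.coe_one, mul_one,
      Units.mul_inv] at this
    have r3 := congrFun (congrFun this 0) 0
    simp only [Matrix.smul_apply, Matrix.SpecialLinearGroup.coe_one, one_apply_eq, smul_eq_mul, mul_one] at r3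
    rw [r2, show r = 1 by linear_combination r3 - (r ^ 5 + r ^ 3 + r) * r1, one_smul]
  have t := congrArg trace X3
  rw [← hφ, map_mul, Matrix.SpecialLinearGroup.coe_mul, k U U7, k V V7, mul_assoc, mul_assoc,
    mul_assoc _ V.1, Units.inv_mul_cancel_left, ← mul_assoc U.1, ← mul_assoc, trace_units_conj,
    ← Matrix.SpecialLinearGroup.coe_mul, X1] at t
  simp only [trace_fin_two_of] at t
  exact one_ne_zero (α := F) (by linear_combination -t - 2 * z)

end Cfsg.Agent.H7.HG
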