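import Cfsg.Agent.H17.TwA

/-!
# Balance for seven commuting involutions
-/

set_option autoImplicit false

namespace Cfsg.Agent.H7.A12Bal

open Equiv Subgroup Cfsg.Agent.H89.Rec Cfsg.Agent.H17.Tw

universe u

variable {G : Type u} [Group G] [Finite G]

theorem odd_le {X Y : Subgroup G} (h : X ≤ Y) (hY : Odd (Nat.card Y)) : Odd (Nat.card X) :=
  hY.of_dvd_nat (card_dvd_of_le h)

theorem nrm_inf {X Y : Subgroup G} {g : G} (h1 : g ∈ normalizer (X : Set G))
    (h2 : g ∈ normalizer (Y : Set G)) : g ∈ normalizer ((X ⊓ Y : Subgroup G) : Set G) :=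
  mem_nrm fun _ hk => ⟨nrm_conj h1 hk.1, nrm_conj h2 hk.2⟩

/-- The core meets a smaller subgroup inside its core. -/
theorem oc_inf {K K' : Subgroup G} (h : K' ≤ K) {y : G} (h1 : y ∈ oc K) (h2 : y ∈ K') :
    y ∈ oc K' :=
  le_oc (O := oc K ⊓ K') inf_le_right (odd_le inf_le_left (oc_odd K))
    (fun _ hk => nrm_inf (oc_nrm (le_normalizer (h hk))) (le_normalizer hk)) ⟨h1, h2⟩

theorem nrm_cent {s : Set G} {g : G} (h : ∀ a ∈ s, Commute a g) :
    g ∈ normalizer ((centralizer s : Subgroup G) : Set G) :=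
  le_normalizer (mem_centralizer_iff.2 fun a ha => (h a ha).eq)

/-- Generation by the centralisers in a four group, without side conditions. -/
theorem four' {a b : G} (ha : a * a = 1) (hb : b * b = 1) (hab : Commute a b) {Y L : Subgroup G}
    (hY : Odd (Nat.card Y)) (haY : a ∈ normalizer (Y : Set G)) (hbY : b ∈ normalizer (Y : Set G))
    (h1 : ∀ y ∈ Y, Commute y a → y ∈ L) (h2 : ∀ y ∈ Y, Commute y b → y ∈ L)
    (h3 : ∀ y ∈ Y, Commute y (a * b) → y ∈ L) : Y ≤ L := by
  by_cases a1 : a = 1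
  · exact fun y hy => h1 y hy (a1 ▸ Commute.one_right y)
  by_cases b1 : b = 1
  · exact fun y hy => h2 y hy (b1 ▸ Commute.one_right y)
  by_cases e : a = b
  · exact fun y hy => h3 y hy (by rw [← e, ha]; exact Commute.one_right y)
  exact four_gen ha hb hab a1 b1 e hY haY hbY h1 h2 h3

/-- An element is the product of a power of its commutator with an involution and of an element
that commutes with the involution. -/
theorem split {u y : G} (hu : u * u = 1) (h : Odd (orderOf (y * u * y⁻¹ * u))) :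
    ∃ a : ℕ, Commute (((y * u * y⁻¹ * u) ^ a)⁻¹ * y) u := by
  obtain ⟨a, ha⟩ := H10.exists_pow_conj_of_odd (t := y * u * y⁻¹) hu (conj_sq hu y) h
  refine ⟨a, ?_⟩
  generalize (y * u * y⁻¹ * u) ^ a = o at ha
  change o⁻¹ * y * u = u * (o⁻¹ * y)
  calc o⁻¹ * y * u = o⁻¹ * (y * u * y⁻¹) * y := by group
    _ = u * (o⁻¹ * y) := by rw [← ha]; group

theorem comm_mem {X : Subgroup G} {u y : G} (hu : u * u = 1) (hX : u ∈ normalizer (X : Set G))
    (hy : y ∈ X) : y * u * y⁻¹ * u ∈ X := by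
  have := X.mul_mem hy (nrm_conj hX (X.inv_mem hy))
  rwa [inv_eq_of_mul_eq_one_right hu, ← mul_assoc, ← mul_assoc] at this

theorem split_le {X L : Subgroup G} {u : G} (hu : u * u = 1) (hX : u ∈ normalizer (X : Set G))
    (hO : Odd (Nat.card X)) (h1 : ∀ y ∈ X, y * u * y⁻¹ * u ∈ L)
    (h2 : ∀ y ∈ X, Commute y u → y ∈ L) : X ≤ L := fun y hy => by
  have hw := comm_mem hu hX hy
  obtain ⟨a, ha⟩ := split hu (odd_orderOf_of_mem hO hw)
  have := L.mul_mem (L.pow_mem (h1 y hy) a)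
    (h2 _ (X.mul_mem (X.inv_mem (X.pow_mem hw a)) hy) ha)
  rwa [mul_inv_cancel_left] at this

/-- If `K = O(K) K'` then `O(K') ≤ O(K)`. -/
theorem oc_le_of {K K' : Subgroup G} (h : K' ≤ K)
    (h1 : ∀ g ∈ K, ∃ o ∈ oc K, o⁻¹ * g ∈ K') : oc K' ≤ oc K := by
  have hn : oc K' ≤ normalizer (oc K : Set G) := fun _ hk =>
    oc_nrm (le_normalizer (h (oc_le _ hk)))
  refine le_sup_left.trans (le_oc (O := oc K' ⊔ oc K) (sup_le ((oc_le _).trans h) (oc_le _))
    (((oc_odd K').mul (oc_odd K)).of_dvd_nat (H3.card_sup_dvd_of_le_normalizer hn)) ?_)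
  intro g hg
  obtain ⟨o, ho, hk⟩ := h1 g hg
  have h2 : o⁻¹ * g ∈ normalizer ((oc K' ⊔ oc K : Subgroup G) : Set G) := mem_nrm fun x hx =>
    (sup_le (c := comap (MulAut.conj (o⁻¹ * g)).toMonoidHom (oc K' ⊔ oc K))
      (fun y hy => mem_sup_left (nrm_conj (oc_nrm (le_normalizer hk)) hy))
      (fun y hy => mem_sup_right (nrm_conj (oc_nrm (le_normalizer (h hk))) hy))) hx
  have := mul_mem (le_normalizer (mem_sup_right ho : o ∈ oc K' ⊔ oc K)) h2
  rwa [mul_inv_cancel_left] at this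

/-- Conjugation of cores. -/
theorem oc_conj {K K' : Subgroup G} {g : G} (h : ∀ x, g * x * g⁻¹ ∈ K' ↔ x ∈ K) {y : G}
    (hy : y ∈ oc K) : g * y * g⁻¹ ∈ oc K' := by
  refine le_oc (O := (oc K).map (MulAut.conj g).toMonoidHom) ?_ ?_ ?_ ⟨y, hy, rfl⟩
  · rintro _ ⟨x, hx, rfl⟩
    exact (h x).2 (oc_le _ hx)
  · rw [card_map_of_injective (MulAut.conj g).injective]
    exact oc_odd K
  · intro k hk
    refine mem_nrm ?_
    rintro _ ⟨x, hx, rfl⟩
    have h1 : g⁻¹ * k * g ∈ K := (h _).1 (by simpa [mul_assoc] using hk)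
    exact ⟨_, nrm_conj (oc_nrm (le_normalizer h1)) hx, by simp [mul_assoc]⟩

theorem cent_conj {s s' : Set G} {g : G} (h : (fun x => g * x * g⁻¹) '' s = s') (x : G) :
    g * x * g⁻¹ ∈ centralizer s' ↔ x ∈ centralizer s := by
  subst h
  simp only [mem_centralizer_iff, Set.forall_mem_image]
  exact forall₂_congr fun a _ =>
    ⟨fun e => (commute_of_conj (g := g) (show Commute _ _ from e)).eq,
      fun e => (commute_conj (show Commute a x from e) g).eq⟩

omit [Finite G] in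
theorem mem1 {a y : G} : y ∈ centralizer ({a} : Set G) ↔ Commute y a :=
  mem_centralizer_singleton_iff

omit [Finite G] in
theorem mem2 {a b y : G} : y ∈ centralizer ({a, b} : Set G) ↔ Commute y a ∧ Commute y b := by
  simp only [mem_centralizer_iff, Set.mem_insert_iff, Set.mem_singleton_iff, forall_eq_or_imp,
    forall_eq]
  exact and_congr ⟨fun e => e.symm, fun e => e.eq.symm⟩ ⟨fun e => e.symm, fun e => e.eq.symm⟩

omit [Finite G] in
theorem mem3 {a b d y : G} :
    y ∈ centralizer ({a, b, d} : Set G) ↔ Commute y a ∧ Commute y b ∧ Commute y d := by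
  simp only [mem_centralizer_iff, Set.mem_insert_iff, Set.mem_singleton_iff, forall_eq_or_imp,
    forall_eq]
  exact and_congr ⟨fun e => e.symm, fun e => e.eq.symm⟩
    (and_congr ⟨fun e => e.symm, fun e => e.eq.symm⟩ ⟨fun e => e.symm, fun e => e.eq.symm⟩)

omit [Finite G] in
theorem cancel_l {y a b : G} (h : Commute y (a * b)) (h1 : Commute y a) : Commute y b := by
  simpa using h1.inv_right.mul_right h

omit [Finite G] in
theorem cancel_r {y a b : G} (h : Commute y (a * b)) (h1 : Commute y b) : Commute y a := by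
  simpa using h.mul_right h1.inv_right

/-- The pigeonhole principle for cosets. -/
theorem pigeon {A U : Subgroup G} (hU : U ≤ A) {m : ℕ} (hm : Nat.card A ≤ (m + 1) * Nat.card U)
    {c : Fin 7 → G} (s : Finset (Fin 7)) (hs : m * 2 < s.card) (hc : ∀ i ∈ s, c i ∈ A) :
    (∃ i, c i ∈ U) ∨ ∃ i l n, i ≠ l ∧ i ≠ n ∧ l ≠ n ∧ (c i)⁻¹ * c l ∈ U ∧ (c l)⁻¹ * c n ∈ U := by
  classical
  by_contra hcon
  rw [not_or, not_exists] at hcon
  have := Fintype.ofFinite (A ⧸ U.subgroupOf A)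
  have ht : Fintype.card (A ⧸ U.subgroupOf A) ≤ m + 1 := by
    have h1 := card_eq_card_quotient_mul_card_subgroup (U.subgroupOf A)
    rw [Nat.card_congr (subgroupOfEquivOfLe hU).toEquiv] at h1
    rw [← Nat.card_eq_fintype_card]
    exact Nat.le_of_mul_le_mul_right (h1 ▸ hm) Nat.card_pos
  let f : Fin 7 → A := fun i => if h : c i ∈ A then ⟨c i, h⟩ else 1
  have hf : ∀ i ∈ s, (f i : G) = c i := fun i hi => by simp only [f, dif_pos (hc i hi)]
  have he : ∀ a b : A, (QuotientGroup.mk a : A ⧸ U.subgroupOf A) = QuotientGroup.mk b →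
      (a : G)⁻¹ * b ∈ U := fun a b e => (QuotientGroup.eq (s := U.subgroupOf A)).1 e
  obtain ⟨q, -, hq⟩ := Finset.exists_lt_card_fiber_of_mul_lt_card_of_maps_to
    (s := s) (t := (Finset.univ : Finset (A ⧸ U.subgroupOf A)).erase (QuotientGroup.mk 1))
    (f := fun i => QuotientGroup.mk (f i)) (n := 2)
    (fun i hi => Finset.mem_erase.2 ⟨fun e => hcon.1 i (by
      simpa [hf i hi] using he _ _ e.symm), Finset.mem_univ _⟩)
    (by rw [Finset.card_erase_of_mem (Finset.mem_univ _), Finset.card_univ]; omega)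
  obtain ⟨i, l, n, hi, hl, hn, a, b, d⟩ := Finset.two_lt_card_iff.1 hq
  rw [Finset.mem_filter] at hi hl hn
  exact hcon.2 ⟨i, l, n, a, b, d, hf i hi.1 ▸ hf l hl.1 ▸ he _ _ (hi.2.trans hl.2.symm),
    hf l hl.1 ▸ hf n hn.1 ▸ he _ _ (hl.2.trans hn.2.symm)⟩

theorem exists_perm {i l : Fin 7} (h : i ≠ l) : ∃ π : Perm (Fin 7), π 5 = i ∧ π 6 = l := by
  have h1 : swap 6 l 5 ≠ l := fun e => by
    have := (swap 6 l).injective (e.trans (swap_apply_left 6 l).symm)
    exact absurd this (by decide)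
  refine ⟨swap (swap 6 l 5) i * swap 6 l, ?_, ?_⟩
  · rw [Perm.mul_apply, swap_apply_left]
  · rw [Perm.mul_apply, swap_apply_left, swap_apply_of_ne_of_ne h1.symm h.symm]

section Sev

variable {c : Fin 7 → G} (h : Sev c)
include h

omit [Finite G] in
theorem prod_perm (π : Perm (Fin 7)) :
    c (π 0) * c (π 1) * (c (π 2) * c (π 3)) * (c (π 5) * c (π 6)) * c (π 4) = 1 := by
  have h1 : (List.ofFn (c ∘ π)).prod = (List.ofFn c).prod :=
    (Equiv.Perm.ofFn_comp_perm π c).prod_eq' (List.pairwise_ofFn.2 fun i j _ => h.comm _ _)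
  have h2 := h.prod
  simp only [List.ofFn_succ, List.ofFn_zero, List.prod_cons, List.prod_nil, mul_one,
    Function.comp] at h1
  have h3 : c (π 0) * (c (π 1) * (c (π 2) * (c (π 3) * (c (π 4) * (c (π 5) * c (π 6)))))) = 1 := by
    refine Eq.trans ?_ (h1.trans ?_)
    · rfl
    · rw [← h2]; simp only [mul_assoc]; rfl
  rw [← h3, ((h.comm (π 4) (π 5)).mul_right (h.comm (π 4) (π 6))).eq]
  simp only [mul_assoc]

/-- Generation when two of the involutions act trivially. -/
theorem gen5 {i l : Fin 7} (hil : i ≠ l) {Y L : Subgroup G} (hY : Odd (Nat.card Y))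
    (hn : ∀ p, c p ∈ normalizer (Y : Set G)) (hc : ∀ y ∈ Y, Commute y (c i * c l))
    (hL : ∀ p, p ≠ i → p ≠ l → ∀ y ∈ Y, Commute y (c p) → y ∈ L) : Y ≤ L := by
  obtain ⟨π, rfl, rfl⟩ := exists_perm hil
  have key : ∀ k : Fin 7, k ≠ 5 → k ≠ 6 → ∀ y ∈ Y, Commute y (c (π k)) → y ∈ L :=
    fun k a b => hL _ (π.injective.ne a) (π.injective.ne b)
  refine four' (h.sq _) (h.sq _) (h.comm (π 0) (π 1)) hY (hn _) (hn _)
    (key 0 (by decide) (by decide)) (key 1 (by decide) (by decide)) fun y hy e => ?_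
  have hn' : ∀ p, c p ∈ normalizer ((Y ⊓ centralizer {c (π 0) * c (π 1)} : Subgroup G) : Set G) :=
    fun p => nrm_inf (hn p) (nrm_cent fun a ha => ha ▸ (h.comm _ _).mul_left (h.comm _ _))
  refine four' (h.sq _) (h.sq _) (h.comm (π 2) (π 3)) (odd_le inf_le_left hY) (hn' _) (hn' _)
    (fun y hy => key 2 (by decide) (by decide) y hy.1)
    (fun y hy => key 3 (by decide) (by decide) y hy.1) (fun y hy e => ?_) ⟨hy, mem1.2 e⟩
  refine key 4 (by decide) (by decide) y hy.1 (cancel_l ?_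
    (((mem1.1 hy.2).mul_right e).mul_right (hc y hy.1)))
  rw [prod_perm h π]
  exact Commute.one_right y

/-- Generation by the centralisers of the seven involutions. -/
theorem gen7 {Y L : Subgroup G} (hY : Odd (Nat.card Y))
    (hn : ∀ p, c p ∈ normalizer (Y : Set G))
    (hL : ∀ p, ∀ y ∈ Y, Commute y (c p) → y ∈ L) : Y ≤ L := by
  refine four' (h.sq _) (h.sq _) (h.comm 5 6) hY (hn _) (hn _) (hL 5) (hL 6) fun y hy e => ?_
  exact gen5 h (i := 5) (l := 6) (by decide) (Y := Y ⊓ centralizer {c 5 * c 6})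
    (odd_le inf_le_left hY)
    (fun p => nrm_inf (hn p) (nrm_cent fun a ha => ha ▸ (h.comm _ _).mul_left (h.comm _ _)))
    (fun y hy => mem1.1 hy.2) (fun p _ _ y hy => hL p y hy.1) ⟨hy, mem1.2 e⟩

theorem nrm1 (p i : Fin 7) :
    c p ∈ normalizer ((centralizer {c i} : Subgroup G) : Set G) :=
  nrm_cent fun _ ha => ha ▸ h.comm _ _

theorem nrm2 (p i l n : Fin 7) :
    c p ∈ normalizer ((centralizer {c i * c l, c l * c n} : Subgroup G) : Set G) :=
  le_normalizer (mem2.2 ⟨(h.comm _ _).mul_right (h.comm _ _), (h.comm _ _).mul_right (h.comm _ _)⟩)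

/-- Balance for two involutions. -/
theorem bal11 (i l : Fin 7) {y : G} (h1 : y ∈ oc (centralizer {c i})) (h2 : Commute y (c l)) :
    y ∈ oc (centralizer {c l}) := by
  by_cases hil : i = l
  · exact hil ▸ h1
  refine gen5 h hil (Y := oc (centralizer {c i}) ⊓ centralizer {c l})
    (odd_le inf_le_left (oc_odd _)) (fun p => nrm_inf (oc_nrm (nrm1 h p i)) (nrm1 h p l))
    (fun y hy => (mem1.1 (oc_le _ hy.1)).mul_right (mem1.1 hy.2)) (fun p a b y hy e => ?_)
    ⟨h1, mem1.2 h2⟩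
  exact h.hb l i p (Ne.symm hil) b.symm a.symm (oc_inf (fun x hx => mem1.2 (mem3.1 hx).2.1) hy.1
    (mem3.2 ⟨mem1.1 hy.2, mem1.1 (oc_le _ hy.1), e⟩))

omit [Finite G] h in
theorem c3_le (i l n : Fin 7) :
    centralizer {c i, c l, c n} ≤ centralizer ({c i * c l, c l * c n} : Set G) := fun _ hx =>
  have := mem3.1 hx
  mem2.2 ⟨this.1.mul_right this.2.1, this.2.1.mul_right this.2.2⟩

theorem oc3_le {i l n : Fin 7} (a : i ≠ l) (b : i ≠ n) (d : l ≠ n) :
    oc (centralizer {c i, c l, c n}) ≤ oc (centralizer {c i * c l, c l * c n}) := by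
  refine oc_le_of (c3_le i l n) fun g hg => ?_
  have hw := h.hi i l n a b d g hg
  obtain ⟨k, hk⟩ := split (h.sq l) (odd_orderOf_of_mem (oc_odd _) hw)
  have hm := (oc _).pow_mem hw k
  have := mem2.1 (mul_mem (inv_mem (oc_le _ hm)) hg)
  exact ⟨_, hm, mem3.2 ⟨cancel_r this.1 hk, hk, cancel_l this.2 hk⟩⟩

theorem bal21' {i l n : Fin 7} (a : i ≠ l) (b : i ≠ n) (d : l ≠ n) {y : G}
    (h1 : y ∈ oc (centralizer {c i * c l, c l * c n})) (h2 : Commute y (c l)) :
    y ∈ oc (centralizer {c l}) := by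
  have := mem2.1 (oc_le _ h1)
  refine h.hb l i n a.symm d b (oc_inf (fun x hx => ?_) h1
    (mem3.2 ⟨h2, cancel_r this.1 h2, cancel_l this.2 h2⟩))
  have := mem3.1 hx
  exact mem2.2 ⟨this.2.1.mul_right this.1, this.1.mul_right this.2.2⟩

/-- Balance from a four group to an involution. -/
theorem bal21 {i l n : Fin 7} (a : i ≠ l) (b : i ≠ n) (d : l ≠ n) (p : Fin 7) {y : G}
    (h1 : y ∈ oc (centralizer {c i * c l, c l * c n})) (h2 : Commute y (c p)) :
    y ∈ oc (centralizer {c p}) := by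
  have := mem2.1 (oc_le _ h1)
  by_cases e1 : p = i
  · exact bal11 h l p (bal21' h a b d h1 (cancel_l this.1 (e1 ▸ h2))) h2
  by_cases e2 : p = l
  · exact bal11 h l p (bal21' h a b d h1 (e2 ▸ h2)) h2
  by_cases e3 : p = n
  · exact bal11 h l p (bal21' h a b d h1 (cancel_r this.2 (e3 ▸ h2))) h2
  have ho : Odd (Nat.card ↥(oc (centralizer {c i * c l, c l * c n}) ⊓ centralizer {c p})) :=
    odd_le inf_le_left (oc_odd _)
  refine split_le (h.sq l) (nrm_inf (oc_nrm (nrm2 h l i l n)) (nrm1 h l p)) ho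
    (fun y hy => ?_) (fun y hy e => bal11 h l p (bal21' h a b d hy.1 e) (mem1.1 hy.2))
    ⟨h1, mem1.2 h2⟩
  have := mem2.1 (oc_le _ hy.1)
  exact h.hc p i l n e1 e2 e3 a b d y hy.2 (odd_orderOf_of_mem ho hy) this.1 this.2

/-- Balance from an involution to a four group. -/
theorem bal12 {i l n : Fin 7} (a : i ≠ l) (b : i ≠ n) (d : l ≠ n) (p : Fin 7) {y : G}
    (h1 : y ∈ oc (centralizer {c p})) (h2 : y ∈ centralizer {c i * c l, c l * c n}) :
    y ∈ oc (centralizer {c i * c l, c l * c n}) := by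
  refine split_le (X := oc (centralizer {c p}) ⊓ centralizer {c i * c l, c l * c n}) (h.sq l)
    (nrm_inf (oc_nrm (nrm1 h l p)) (nrm2 h l i l n)) (odd_le inf_le_left (oc_odd _))
    (fun y hy => h.hi i l n a b d y hy.2) (fun y hy e => oc3_le h a b d ?_) ⟨h1, h2⟩
  have := mem2.1 hy.2
  exact oc_inf (fun x hx => mem1.2 (mem3.1 hx).2.1) (bal11 h p l hy.1 e)
    (mem3.2 ⟨cancel_r this.1 e, e, cancel_l this.2 e⟩)

/-- Balance for two four groups. -/
theorem bal22 {i l n i' l' n' : Fin 7} (a : i ≠ l) (b : i ≠ n) (d : l ≠ n) (a' : i' ≠ l')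
    (b' : i' ≠ n') (d' : l' ≠ n') :
    oc (centralizer {c i * c l, c l * c n}) ⊓ centralizer {c i' * c l', c l' * c n'} ≤
      oc (centralizer {c i' * c l', c l' * c n'}) :=
  gen7 h (odd_le inf_le_left (oc_odd _))
    (fun p => nrm_inf (oc_nrm (nrm2 h p i l n)) (nrm2 h p i' l' n'))
    fun p _ hy e => bal12 h a' b' d' p (bal21 h a b d p hy.1 e) hy.2

omit [Finite G] in
theorem ea : EA (closure (Set.range c)) := by
  have h1 : closure (Set.range c) ≤ centralizer (closure (Set.range c) : Set G) := by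
    rw [centralizer_closure, closure_le]
    rintro _ ⟨i, rfl⟩ _ ⟨l, rfl⟩
    exact h.comm _ _
  intro x hx
  induction hx using closure_induction with
  | mem x hx => obtain ⟨i, rfl⟩ := hx; exact h.sq i
  | one => exact one_mul _
  | mul x y hx hy a b =>
    rw [mul_assoc, ← mul_assoc y, h1 hx y hy, mul_assoc, b, mul_one, a]
  | inv x _ a => rw [← mul_inv_rev, a, inv_one]

end Sev

/-- The family of subgroups. -/
def fam (c : Fin 7 → G) : Set (Subgroup G) :=
  {D | (∃ i, D = closure {c i}) ∨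
    ∃ i l n, i ≠ l ∧ i ≠ n ∧ l ≠ n ∧ D = closure {c i * c l, c l * c n}}

theorem cover {c : Fin 7 → G} (h : Sev c) {A U : Subgroup G} (hU : U ≤ A) {m : ℕ}
    (hm : Nat.card A ≤ (m + 1) * Nat.card U) (s : Finset (Fin 7)) (hs : m * 2 < s.card)
    (hc : ∀ i ∈ s, c i ∈ A) : ∃ D ∈ fam c, D ≤ U := by
  rcases pigeon hU hm s hs hc with ⟨i, hi⟩ | ⟨i, l, n, a, b, d, h1, h2⟩
  · exact ⟨_, Or.inl ⟨i, rfl⟩, (closure_le _).2 (Set.singleton_subset_iff.2 hi)⟩
  · rw [inv_eq_of_mul_eq_one_right (h.sq _)] at h1 h2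
    exact ⟨_, Or.inr ⟨i, l, n, a, b, d, rfl⟩,
      (closure_le _).2 (Set.insert_subset h1 (Set.singleton_subset_iff.2 h2))⟩

theorem bal (hS : SigStmt.{u}) : BalStmt.{u} := by
  intro G _ _ c h
  have hm : ∀ i, c i ∈ closure (Set.range c) := fun i => subset_closure ⟨i, rfl⟩
  obtain ⟨h1, h2⟩ := hS G (closure (Set.range c)) (fam c) (ea h)
    (by
      rintro _ (⟨i, rfl⟩ | ⟨i, l, n, -, -, -, rfl⟩)
      · exact (closure_le _).2 (Set.singleton_subset_iff.2 (hm i))
      · exact (closure_le _).2 (Set.insert_subset (mul_mem (hm i) (hm l))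
          (Set.singleton_subset_iff.2 (mul_mem (hm l) (hm n)))))
    (fun U hU hc => cover h hU (m := 3) hc Finset.univ (by decide) fun i _ => hm i)
    (by
      rintro _ (⟨i, rfl⟩ | ⟨i, l, n, a, b, d, rfl⟩) _ (⟨i', rfl⟩ | ⟨i', l', n', a', b', d', rfl⟩) <;>
        simp only [centralizer_closure]
      · exact fun y hy => bal11 h i i' hy.1 (mem1.1 hy.2)
      · exact fun y hy => bal12 h a' b' d' i hy.1 hy.2
      · exact fun y hy => bal21 h a b d i' hy.1 (mem1.1 hy.2)
      · exact bal22 h a b d a' b' d')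
  have hle : ∀ D ∈ fam c, oc (centralizer (D : Set G)) ≤
      ⨆ D ∈ fam c, oc (centralizer (D : Set G)) := fun D hD =>
    le_iSup₂ (f := fun (D : Subgroup G) (_ : D ∈ fam c) => oc (centralizer (D : Set G))) D hD
  refine ⟨_, h1, ?_, ?_, fun g π hg => mem_nrm fun k hk => ?_⟩
  · have := hle _ (Or.inl ⟨6, rfl⟩)
    rwa [centralizer_closure] at this
  · have := h2 (closure {c 6, c 4, c 5}) ((closure_le _).2 (Set.insert_subset (hm _)
      (Set.insert_subset (hm _) (Set.singleton_subset_iff.2 (hm _))))) fun U hU hc =>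
        cover h hU (m := 1) hc {6, 4, 5} (by decide) fun i hi => subset_closure (by
          simp only [Finset.mem_insert, Finset.mem_singleton] at hi
          rcases hi with rfl | rfl | rfl <;> simp)
    rwa [centralizer_closure] at this
  · refine (iSup₂_le (a := comap (MulAut.conj g).toMonoidHom
      (⨆ D ∈ fam c, oc (centralizer (D : Set G)))) ?_) hk
    rintro _ (⟨i, rfl⟩ | ⟨i, l, n, a, b, d, rfl⟩) y hy <;> rw [centralizer_closure] at hy
    · have := hle _ (Or.inl ⟨π i, rfl⟩)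
      rw [centralizer_closure] at this
      exact this (oc_conj (cent_conj (by rw [Set.image_singleton, hg])) hy)
    · have := hle _ (Or.inr ⟨π i, π l, π n, π.injective.ne a, π.injective.ne b,
        π.injective.ne d, rfl⟩)
      rw [centralizer_closure] at this
      exact this (oc_conj (cent_conj (by
        rw [Set.image_pair, ← hg, ← hg, ← hg, conj_mul, conj_mul])) hy)

end Cfsg.Agent.H7.A12Bal
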