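import Cfsg.Agent.H15.Even3
import Cfsg.Agent.H8.Tate
import Cfsg.Agent.H3.Fitting
import Cfsg.Agent.H90.Basic
import Cfsg.Agent.H55.Basic

/-! Groups all of whose proper subgroups are CA-groups: basic tools. -/

set_option autoImplicit false
set_option linter.unusedSectionVars false

namespace Cfsg.Agent.H7.CA

open Subgroup

universe u
variable {G : Type u} [Group G]

/-- `H` is a CA-group. -/
def CAon (H : Subgroup G) : Prop :=
  ∀ x ∈ H, ∀ y ∈ H, ¬ Commute y x → ∀ a ∈ H, ∀ b ∈ H, Commute a x → Commute b x → Commute a b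

/-- All proper subgroups are CA-groups. -/
def PCA (G : Type u) [Group G] : Prop := ∀ H : Subgroup G, H ≠ ⊤ → CAon H

theorem mc {x g : G} : g ∈ centralizer {x} ↔ Commute g x := mem_centralizer_singleton_iff

theorem mC {H : Subgroup G} {g : G} : g ∈ centralizer (H : Set G) ↔ ∀ h ∈ H, Commute h g :=
  Iff.rfl

theorem mZ {g : G} : g ∈ center G ↔ ∀ h, Commute h g := mem_center_iff

theorem CAon.cen {H : Subgroup G} (h : CAon H) {x a b : G} (hx : x ∈ H) (ha : a ∈ H) (hb : b ∈ H)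
    (ax : Commute a x) (bx : Commute b x) (ab : ¬ Commute a b) {y : G} (hy : y ∈ H) :
    Commute y x := by
  by_contra k; exact ab (h x hx y hy k a ha b hb ax bx)

theorem CAon.mono {H K : Subgroup G} (h : CAon H) (l : K ≤ H) : CAon K :=
  fun x hx y hy k a ha b hb => h x (l hx) y (l hy) k a (l ha) b (l hb)

theorem CAon.comap {G' : Type*} [Group G'] {f : G' →* G} (hf : Function.Injective f)
    {H : Subgroup G} (h : CAon H) : CAon (H.comap f) := fun x hx y hy k a ha b hb ax bx =>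
  Commute.of_map hf (h _ hx _ hy (fun e => k (Commute.of_map hf e)) _ ha _ hb (ax.map f) (bx.map f))

theorem CAon.map {G' : Type*} [Group G'] {f : G →* G'} (hf : Function.Injective f)
    {H : Subgroup G} (h : CAon H) : CAon (H.map f) := by
  rintro _ ⟨x, hx, rfl⟩ _ ⟨y, hy, rfl⟩ k _ ⟨a, ha, rfl⟩ _ ⟨b, hb, rfl⟩ ax bx
  exact (h x hx y hy (fun e => k (e.map f)) a ha b hb (Commute.of_map hf ax)
    (Commute.of_map hf bx)).map f

theorem PCA.sub (h : PCA G) (L : Subgroup G) : PCA L := fun K hK => by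
  have := (h (K.map L.subtype) fun e => hK (eq_top_iff.2 fun x _ => by
    obtain ⟨y, hy, k⟩ : (x : G) ∈ K.map L.subtype := e ▸ mem_top _
    exact Subtype.ext k ▸ hy)).comap L.subtype_injective
  rwa [comap_map_eq_self_of_injective L.subtype_injective] at this

theorem cj {g x y : G} : Commute (g * x * g⁻¹) (g * y * g⁻¹) ↔ Commute x y :=
  ⟨fun h => by simpa [mul_assoc] using h.map (MulAut.conj g⁻¹), fun h => h.map (MulAut.conj g)⟩

theorem cj' {g x y : G} : Commute (g * x * g⁻¹) y ↔ Commute x (g⁻¹ * y * g) := by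
  rw [← cj (g := g) (x := x)]; simp [mul_assoc]

theorem o2 {x : G} : orderOf x = 2 ↔ x ≠ 1 ∧ x * x = 1 :=
  ⟨fun h => ⟨H15.ne_one_of_orderOf_eq_two h, H15.mul_self_of_orderOf_eq_two h⟩,
    fun h => orderOf_eq_prime (by rw [sq, h.2]) h.1⟩

theorem comm_iff {a b : G} : Commute a b ↔ a * b * a⁻¹ * b⁻¹ = 1 := by
  rw [mul_inv_eq_one, mul_inv_eq_iff_eq_mul]; rfl

/-- Commutators that commute with both entries are multiplicative. -/
theorem cpow_l {x y : G} (h : Commute (x * y * x⁻¹ * y⁻¹) x) (n : ℕ) :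
    x ^ n * y * (x ^ n)⁻¹ * y⁻¹ = (x * y * x⁻¹ * y⁻¹) ^ n := by
  induction n with
  | zero => simp
  | succ n ih =>
    calc _ = x * (x ^ n * y * (x ^ n)⁻¹ * y⁻¹) * x⁻¹ * (x * y * x⁻¹ * y⁻¹) := by group
      _ = _ := by rw [ih, ← (h.pow_left n).eq, mul_inv_cancel_right, pow_succ]

theorem cpow_r {x y : G} (h : Commute (x * y * x⁻¹ * y⁻¹) y) (n : ℕ) :
    x * y ^ n * x⁻¹ * (y ^ n)⁻¹ = (x * y * x⁻¹ * y⁻¹) ^ n := by
  have := cpow_l (x := y) (y := x) (by simpa [mul_assoc] using h.inv_left) n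
  rw [← inv_inj, ← inv_pow (x * y * x⁻¹ * y⁻¹)]
  simpa only [mul_inv_rev, inv_inv, mul_assoc] using this

theorem comm_of_cop {x y : G} (h1 : Commute (x * y * x⁻¹ * y⁻¹) x)
    (h2 : Commute (x * y * x⁻¹ * y⁻¹) y) {m n : ℕ} (c : m.Coprime n) (k1 : Commute (x ^ m) y)
    (k2 : Commute x (y ^ n)) : Commute x y := by
  have e1 := cpow_l h1 m
  have e2 := cpow_r h2 n
  rw [comm_iff.1 k1] at e1
  rw [comm_iff.1 k2] at e2
  exact comm_iff.2 ((pow_eq_one_iff_of_coprime c).1 ⟨e1.symm, e2.symm⟩)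

theorem sq_comm {x y : G} (h1 : Commute (x * y * x⁻¹ * y⁻¹) x)
    (h2 : Commute (x * y * x⁻¹ * y⁻¹) y) (k : Commute x (y * y)) : Commute (x * x) y := by
  have e1 := cpow_l h1 2
  have e2 := cpow_r h2 2
  rw [sq y, comm_iff.1 k] at e2
  rw [← e2, sq x] at e1
  exact comm_iff.2 e1

/-- The quotient map modulo the centre. -/
abbrev pz (G : Type u) [Group G] : G →* G ⧸ center G := QuotientGroup.mk' _

theorem pz_one {g : G} : pz G g = 1 ↔ g ∈ center G := QuotientGroup.eq_one_iff g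

theorem pz_comm {a b : G} : Commute (pz G a) (pz G b) ↔ a * b * a⁻¹ * b⁻¹ ∈ center G := by
  rw [comm_iff, ← pz_one]; simp only [map_mul, map_inv]

theorem pz_eq {a b : G} : pz G a = pz G b ↔ ∃ c ∈ center G, a = b * c := by
  rw [eq_comm]
  exact QuotientGroup.eq.trans ⟨fun h => ⟨_, h, by simp⟩, fun ⟨c, h, e⟩ => by simpa [e] using h⟩

theorem Commute.pz {a a' b : G} (h : Commute a b) (e : pz G a' = pz G a) : Commute a' b := by
  obtain ⟨c, hc, rfl⟩ := pz_eq.1 e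
  exact h.mul_left (mZ.1 hc b).symm

theorem pz_surj (x : G ⧸ center G) : ∃ g, pz G g = x := QuotientGroup.mk'_surjective _ x

/-- Elements centralising `W` modulo the centre. -/
def CZ (W : Subgroup G) : Subgroup G := (centralizer (W.map (pz G) : Set (G ⧸ center G))).comap (pz G)

theorem mCZ {W : Subgroup G} {g : G} : g ∈ CZ W ↔ ∀ w ∈ W, Commute (pz G w) (pz G g) :=
  ⟨fun h w hw => h _ ⟨w, hw, rfl⟩, fun h _ ⟨w, hw, e⟩ => e ▸ h w hw⟩

instance CZ_normal (W : Subgroup G) [h : W.Normal] : (CZ W).Normal := by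
  haveI := h.map (pz G) pz_surj
  unfold CZ; infer_instance

theorem C_le_CZ (W : Subgroup G) : centralizer (W : Set G) ≤ CZ W := fun _ h =>
  mCZ.2 fun w hw => (mC.1 h w hw).map _

theorem comm_three {W : Subgroup G} {c d : G} (hc : c ∈ CZ W) (hd : d ∈ CZ W) :
    c * d * c⁻¹ * d⁻¹ ∈ centralizer (W : Set G) := fun w hw => by
  have k1 := mZ.1 (pz_comm.1 (mCZ.1 (inv_mem hc) w hw).symm)
  have k2 := mZ.1 (pz_comm.1 (mCZ.1 (inv_mem hd) w hw).symm)
  simp only [inv_inv] at k1 k2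
  have e : ∀ x y : G, (∀ h, Commute h (x⁻¹ * w * x * w⁻¹)) → (∀ h, Commute h (y⁻¹ * w * y * w⁻¹)) →
      (y * x)⁻¹ * w * (y * x) = (y⁻¹ * w * y * w⁻¹) * (x⁻¹ * w * x * w⁻¹) * w := fun x y k1 k2 => by
    calc _ = x⁻¹ * (y⁻¹ * w * y * w⁻¹) * (w * x) := by group
      _ = _ := by rw [(k2 x⁻¹).eq]; group
  have := (e c d k1 k2).trans (((k1 _).eq ▸ rfl : _ = _).trans (e d c k2 k1).symm)
  calc _ = c * d * ((c * d)⁻¹ * w * (c * d)) * (d * c)⁻¹ := by group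
    _ = _ := by rw [← this]; group

variable [Finite G]

/-- A TI-subgroup has at most one involution. -/
theorem ti_inv {M : Subgroup G} (hM : ∀ m ∈ M, m ≠ 1 → ∀ g, g * m * g⁻¹ ∈ M → g ∈ M) (hT : M ≠ ⊤)
    {i j : G} (hi : i ∈ M) (hj : j ∈ M) (i1 : i ≠ 1) (j1 : j ≠ 1) (ii : i * i = 1)
    (jj : j * j = 1) : i = j := by
  obtain ⟨g, hg⟩ : ∃ g, g ∉ M := by
    by_contra k; push Not at k; exact hT (eq_top_iff.2 fun x _ => k x)
  have tM : g * i * g⁻¹ ∉ M := fun k => hg (hM i hi i1 g k)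
  have tt : g * i * g⁻¹ * (g * i * g⁻¹) = 1 := by rw [conj_mul, ii]; group
  generalize g * i * g⁻¹ = t at tM tt
  have ti : t⁻¹ = t := inv_eq_of_mul_eq_one_right tt
  have key : ∀ i ∈ M, i ≠ 1 → i * i = 1 → ∃ s, s * s = 1 ∧ s * i * s⁻¹ = t := fun i hi i1 ii => by
    have i' : i⁻¹ = i := inv_eq_of_mul_eq_one_right ii
    have r : ∀ k : ℕ, i * (i * t) ^ k * i⁻¹ = ((i * t) ^ k)⁻¹ := fun k => by
      rw [← conj_pow, ← inv_pow, ← mul_assoc, ii, one_mul, mul_inv_rev, ti]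
    have r' : ∀ k : ℕ, (i * t) ^ k * i * ((i * t) ^ k * i) = 1 := fun k => by
      calc _ = (i * t) ^ k * (i * (i * t) ^ k * i⁻¹) := by rw [i']; group
        _ = 1 := by rw [r, mul_inv_cancel]
    have e := pow_orderOf_eq_one (i * t)
    rcases Nat.even_or_odd' (orderOf (i * t)) with ⟨k, hk | hk⟩
    · exfalso
      have c1 : (i * t) ^ k ≠ 1 := pow_ne_one_of_lt_orderOf
        (by have := orderOf_pos (i * t); omega) (by have := orderOf_pos (i * t); omega)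
      rw [hk, two_mul, pow_add] at e
      have c2 := r k
      rw [inv_eq_of_mul_eq_one_right e, mul_inv_eq_iff_eq_mul] at c2
      have c3 := hM i hi i1 ((i * t) ^ k) (by rw [← c2, mul_inv_cancel_right]; exact hi)
      have := hM _ c3 c1 (i * t) (by
        rw [((Commute.refl _).pow_right k).eq, mul_inv_cancel_right]; exact c3)
      exact tM ((M.mul_mem_cancel_left hi).1 this)
    · refine ⟨_, r' k, ?_⟩
      rw [inv_eq_of_mul_eq_one_right (r' k), mul_assoc _ i i, ii, mul_one, ← mul_assoc, ← pow_add,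
        ← two_mul, eq_inv_of_mul_eq_one_left (by rw [← pow_succ, ← hk, e] :
          (i * t) ^ (2 * k) * (i * t) = 1), mul_inv_rev, inv_mul_cancel_right, ti]
  obtain ⟨s, s1, s2⟩ := key i hi i1 ii
  obtain ⟨u, u1, u2⟩ := key j hj j1 jj
  have e : u⁻¹ * s * i * (u⁻¹ * s)⁻¹ = j := by
    calc _ = u⁻¹ * (s * i * s⁻¹) * u := by group
      _ = j := by rw [s2, ← u2]; group
  have m := hM i hi i1 _ (e ▸ hj)
  by_contra ne
  have := hM _ m (fun k => ne (by rw [← e, k]; group)) s (by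
    have : s * (u⁻¹ * s) * s⁻¹ = (u⁻¹ * s)⁻¹ := by
      rw [mul_inv_rev, inv_inv, inv_eq_of_mul_eq_one_right u1, inv_eq_of_mul_eq_one_right s1,
        mul_assoc, mul_assoc, s1, mul_one]
    rw [this]; exact inv_mem m)
  exact tM (s2 ▸ mul_mem (mul_mem this hi) (inv_mem this))

/-- `ti_inv` inside `Y`, modulo `N`. -/
theorem ti_mod {Y M N : Subgroup G} (hN : ∀ y ∈ Y, ∀ n ∈ N, y * n * y⁻¹ ∈ N) (l1 : N ≤ M)
    (l2 : M ≤ Y) (hM : ∀ m ∈ M, m ∉ N → ∀ g ∈ Y, g * m * g⁻¹ ∈ M → g ∈ M) (hT : ¬ Y ≤ M)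
    {i j : G} (hi : i ∈ M) (hj : j ∈ M) (i1 : i ∉ N) (j1 : j ∉ N) (ii : i * i ∈ N)
    (jj : j * j ∈ N) : i⁻¹ * j ∈ N := by
  haveI : (N.subgroupOf Y).Normal := ⟨fun n hn y => hN y y.2 n hn⟩
  let f := QuotientGroup.mk' (N.subgroupOf Y)
  have f1 : ∀ y : Y, f y = 1 ↔ (y : G) ∈ N := fun y => QuotientGroup.eq_one_iff y
  have fe : ∀ x y : Y, f x = f y → (x : G)⁻¹ * y ∈ N := fun x y e =>
    (f1 (x⁻¹ * y)).1 (by rw [map_mul, map_inv, e, inv_mul_cancel])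
  have fm : ∀ y : Y, f y ∈ (M.subgroupOf Y).map f ↔ (y : G) ∈ M := fun y =>
    ⟨fun ⟨m, hm, e⟩ => (M.mul_mem_cancel_left (inv_mem hm)).1 (l1 (fe m y e)),
      fun h => ⟨y, h, rfl⟩⟩
  refine fe _ _ (ti_inv (M := (M.subgroupOf Y).map f) ?_
    (fun e => hT fun y hy => (fm ⟨y, hy⟩).1 (e ▸ mem_top _)) ((fm ⟨i, l2 hi⟩).2 hi)
    ((fm ⟨j, l2 hj⟩).2 hj) (mt (f1 _).1 i1) (mt (f1 _).1 j1) ((f1 (_ * _)).2 ii)
    ((f1 (_ * _)).2 jj))
  rintro _ ⟨m, hm, rfl⟩ m1 g hg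
  obtain ⟨g, rfl⟩ := QuotientGroup.mk'_surjective _ g
  exact (fm g).2 (hM m hm (mt (f1 m).2 m1) g g.2 ((fm (g * m * g⁻¹)).1 hg))

theorem cyc_of_uniq {A : Subgroup G} (h2 : IsPGroup 2 A) (hc : ∀ a ∈ A, ∀ b ∈ A, Commute a b)
    (hu : ∀ a ∈ A, ∀ b ∈ A, a ≠ 1 → b ≠ 1 → a * a = 1 → b * b = 1 → a = b) : IsCyclic A := by
  letI : CommGroup A := { (inferInstance : Group A) with
    mul_comm := fun a b => Subtype.ext (hc a a.2 b b.2) }
  refine H90.isCyclic_of_card_pow_prime_eq_one_le fun p hp => ?_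
  by_cases p2 : p = 2
  · subst p2
    by_contra k
    haveI := Fintype.ofFinite (powMonoidHom 2 : A →* A).ker
    rw [Nat.card_eq_fintype_card] at k
    obtain ⟨a, b, c, ab, ac, bc⟩ := Fintype.two_lt_card_iff.1 (not_le.1 k)
    have q : ∀ x : (powMonoidHom 2 : A →* A).ker, (x.1 : G) * x.1 = 1 := fun x => by
      simpa [sq] using congrArg Subtype.val (x.2 : x.1 ^ 2 = 1)
    have u : ∀ x y : (powMonoidHom 2 : A →* A).ker, x ≠ 1 → y ≠ 1 → x = y := fun x y x1 y1 =>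
      Subtype.ext (Subtype.ext (hu _ x.1.2 _ y.1.2 (fun e => x1 (Subtype.ext (Subtype.ext e)))
        (fun e => y1 (Subtype.ext (Subtype.ext e))) (q x) (q y)))
    by_cases a1 : a = 1
    · exact bc (u b c (a1 ▸ ab.symm) (a1 ▸ ac.symm))
    by_cases b1 : b = 1
    · exact ac (u a c a1 (b1 ▸ bc.symm))
    · exact ab (u a b a1 b1)
  · have : (powMonoidHom p : A →* A).ker = ⊥ := eq_bot_iff.2 fun x hx => by
      obtain ⟨k, hk⟩ := h2 x
      exact (pow_eq_one_iff_of_coprime (((Nat.coprime_primes hp Nat.prime_two).2 p2).pow_right k)).1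
        ⟨hx, hk⟩
    rw [this, card_bot]; exact hp.one_le

theorem solv_of_quot (C : Subgroup G) [C.Normal] (h1 : Group.IsSolvable C)
    (h2 : Group.IsSolvable (G ⧸ C)) : Group.IsSolvable G :=
  Group.isSolvable_of_ker_le_range C.subtype (QuotientGroup.mk' C) (by simp)

/-- The Sylow 2-subgroup of a non-solvable quotient is not cyclic. -/
theorem ncyc (hG : ¬ Group.IsSolvable G) (C : Subgroup G) [C.Normal] (hC : Group.IsSolvable C)
    (S : Sylow 2 G) (h1 : ∀ a ∈ S, ∀ b ∈ S, a * b * a⁻¹ * b⁻¹ ∈ C)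
    (h2 : ∀ a ∈ S, ∀ b ∈ S, a ∉ C → b ∉ C → a * a ∈ C → b * b ∈ C → a⁻¹ * b ∈ C) : False := by
  let f := QuotientGroup.mk' C
  have f1 : ∀ y, f y = 1 ↔ y ∈ C := fun y => QuotientGroup.eq_one_iff y
  refine H15.not_cyclic_sylow_two (fun k => hG (solv_of_quot C hC k))
    (S.mapSurjective (QuotientGroup.mk'_surjective C)) (cyc_of_uniq (Sylow.isPGroup' _) ?_ ?_)
  · rintro _ ⟨a, ha, rfl⟩ _ ⟨b, hb, rfl⟩
    exact comm_iff.2 ((f1 (a * b * a⁻¹ * b⁻¹)).2 (h1 a ha b hb))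
  · rintro _ ⟨a, ha, rfl⟩ _ ⟨b, hb, rfl⟩ a1 b1 aa bb
    exact QuotientGroup.eq.2 (h2 a ha b hb (mt (f1 _).2 a1) (mt (f1 _).2 b1) ((f1 (a * a)).1 aa)
      ((f1 (b * b)).1 bb))

theorem comm_of_sq {C : Subgroup G} [hC : C.Normal] {a b : G} (h1 : a * a ∈ C) (h2 : b * b ∈ C)
    (h3 : a * b * (a * b) ∈ C) : a * b * a⁻¹ * b⁻¹ ∈ C := by
  have := mul_mem (mul_mem h3 (hC.conj_mem _ (inv_mem h1) b⁻¹)) (inv_mem h2)
  convert this using 1; group

/-- A central involution of a `2`-group modulo `B`. -/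
theorem exists_mod {P A B : Subgroup G} (h2 : ∀ x ∈ P, ∃ k : ℕ, x ^ 2 ^ k ∈ B)
    (hB : ∀ y ∈ P, ∀ n ∈ B, y * n * y⁻¹ ∈ B) (l : A ≤ P) (hA : ∀ y ∈ P, ∀ n ∈ A, y * n * y⁻¹ ∈ A)
    (hn : ¬ A ≤ B) : ∃ a ∈ A, a ∉ B ∧ a * a ∈ B ∧ ∀ y ∈ P, y * a * y⁻¹ * a⁻¹ ∈ B := by
  haveI : (B.subgroupOf P).Normal := ⟨fun n hn y => hB y y.2 n hn⟩
  have hA' : (A.subgroupOf P).Normal := ⟨fun n hn y => hA y y.2 n hn⟩
  let f := QuotientGroup.mk' (B.subgroupOf P)
  have f1 : ∀ y : P, f y = 1 ↔ (y : G) ∈ B := fun y => QuotientGroup.eq_one_iff y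
  have hp : IsPGroup 2 (P ⧸ B.subgroupOf P) := fun x => by
    obtain ⟨x, rfl⟩ := QuotientGroup.mk'_surjective _ x
    obtain ⟨k, hk⟩ := h2 x x.2
    exact ⟨k, (f1 (x ^ 2 ^ k)).2 hk⟩
  haveI := hp.isNilpotent
  haveI := hA'.map f (QuotientGroup.mk'_surjective _)
  obtain ⟨x, ⟨⟨a, ha, rfl⟩, hz⟩, o⟩ := H10.exists_orderOf_eq_of_ne_bot (hp.to_subgroup _)
    (H3.inf_center_ne_bot ((A.subgroupOf P).map f) fun e => hn fun a ha =>
      (f1 ⟨a, l ha⟩).1 (mem_bot.1 (e ▸ mem_map_of_mem f (K := A.subgroupOf P) ha)))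
  obtain ⟨o2, o1⟩ := o2.1 o
  exact ⟨a, ha, mt (f1 a).2 o2, (f1 (a * a)).1 o1,
    fun y hy => (f1 (⟨y, hy⟩ * a * ⟨y, hy⟩⁻¹ * a⁻¹)).1 (comm_iff.1 (mZ.1 hz (f ⟨y, hy⟩)))⟩

/-- The normaliser of a Sylow 2-subgroup of a non-solvable subgroup. -/
theorem ns2 {K : Subgroup G} (hK : ¬ Group.IsSolvable K) : ∃ H : Subgroup G, H ≠ ⊤ ∧
    centralizer (K : Set G) ≤ H ∧ (K.Normal → H ⊔ K = ⊤) ∧
    ∃ a ∈ K, ∃ b ∈ K, a ∈ H ∧ b ∈ H ∧ ¬ Commute a b := by
  obtain ⟨P⟩ : Nonempty (Sylow 2 K) := inferInstance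
  have m : ∀ a : K, a ∈ normalizer (P : Set K) →
      (a : G) ∈ normalizer ((P : Subgroup K).map K.subtype : Set G) := fun a ha =>
    le_normalizer_map (H := P) K.subtype ⟨a, ha, rfl⟩
  refine ⟨normalizer ((P : Subgroup K).map K.subtype : Set G), fun e => ?_,
    (centralizer_le (map_subtype_le _)).trans (centralizer_le_normalizer _),
    fun _ => Sylow.normalizer_sup_eq_top P, ?_⟩
  · have := (normalizer_eq_top_iff.1 e).comap K.subtype
    rw [comap_map_eq_self_of_injective K.subtype_injective] at this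
    exact H15.not_normal_sylow_two hK P this
  · by_contra k
    push Not at k
    refine H15.not_npc_two_of_not_isSolvable hK
      (H8.hasNormalPComplement_of_normalizer_le_centralizer P fun a ha b hb => Subtype.ext ?_)
    exact k b b.2 a a.2 (m b (le_normalizer hb)) (m a ha)

theorem PCA.lemX (h : PCA G) {K : Subgroup G} {a b : G} (ab : ¬ Commute a b)
    (ha : a ∈ centralizer (K : Set G)) (hb : b ∈ centralizer (K : Set G)) :
    Group.IsSolvable K := by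
  by_contra hK
  obtain ⟨H, hH, l, -, x, hx, y, hy, x', y', k⟩ := ns2 hK
  exact k ((h H hH).cen x' (l ha) (l hb) (mC.1 ha x hx).symm (mC.1 hb x hx).symm ab y').symm

theorem PCA.lem0 (h : PCA G) {K : Subgroup G} [hn : K.Normal] {x : G}
    (hx : x ∈ centralizer (K : Set G)) (xZ : x ∉ center G) : Group.IsSolvable K := by
  by_contra hK
  obtain ⟨H, hH, l, t, a, ha, b, hb, a', b', k⟩ := ns2 hK
  have : H ⊔ K ≤ centralizer {x} := sup_le
    (fun y hy => mc.2 ((h H hH).cen (l hx) a' b' (mC.1 hx a ha) (mC.1 hx b hb) k hy))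
    fun y hy => mc.2 (mC.1 hx y hy)
  exact xZ (mZ.2 fun y => mc.1 (this (t hn ▸ mem_top y)))

theorem ne_top_of_solv (hG : ¬ Group.IsSolvable G) {H : Subgroup G} (h : Group.IsSolvable H) :
    H ≠ ⊤ := by
  rintro rfl; exact hG (H29.isSolvable_of_equiv topEquiv.symm)

end Cfsg.Agent.H7.CA
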