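import Cfsg.Agent.H7.CA1

/-! In a non-solvable group whose proper subgroups are CA, solvable normal subgroups are central. -/

set_option autoImplicit false
set_option linter.unusedSectionVars false

namespace Cfsg.Agent.H7.CA

open Subgroup
open scoped commutatorElement

universe u
variable {G : Type u} [Group G] [Finite G] {W : Subgroup G} {r : ℕ}

theorem solvZ : Group.IsSolvable (center G) :=
  H29.isSolvable_of_comm' fun a _ _ hb => mZ.1 hb a

theorem solv_comap {X : Type*} [Group X] (f : G →* X) (hf : f.ker ≤ center G) {K : Subgroup X}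
    (h : Group.IsSolvable K) : Group.IsSolvable (K.comap f) := by
  haveI := solvZ (G := G)
  haveI := H29.isSolvable_of_le hf
  exact Group.isSolvable_of_ker_le_range (inclusion (ker_le_comap f K)) (f.subgroupComap K)
    fun x hx => ⟨⟨x, congrArg Subtype.val hx⟩, rfl⟩

/-- The preimage of a Sylow 2-subgroup of the central quotient. -/
abbrev TT (P : Sylow 2 (G ⧸ center G)) : Subgroup G := (P : Subgroup (G ⧸ center G)).comap (pz G)

theorem TT_solv (P : Sylow 2 (G ⧸ center G)) : Group.IsSolvable (TT P) :=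
  solv_comap _ (QuotientGroup.ker_mk' _).le (by haveI := P.2.isNilpotent; infer_instance)

theorem TT_pow (P : Sylow 2 (G ⧸ center G)) : ∀ x ∈ TT P, ∃ k : ℕ, x ^ 2 ^ k ∈ center G :=
  fun x hx => by
    obtain ⟨k, hk⟩ := P.2 ⟨_, hx⟩
    exact ⟨k, pz_one.1 (by rw [map_pow]; exact congrArg Subtype.val hk)⟩

theorem Z_le_TT (P : Sylow 2 (G ⧸ center G)) : center G ≤ TT P := fun x hx => by
  change pz G x ∈ P; rw [pz_one.2 hx]; exact one_mem _

theorem cjZ (y : G) : ∀ n ∈ center G, y * n * y⁻¹ ∈ center G := fun n hn =>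
  (inferInstance : (center G).Normal).conj_mem n hn y

theorem cjC {H P : Subgroup G} (l : P ≤ H) : ∀ y ∈ P, ∀ n ∈ centralizer (H : Set G),
    y * n * y⁻¹ ∈ centralizer (H : Set G) := fun y hy n hn => by
  rwa [(mC.1 hn y (l hy)).eq, mul_inv_cancel_right]

theorem mem_of_cop {H : Subgroup G} {x : G} {m n : ℕ} (c : m.Coprime n) (h1 : x ^ m ∈ H)
    (h2 : x ^ n ∈ H) : x ∈ H := by
  have := mul_mem (zpow_mem h1 (Nat.gcdA m n)) (zpow_mem h2 (Nat.gcdB m n))
  rwa [← zpow_natCast, ← zpow_natCast, ← zpow_mul, ← zpow_mul, ← zpow_add, ← Nat.gcd_eq_gcd_ab,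
    c.gcd_eq_one, Nat.cast_one, zpow_one] at this

theorem nC {H : Subgroup G} {a : G} (h : a ∉ centralizer (H : Set G)) : ∃ y ∈ H, ¬ Commute y a := by
  by_contra k; push Not at k; exact h k

theorem exp2 {H P A : Subgroup G} (hH : CAon H) (l : P ≤ H) (lW : W ≤ H)
    (h2 : ∀ x ∈ P, ∃ k : ℕ, x ^ 2 ^ k ∈ centralizer (H : Set G)) (lA : A ≤ P)
    (hA : ∀ y ∈ P, ∀ n ∈ A, y * n * y⁻¹ ∈ A) (AW : A ≤ centralizer (W : Set G))
    (hn : ¬ A ≤ centralizer (H : Set G)) : ∀ y ∈ P, y * y ∈ centralizer (W : Set G) := by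
  obtain ⟨a, ha, a1, a2, a3⟩ := exists_mod h2 (cjC l) lA hA hn
  obtain ⟨x, hx, k⟩ := nC a1
  exact fun y hy w hw => hH a (l (lA ha)) x hx k w (lW hw) _ (l (mul_mem hy hy)) (mC.1 (AW ha) w hw)
    (sq_comm (mC.1 (a3 y hy) y (l hy)).symm (mC.1 (a3 y hy) a (l (lA ha))).symm
      (mC.1 a2 y (l hy)))

/-- A chief factor over the centre. -/
structure Wd (W : Subgroup G) (r : ℕ) : Prop where
  nrm : W.Normal
  nc : ¬ W ≤ center G
  min : ∀ V : Subgroup G, V.Normal → ∀ z ∈ W, z ∈ V → z ∉ center G → W ≤ V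
  cz : ∀ a ∈ W, ∀ b ∈ W, Commute (pz G a) (pz G b)
  pr : r.Prime
  ex : ∀ w ∈ W, w ^ r ∈ center G

theorem exists_Wd {N : Subgroup G} (hN : N.Normal) (hs : Group.IsSolvable N) (nc : ¬ N ≤ center G) :
    ∃ W ≤ N, ∃ r, Wd W r := by
  obtain ⟨W, ⟨n, l, c⟩, m⟩ := exists_minimal_of_wellFoundedLT
    (fun V : Subgroup G => V.Normal ∧ V ≤ N ∧ ¬ V ≤ center G) ⟨N, hN, le_rfl, nc⟩
  have mn : ∀ V : Subgroup G, V.Normal → ∀ z ∈ W, z ∈ V → z ∉ center G → W ≤ V :=
    fun V a z h1 h2 h3 => (m (y := W ⊓ V) ⟨inferInstance, inf_le_left.trans l,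
      fun k => h3 (k ⟨h1, h2⟩)⟩ inf_le_left).trans inf_le_right
  have cz : ∀ a ∈ W, ∀ b ∈ W, Commute (pz G a) (pz G b) := fun a ha b hb => by
    by_contra k
    have lt := H3.commutator_lt_of_isSolvable (H29.isSolvable_of_le l) fun e => c (e ▸ bot_le)
    have := commutator_mem_commutator ha hb
    exact lt.not_ge (mn _ inferInstance _ (lt.le this) this (mt pz_comm.2 k))
  obtain ⟨w, hw, wZ⟩ := SetLike.not_le_iff_exists.1 c
  have o1 : orderOf (pz G w) ≠ 1 := fun e => wZ (pz_one.1 (orderOf_eq_one_iff.1 e))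
  obtain ⟨k, hk⟩ := (orderOf (pz G w)).minFac_dvd
  have pr := Nat.minFac_prime o1
  generalize (orderOf (pz G w)).minFac = r at hk pr
  let V : Subgroup G :=
    { carrier := {v | v ∈ W ∧ pz G v ^ r = 1}
      one_mem' := ⟨one_mem _, by simp⟩
      mul_mem' := fun {a b} ha hb => ⟨mul_mem ha.1 hb.1, by
        rw [map_mul, (cz a ha.1 b hb.1).mul_pow, ha.2, hb.2, one_mul]⟩
      inv_mem' := fun {a} ha => ⟨inv_mem ha.1, by rw [map_inv, inv_pow, ha.2, inv_one]⟩ }
  have := mn V ⟨fun v hv g => ⟨n.conj_mem v hv.1 g, by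
      rw [map_mul, map_mul, map_inv, conj_pow, hv.2]; simp⟩⟩ (w ^ k) (pow_mem hw k)
    ⟨pow_mem hw k, by rw [map_pow, ← pow_mul, mul_comm, ← hk, pow_orderOf_eq_one]⟩ fun e => by
      have := orderOf_dvd_of_pow_eq_one (map_pow (pz G) w k ▸ pz_one.2 e)
      have p := orderOf_pos (pz G w)
      rw [hk] at this p
      have := Nat.le_of_dvd (Nat.pos_of_mul_pos_left p) this
      have := pr.two_le
      nlinarith [Nat.pos_of_mul_pos_left p]
  exact ⟨W, l, r, n, c, mn, cz, pr, fun v hv => pz_one.1 (by rw [map_pow]; exact (this hv).2)⟩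

theorem Wd.solv (d : Wd W r) : Group.IsSolvable W := by
  haveI := solvZ (G := G)
  exact H29.isSolvable_of_commutator_mem fun a ha b hb => pz_comm.1 (d.cz a ha b hb)

theorem PCA.solvC (h : PCA G) [W.Normal] (nc : ¬ W ≤ center G) :
    Group.IsSolvable (centralizer (W : Set G)) := by
  obtain ⟨w, hw, wZ⟩ := SetLike.not_le_iff_exists.1 nc
  exact h.lem0 (x := w) (fun k hk => (hk w hw).symm) wZ

theorem PCA.solvCZ (h : PCA G) [W.Normal] (nc : ¬ W ≤ center G) : Group.IsSolvable (CZ W) := by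
  haveI := h.solvC nc
  exact H29.isSolvable_of_commutator_mem fun a ha b hb => comm_three ha hb

theorem Wd.odd (d : Wd W r) (h : PCA G) (hG : ¬ Group.IsSolvable G) (hr : r ≠ 2) : False := by
  obtain ⟨S⟩ : Nonempty (Sylow 2 G) := inferInstance
  haveI := d.nrm
  have cop : r.Coprime 2 := (Nat.coprime_primes d.pr Nat.prime_two).2 hr
  have hH := h (W ⊔ S) (ne_top_of_solv hG (H55.isSolvable_sup d.solv
    (by haveI := S.2.isNilpotent; infer_instance) le_normalizer_of_normal))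
  have lW : W ≤ W ⊔ S := le_sup_left
  have lS : (S : Subgroup G) ≤ W ⊔ S := le_sup_right
  have sp : ∀ y ∈ (S : Subgroup G), ∃ k : ℕ, y ^ 2 ^ k = 1 := fun y hy =>
    (S.2 ⟨y, hy⟩).imp fun k hk => congrArg Subtype.val hk
  have sp' : ∀ B : Subgroup G, ∀ y ∈ (S : Subgroup G), ∃ k : ℕ, y ^ 2 ^ k ∈ B := fun B y hy =>
    (sp y hy).imp fun k hk => by rw [hk]; exact one_mem _
  generalize W ⊔ (S : Subgroup G) = H at hH lW lS
  have nc := ncyc hG _ (h.solvC d.nc) S
  set C := centralizer (W : Set G)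
  have ca : ∀ y ∈ (S : Subgroup G), ∀ w ∈ W, Commute (pz G w) (pz G y) → Commute w y :=
    fun y hy w hw k => by
      obtain ⟨j, hj⟩ := sp y hy
      have := mZ.1 (pz_comm.1 k)
      exact comm_of_cop (this w).symm (this y).symm (cop.pow_right j) (mZ.1 (d.ex w hw) y).symm
        (hj ▸ Commute.one_right w)
  have cb : ∀ y ∈ (S : Subgroup G), y ∉ C → y * y ∈ C → ∀ v ∈ W,
      v * (y * v * y⁻¹) ∈ centralizer (H : Set G) := fun y hy y1 y2 => by
    obtain ⟨x, hx, k⟩ := nC y1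
    have m : ∀ v ∈ W, v * (y * v * y⁻¹) ∈ W := fun v hv => mul_mem hv (d.nrm.conj_mem v hv y)
    have c : ∀ v ∈ W, Commute (v * (y * v * y⁻¹)) y := fun v hv => ca y hy _ (m v hv) (by
      have e : y * (v * (y * v * y⁻¹)) = y * v * y⁻¹ * v * y := by
        calc _ = y * v * y⁻¹ * (y * y * v) * y⁻¹ := by group
          _ = _ := by rw [← (mC.1 y2 v hv).eq]; group
      rw [Commute, SemiconjBy, ← map_mul _ y, e, map_mul _ v, map_mul _ _ y, map_mul _ _ v,
        (d.cz _ hv _ (d.nrm.conj_mem v hv y)).eq])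
    intro u hu
    generalize hw : u * (y * u * y⁻¹) = w
    have w1 : w ∈ W := hw ▸ m u hu
    have w2 : Commute w y := hw ▸ c u hu
    have w3 : ∀ v ∈ W, Commute v w := fun v hv => by
      have z := mZ.1 (pz_comm.1 (d.cz w w1 v hv))
      have e1 := cpow_l (z w).symm r
      rw [comm_iff.1 (mZ.1 (d.ex w w1) v).symm] at e1
      have e2 := comm_iff.1 (hH y (lS hy) x (lW hx) k w (lW w1) _ (lW (m v hv)) w2 (c v hv))
      refine (comm_iff.2 ((pow_eq_one_iff_of_coprime cop).1 ⟨e1.symm, ?_⟩)).symm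
      rw [← e2, sq]
      calc _ = (w * v * w⁻¹ * v⁻¹) * (v * y) * (w * v * w⁻¹ * v⁻¹) * (v * y)⁻¹ := by
            rw [mul_assoc _ (v * y), (z (v * y)).eq]; group
        _ = w * v * (w⁻¹ * y * w) * v * (w⁻¹ * (y⁻¹ * y)) * v⁻¹ * y⁻¹ * v⁻¹ := by group
        _ = _ := by
            rw [mul_assoc w⁻¹ y, ← w2.eq, inv_mul_cancel_left, ← mul_assoc w⁻¹,
              w2.inv_inv.eq]; group
    by_contra k'
    obtain ⟨g, hg, k'⟩ := nC k'
    exact y1 fun v hv => hH w (lW w1) g hg k' v (lW hv) y (lS hy) (w3 v hv) w2.symm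
  have four : ∀ a ∈ (S : Subgroup G), ∀ b ∈ (S : Subgroup G), a ∉ C → b ∉ C → a * a ∈ C →
      b * b ∈ C → a * b * (a * b) ∈ C → a * b ∈ C := fun a ha b hb a1 b1 a2 b2 ab => by
    by_contra k
    refine a1 fun w hw => ?_
    have q1 := cb b hb b1 b2 w hw
    have q2 := cb a ha a1 a2 _ (inv_mem hw)
    have q3 := cb _ (mul_mem ha hb) k ab w hw
    have e : w ^ 2 = w * (a * b * w * (a * b)⁻¹) *
        ((w⁻¹ * (a * w⁻¹ * a⁻¹)) * (w * (b * w * b⁻¹)))⁻¹ := by
      calc _ = w * (a * w⁻¹ * (w * (b * w * b⁻¹) * a⁻¹)) * (w * (b * w * b⁻¹))⁻¹ *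
            (w⁻¹ * (a * w⁻¹ * a⁻¹))⁻¹ := by
            rw [← (mC.1 q1 _ (lS (inv_mem ha))).eq, sq]; group
        _ = _ := by group
    have q4 : w ^ 2 ∈ centralizer (H : Set G) := e ▸ mul_mem q3 (inv_mem (mul_mem q2 q1))
    exact (mC.1 (mem_of_cop cop (center_le_centralizer _ (d.ex w hw)) q4) a (lS ha)).symm
  by_cases sc : (S : Subgroup G) ≤ C
  · exact nc (fun a ha b hb => sc (mul_mem (mul_mem (mul_mem ha hb) (inv_mem ha)) (inv_mem hb)))
      fun a ha b _ k => absurd (sc ha) k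
  have nC' : C.Normal := inferInstance
  obtain ⟨z, hz, z1, z2, z3⟩ := exists_mod (P := S) (A := S) (B := C)
    (sp' C) (fun y _ n hn => nC'.conj_mem n hn y)
    le_rfl (fun y hy n hn => mul_mem (mul_mem hy hn) (inv_mem hy)) sc
  have u1 : ∀ a ∈ (S : Subgroup G), a ∉ C → a * a ∈ C → a * z ∈ C := fun a ha a1 a2 =>
    four a ha z hz a1 z1 a2 z2 (by
      have := mul_mem (mul_mem (z3 a ha) (nC'.conj_mem _ a2 z)) z2
      convert this using 1; group)
  have u2 : ∀ a ∈ S, ∀ b ∈ S, a ∉ C → b ∉ C → a * a ∈ C → b * b ∈ C → a⁻¹ * b ∈ C :=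
    fun a ha b hb a1 b1 a2 b2 => by
      have := mul_mem (mul_mem (inv_mem a2) (u1 a ha a1 a2))
        (mul_mem (inv_mem (u1 b hb b1 b2)) b2)
      convert this using 1; group
  by_cases s1 : (S : Subgroup G) ⊓ C ≤ centralizer (H : Set G)
  · obtain ⟨x, hx, k⟩ := nC z1
    have zc : ∀ y ∈ (S : Subgroup G), Commute y z := fun y hy => by
      by_cases yc : zpowers y ≤ C
      · exact (mC.1 (s1 ⟨hy, yc (mem_zpowers y)⟩) z (lS hz)).symm
      obtain ⟨_, ⟨j, rfl⟩, t1, t2, -⟩ := exists_mod (P := zpowers y) (A := zpowers y) (B := C)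
        (fun t ht => sp' C t (zpowers_le.2 hy ht))
        (fun y _ n hn => nC'.conj_mem n hn y) le_rfl
        (fun y hy n hn => mul_mem (mul_mem hy hn) (inv_mem hy)) yc
      have := mC.1 (s1 ⟨mul_mem (zpow_mem hy j) hz, u1 _ (zpow_mem hy j) t1 t2⟩) y (lS hy)
      simpa using ((Commute.refl y).zpow_right j).inv_right.mul_right this
    exact nc (fun a ha b hb => by
      rw [comm_iff.1 (hH z (lS hz) x (lW hx) k a (lS ha) b (lS hb) (zc a ha) (zc b hb))]
      exact one_mem _) u2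
  · have := exp2 (W := W) hH lS lW (sp' _) inf_le_left (fun y hy n hn =>
      ⟨(S : Subgroup G).mul_mem (mul_mem hy hn.1) (inv_mem hy), nC'.conj_mem n hn.2 y⟩)
      inf_le_right s1
    exact nc (fun a ha b hb => comm_of_sq (this a ha) (this b hb) (this _ (mul_mem ha hb))) u2

/-- The structure of a CA-group `T` at an element `w` which is central of order 2 modulo `Z`. -/
theorem CAon.dgrp {T Z : Subgroup G} (hT : CAon T) (hZ : Z ≤ centralizer (T : Set G)) {w : G}
    (hw : w ∈ T) (w1 : w ∉ centralizer (T : Set G)) (w2 : w * w ∈ Z)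
    (w3 : ∀ y ∈ T, y * w * y⁻¹ * w⁻¹ ∈ Z) :
    (∀ a ∈ T, ∀ b ∈ T, Commute a w → Commute b w → Commute a b) ∧
    (∀ y ∈ T, Commute (y * y) w) ∧
    (∀ y ∈ T, ∀ a ∈ T, Commute a w → Commute (y * a * y⁻¹) w) ∧
    ∀ y ∈ T, ¬ Commute y w → (∀ a ∈ T, Commute a w → Commute a y → a ∈ centralizer (T : Set G)) ∧
      y * y ∈ centralizer (T : Set G) ∧
      ∀ a ∈ T, Commute a w → a * (y * a * y⁻¹) ∈ centralizer (T : Set G) := by
  obtain ⟨x, hx, k⟩ := nC w1
  have h1 := hT w hw x hx k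
  have h2 : ∀ y ∈ T, Commute (y * y) w := fun y hy =>
    sq_comm (mC.1 (hZ (w3 y hy)) y hy).symm (mC.1 (hZ (w3 y hy)) w hw).symm (mC.1 (hZ w2) y hy)
  refine ⟨h1, h2, fun y hy a ha aw => cj'.2 ?_, fun y hy yw => ?_⟩
  · have := (mC.1 (hZ (w3 _ (inv_mem hy))) a ha).mul_right aw
    simpa using this
  have h3 : ∀ y ∈ T, ¬ Commute y w → ∀ a ∈ T, Commute a w → Commute a y →
      a ∈ centralizer (T : Set G) := fun y hy yw a ha aw ay => by
    by_contra k'
    obtain ⟨g, hg, k'⟩ := nC k'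
    exact yw (hT a ha g hg k' y hy w hw ay.symm aw.symm)
  have h4 : ∀ y ∈ T, ¬ Commute y w → y * y ∈ centralizer (T : Set G) := fun y hy yw =>
    h3 y hy yw _ (mul_mem hy hy) (h2 y hy) ((Commute.refl y).mul_left (Commute.refl y))
  refine ⟨h3 y hy yw, h4 y hy yw, fun a ha aw => ?_⟩
  have := mul_mem (h4 _ (mul_mem ha hy) fun e => yw (by simpa using aw.inv_left.mul_left e))
    (inv_mem (h4 y hy yw))
  convert this using 1; group

theorem Wd.two (d : Wd W 2) (h : PCA G) (hG : ¬ Group.IsSolvable G)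
    (hab : (∀ a ∈ W, ∀ b ∈ W, Commute a b) ∨
      ∀ V : Subgroup G, V.Normal → (∀ a ∈ V, ∀ b ∈ V, Commute a b) → V ≤ center G) : False := by
  obtain ⟨S⟩ : Nonempty (Sylow 2 G) := inferInstance
  haveI := d.nrm
  let P := S.mapSurjective (pz_surj (G := G))
  have lS : (S : Subgroup G) ≤ TT P := fun x hx => mem_map_of_mem (pz G) hx
  have lW : W ≤ TT P := by
    haveI := d.nrm.map (pz G) pz_surj
    refine map_le_iff_le_comap.1 (IsPGroup.le_sylow_of_normal ?_ P)
    rintro ⟨_, w, hw, rfl⟩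
    exact ⟨1, Subtype.ext ((map_pow _ _ _).symm.trans (pz_one.2 (d.ex w hw)))⟩
  have sT := TT_solv P
  have hT := h _ (ne_top_of_solv hG sT)
  have tp := TT_pow P
  have zT := Z_le_TT P
  generalize TT P = T at *
  have nc := ncyc hG _ (h.solvC d.nc) S
  have ncz := ncyc hG _ (h.solvCZ d.nc) S
  have nT : ¬ T ≤ CZ W := fun k => ncz
    (fun a ha b hb => k (lS (mul_mem (mul_mem (mul_mem ha hb) (inv_mem ha)) (inv_mem hb))))
    fun a ha b _ e => absurd (k (lS ha)) e
  have cW : ∀ y ∈ T, ∀ n ∈ W, y * n * y⁻¹ ∈ W := fun y _ n hn => d.nrm.conj_mem n hn y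
  have ww : ∀ v ∈ W, v * v ∈ center G := fun v hv => sq v ▸ d.ex v hv
  by_cases ca : ∃ z ∈ W, z ∈ centralizer (T : Set G) ∧ z ∉ center G
  · obtain ⟨z, hz, z1, z2⟩ := ca
    have wa : W ≤ centralizer (W : Set G) := d.min _ inferInstance z hz (centralizer_le lW z1) z2
    have n1 : ¬ W ≤ centralizer (T : Set G) := fun k => nT fun t ht =>
      C_le_CZ W fun w hw => (mC.1 (k hw) t ht).symm
    have e2 := exp2 (W := W) hT le_rfl lW
      (fun x hx => (tp x hx).imp fun k hk => center_le_centralizer _ hk) lW cW wa n1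
    obtain ⟨w, hw, w1⟩ := SetLike.not_le_iff_exists.1 n1
    obtain ⟨t, ht, k⟩ := nC w1
    have mt : centralizer {z} ≠ ⊤ := fun e => z2 (mZ.2 fun g => mc.1 (e ▸ mem_top g))
    have lT : T ≤ centralizer {z} := fun x hx => mc.2 (mC.1 z1 x hx)
    refine nc (fun a ha b hb => comm_of_sq (e2 a (lS ha)) (e2 b (lS hb))
      (e2 _ (lS (mul_mem ha hb)))) fun a ha b hb => ti_mod (Y := ⊤) (M := centralizer {z})
        (fun y _ n hn => Normal.conj_mem inferInstance n hn y)
        (fun x hx => mc.2 (mC.1 hx z hz).symm) le_top (fun m hm m1 g _ hg => ?_)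
        (fun e => mt (eq_top_iff.2 e)) (lT (lS ha)) (lT (lS hb))
    have z' : g⁻¹ * z * g ∈ W := by simpa using d.nrm.conj_mem z hz g⁻¹
    by_cases c : g⁻¹ * z * g ∈ centralizer (centralizer {z} : Set G)
    · have gn : g ∈ normalizer (centralizer {z} : Set G) :=
        mem_normalizer_fintype fun n hn => mc.2 (cj'.2 (mC.1 c n hn))
      refine mc.2 ((h _ fun e => ?_).cen (le_normalizer (mc.2 (Commute.refl z)))
        (le_normalizer (lT ht)) (le_normalizer (lT (lW hw))) (mc.1 (lT ht)) (mc.1 (lT (lW hw))) k gn)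
      haveI := normalizer_eq_top_iff.1 e
      exact k (mC.1 (d.min (centralizer (centralizer {z} : Set G)) inferInstance z hz
        (fun x hx => mc.1 hx) z2 hw) t (lT ht))
    · obtain ⟨x, hx, k'⟩ := nC c
      exact absurd (fun v hv => h _ mt _ (lT (lW z')) x hx k' v (lT (lW hv)) m hm
        (mC.1 (wa z') v hv) (cj'.1 (mc.1 hg))) m1
  have cb : ∀ z ∈ W, z ∈ centralizer (T : Set G) → z ∈ center G := fun z a b => by
    by_contra c; exact ca ⟨z, a, b, c⟩
  obtain ⟨w, hw, w1, w2, w3⟩ := exists_mod tp (fun y _ => cjZ y) lW cW d.nc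
  obtain ⟨a1, a2, a3, a4⟩ := hT.dgrp (center_le_centralizer _) (lW hw) (mt (cb w hw) w1) w2 w3
  rcases hab with hab | hab
  · refine nT fun y hy => mCZ.2 fun v hv => ?_
    by_cases yw : Commute y w
    · exact (a1 v (lW hv) y hy (hab v hv w hw) yw).map _
    have := mul_mem (cjZ v⁻¹ _ (cb _ (mul_mem hv (cW y hy v hv))
      ((a4 y hy yw).2.2 v (lW hv) (hab v hv w hw)))) (inv_mem (ww v hv))
    exact (pz_comm.2 (by convert this using 1; group)).symm
  have na : ¬ W ≤ centralizer (W : Set G) := fun k => d.nc (hab W d.nrm fun a ha b hb => k hb a ha)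
  have c1 : centralizer (W : Set G) ≤ center G := by
    obtain ⟨p, hp, p1⟩ := SetLike.not_le_iff_exists.1 na
    obtain ⟨q, hq, k⟩ := nC p1
    exact hab _ inferInstance fun a ha b hb => (h _ (ne_top_of_solv hG (H55.isSolvable_sup d.solv
      (h.solvC d.nc) le_normalizer_of_normal))).cen (mem_sup_right hb) (mem_sup_left hq)
        (mem_sup_left hp) (mC.1 hb q hq) (mC.1 hb p hp) k (mem_sup_right ha)
  have c2 : centralizer (T : Set G) ≤ center G := (centralizer_le lW).trans c1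
  obtain ⟨a, ha, aw, aa⟩ : ∃ a ∈ T, Commute a w ∧ a * a ∉ center G := by
    by_contra k
    push Not at k
    have e : ∀ y ∈ T, y * y ∈ center G := fun y hy => by
      by_cases yw : Commute y w
      exacts [k y hy yw, c2 (a4 y hy yw).2.1]
    exact nT fun y hy => mCZ.2 fun v hv => pz_comm.2
      (comm_of_sq (e v (lW hv)) (e y hy) (e _ (mul_mem (lW hv) hy)))
  have i2 : ∀ y ∈ T, ∀ y' ∈ T, ¬ Commute y w → ¬ Commute y' w → Commute (y * y') w :=
    fun y hy y' hy' k k' => by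
      by_contra k''
      have q1 := pz_one.2 (c2 ((a4 y hy k).2.2 a ha aw))
      have q2 := pz_one.2 (c2 ((a4 y' hy' k').2.2 a ha aw))
      have q3 := pz_one.2 (c2 ((a4 _ (mul_mem hy hy') k'').2.2 a ha aw))
      simp only [map_mul, map_inv] at q1 q2 q3
      refine aa (pz_one.1 ?_)
      rw [map_mul, ← q3]
      congr 1
      calc _ = pz G y * (pz G a)⁻¹ * (pz G y)⁻¹ := by
            rw [← conj_inv, ← inv_eq_of_mul_eq_one_right q1, inv_inv]
        _ = _ := by rw [inv_eq_of_mul_eq_one_right q2]; group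
  obtain ⟨g, u, hu, uw, k⟩ : ∃ g, ∃ u ∈ W, Commute u w ∧ ¬ Commute (g * u * g⁻¹) w := by
    by_contra k
    push Not at k
    exact w1 (hab (W ⊓ centralizer {w}) ⟨fun u hu g => ⟨d.nrm.conj_mem u hu.1 g,
      mc.2 (k g u hu.1 (mc.1 hu.2))⟩⟩ (fun a ha b hb => a1 a (lW ha.1) b (lW hb.1) (mc.1 ha.2)
        (mc.1 hb.2)) ⟨hw, mc.2 (Commute.refl w)⟩)
  have su : g * u * g⁻¹ ∈ W := d.nrm.conj_mem u hu g
  have u1 : ∀ v ∈ W, Commute v w → Commute (g⁻¹ * v * g) w → v ∈ center G := fun v hv p q =>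
    c2 ((a4 _ (lW su) k).1 v (lW hv) p (cj'.2 (a1 u (lW hu) _
      (lW (by simpa using d.nrm.conj_mem v hv g⁻¹)) uw q)).symm)
  have u2 : ∀ v ∈ W, Commute v w → pz G v = 1 ∨ pz G v = pz G w := fun v hv p => by
    refine or_iff_not_imp_left.2 fun n => ?_
    have := u1 _ (mul_mem hv hw) (p.mul_left (Commute.refl w)) (by
      have := i2 _ (lW (by simpa using d.nrm.conj_mem v hv g⁻¹)) _
        (lW (by simpa using d.nrm.conj_mem w hw g⁻¹)) (fun e => n (pz_one.2 (u1 v hv p e)))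
        fun e => w1 (u1 w hw (Commute.refl w) e)
      convert this using 1; group)
    have e := pz_one.2 w2
    rw [← pz_one, map_mul] at this
    rw [map_mul, ← this] at e
    exact (mul_right_cancel e).symm
  generalize g * u * g⁻¹ = s at k su
  have s1 : ∀ y ∈ T, Commute (pz G y) (pz G s) → y ∈ CZ W := fun y hy e => mCZ.2 fun v hv => by
    have f : ∀ v ∈ W, Commute v w → Commute (pz G v) (pz G y) := fun v hv p => by
      rcases u2 v hv p with e | e <;> rw [e]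
      exacts [Commute.one_left _, (pz_comm.2 (w3 y hy)).symm]
    by_cases p : Commute v w
    · exact f v hv p
    · have := (f _ (mul_mem hv su) (i2 v (lW hv) s (lW su) p k)).mul_left e.symm.inv_left
      simpa using this
  have s2 : ∀ y ∈ T, y ∉ CZ W → pz G y * pz G s * (pz G y)⁻¹ = pz G w * pz G s := fun y hy n => by
    have m := cW y hy s su
    have := (u2 _ (mul_mem m (inv_mem su)) (i2 _ (lW m) _ (lW (inv_mem su)) (fun e => k (by
      simpa [mul_assoc] using a3 _ (inv_mem hy) _ (lW m) e)) fun e => k (by simpa using e))).resolve_left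
        fun e => n (s1 y hy (pz_comm.2 (pz_one.1 e)))
    rw [← this]; simp
  have s3 : ∀ y ∈ T, ∀ y' ∈ T, y ∉ CZ W → y' ∉ CZ W → y * y' ∈ CZ W := fun y hy y' hy' n n' =>
    s1 _ (mul_mem hy hy') (by
      rw [Commute, SemiconjBy, ← mul_inv_eq_iff_eq_mul, map_mul]
      calc _ = pz G y * (pz G y' * pz G s * (pz G y')⁻¹) * (pz G y)⁻¹ := by group
        _ = pz G y * pz G w * (pz G y)⁻¹ * (pz G y * pz G s * (pz G y)⁻¹) := by
            rw [s2 y' hy' n']; group
        _ = _ := by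
            rw [s2 y hy n, (pz_comm.2 (w3 y hy)).eq, mul_inv_cancel_right, ← mul_assoc, ← map_mul,
              pz_one.2 w2, one_mul])
  have nz : (CZ W).Normal := inferInstance
  refine ncz (fun a ha b hb => ?_) fun a ha b hb n n' _ _ =>
    s3 _ (lS (inv_mem ha)) _ (lS hb) (mt inv_mem_iff.1 n) n'
  by_cases n : a ∈ CZ W
  · simpa [mul_assoc] using mul_mem n (nz.conj_mem _ (inv_mem n) b)
  by_cases n' : b ∈ CZ W
  · exact mul_mem (nz.conj_mem _ n' a) (inv_mem n')
  · simpa [mul_assoc] using mul_mem (s3 a (lS ha) b (lS hb) n n')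
      (inv_mem (s3 b (lS hb) a (lS ha) n' n))

theorem PCA.rad (h : PCA G) (hG : ¬ Group.IsSolvable G) {N : Subgroup G} (hN : N.Normal)
    (hs : Group.IsSolvable N) : N ≤ center G := by
  by_contra nc
  by_cases hab : ∀ V : Subgroup G, V.Normal → (∀ a ∈ V, ∀ b ∈ V, Commute a b) → V ≤ center G
  · obtain ⟨W, -, r, d⟩ := exists_Wd hN hs nc
    by_cases r2 : r = 2
    exacts [(r2 ▸ d).two h hG (Or.inr hab), d.odd h hG r2]
  · push Not at hab
    obtain ⟨V, n, c, k⟩ := hab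
    obtain ⟨W, l, r, d⟩ := exists_Wd n (H29.isSolvable_of_comm' c) k
    by_cases r2 : r = 2
    exacts [(r2 ▸ d).two h hG (Or.inl fun a ha b hb => c a (l ha) b (l hb)), d.odd h hG r2]

/-- The unique component. -/
theorem PCA.comp (h : PCA G) (hG : ¬ Group.IsSolvable G) : ∃ L : Subgroup G, L.Normal ∧
    ¬ Group.IsSolvable L ∧ centralizer (L : Set G) ≤ center G ∧
    ∀ N : Subgroup L, N.Normal → N ≤ center L ∨ N = ⊤ := by
  obtain ⟨L, ⟨n, c⟩, m⟩ := exists_minimal_of_wellFoundedLT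
    (fun V : Subgroup G => V.Normal ∧ ¬ V ≤ center G) ⟨⊤, inferInstance,
      fun k => ne_top_of_solv hG solvZ (eq_top_iff.2 k)⟩
  have ns : ¬ Group.IsSolvable L := fun k => c (h.rad hG n k)
  have cl := h.rad hG inferInstance (h.solvC c)
  refine ⟨L, n, ns, cl, fun N hN => or_iff_not_imp_left.2 fun nc => ?_⟩
  let p : Subgroup G → Prop := fun V => V ≤ L ∧ (∀ y ∈ L, ∀ v ∈ V, y * v * y⁻¹ ∈ V) ∧ ¬ V ≤ center G
  obtain ⟨K, le, ⟨k1, k2, k3⟩, mk⟩ := exists_minimal_le_of_wellFoundedLT p (N.map L.subtype)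
    ⟨map_subtype_le _, fun y hy _ ⟨v, hv, e⟩ => ⟨_, hN.conj_mem v hv ⟨y, hy⟩, e ▸ rfl⟩,
      fun k => nc fun x hx => mZ.2 fun y => Subtype.ext (mZ.1 (k ⟨x, hx, rfl⟩) y)⟩
  have nK : ¬ Group.IsSolvable K := fun k => k3 fun x hx => cl fun y hy =>
    congrArg Subtype.val (mZ.1 ((h.sub L).rad ns (N := K.subgroupOf L)
      ⟨fun v hv g => k2 g g.2 v hv⟩ (H29.isSolvable_of_equiv (subgroupOfEquivOfLe k1))
        (show (⟨x, k1 hx⟩ : L) ∈ K.subgroupOf L from hx)) ⟨y, hy⟩)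
  have : K.Normal := ⟨fun x hx g => by
    by_contra nx
    have z : K ⊓ K.comap (MulAut.conj g).toMonoidHom ≤ center G := by
      by_contra k
      exact nx (mk (y := K ⊓ K.comap (MulAut.conj g).toMonoidHom) ⟨inf_le_left.trans k1,
        fun y hy v hv => ⟨k2 y hy v hv.1, by
          have := k2 _ (n.conj_mem y hy g) _ hv.2
          simpa [mem_comap, mul_assoc] using this⟩, k⟩ inf_le_left hx).2
    have cz : ∀ a ∈ K, g⁻¹ * a * g ∈ CZ K := fun a ha => mCZ.2 fun b hb => pz_comm.2 (z ⟨by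
        simpa [mul_assoc] using mul_mem hb (k2 _ (n.conj_mem a (k1 ha) g⁻¹) _ (inv_mem hb)), by
        simpa [mem_comap, mul_assoc] using
          mul_mem (k2 _ (n.conj_mem b (k1 hb) g) a ha) (inv_mem ha)⟩)
    have : ∀ a ∈ ⁅K, K⁆, g⁻¹ * a * g⁻¹⁻¹ ∈ centralizer (K : Set G) := fun a ha =>
      (commutator_le.2 fun a ha b hb => by
        simpa [mem_comap, mul_assoc, commutatorElement_def] using comm_three (cz a ha) (cz b hb) :
        ⁅K, K⁆ ≤ (centralizer (K : Set G)).comap (MulAut.conj g⁻¹).toMonoidHom) ha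
    by_cases ab : ∀ a ∈ ⁅K, K⁆, ∀ b ∈ ⁅K, K⁆, a * b = b * a
    · haveI := H29.isSolvable_of_comm' ab
      exact nK (H29.isSolvable_of_commutator_mem fun a ha b hb => commutator_mem_commutator ha hb)
    push Not at ab
    obtain ⟨a, ha, b, hb, ab⟩ := ab
    exact nK (h.lemX (fun e => ab (cj.1 e)) (this a ha) (this b hb))⟩
  exact eq_top_iff.2 fun x _ => by
    obtain ⟨y, hy, e⟩ := le (m ⟨this, k3⟩ k1 x.2)
    exact Subtype.ext e ▸ hy

end Cfsg.Agent.H7.CA
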