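import Cfsg.Agent.H96.D4Defs

/-!
Fusion systems over the Sylow subgroup of `³D₄(q)`: the torus and the realizing group.
-/

set_option autoImplicit false

namespace Cfsg.Agent.H7.D4R

open Cfsg.Agent.H96.DF Subgroup

universe u

variable {F K : Type u} [Field F] [Field K] [Algebra F K] {C : Tri F K}

theorem conj_x (s : U C) {g : U C} (hg : g ∈ Y C) : (s * g * s⁻¹).x = g.x := by
  obtain ⟨h1, h2, h3⟩ := mem_Y.1 hg
  d4u; simp only [h1, h2, h3]; d4n; ring

theorem conj_a (s : U C) {g : U C} (hg : g ∈ W C) : (s * g * s⁻¹).a = g.a := by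
  obtain ⟨h1, h2, h3, h4⟩ := mem_W.1 hg
  apply Tri.inj (K := K)
  d4u; simp only [h1, h2, h3, h4]; d4n; ring

theorem conj_z (s : U C) {g : U C} (hg : g ∈ Z C) : (s * g * s⁻¹).z = g.z := by
  obtain ⟨h1, h2, h3, h4, h5⟩ := mem_Z.1 hg
  apply Tri.inj (K := K)
  d4u; simp only [h1, h2, h3, h4, h5]; d4n; ring

variable [Finite K]

theorem exists_ab (c : Kˣ × Fˣ) : ∃ n d, c = ha C n * hb d := by
  haveI : Finite F := Finite.of_injective _ (algebraMap F K).injective
  let f : Kˣ × Fˣ →* Kˣ × Fˣ := MonoidHom.mk' (fun x => ha C x.1 * hb x.2) fun x y => by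
    simp only [ha, hb, Prod.fst_mul, Prod.snd_mul, Prod.mk_mul_mk, mul_pow, map_mul, mul_inv]
    ac_rfl
  have hf : Function.Injective f := (injective_iff_map_eq_one f).2 fun ⟨n, d⟩ h => by
    have h1 : (n : K) ^ 2 * algebraMap F K (d : F)⁻¹ = 1 := by
      simpa [f, ha, hb] using congrArg (fun x => (x.1 : K)) h
    have h2 : (C.N n)⁻¹ * (d : F) ^ 2 = 1 := by
      simpa [f, ha, hb] using congrArg (fun x => (x.2 : F)) h
    have hd : algebraMap F K d ≠ 0 := by simp
    have hN : C.N n ≠ 0 := by simp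
    rw [map_inv₀, mul_inv_eq_one₀ hd] at h1
    rw [inv_mul_eq_one₀ hN] at h2
    have h3 : C.σ n = n := by
      have e : C.σ n ^ 2 = (n : K) ^ 2 := by rw [← map_pow, h1, AlgEquiv.commutes]
      rcases sq_eq_sq_iff_eq_or_eq_neg.1 e with e | e
      · exact e
      · have := C.σ3 n
        rwa [e, map_neg, e, neg_neg] at this
    have h4 := C.hN n
    rw [h2, map_pow, ← h1, h3, h3] at h4
    have h5 : (n : K) = 1 := mul_left_cancel₀ (pow_ne_zero 3 n.ne_zero) (by linear_combination h4)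
    rw [h5, one_pow, eq_comm, ← map_one (algebraMap F K)] at h1
    exact Prod.ext (Units.ext h5) (Units.ext (Tri.inj h1))
  obtain ⟨x, hx⟩ := Finite.surjective_of_injective hf c
  exact ⟨x.1, x.2, hx.symm⟩

theorem rig1 {p : ℕ} (hE : AEStmt C p) (hQ : AQStmt C p) : Rig1Stmt C p := by
  intro B L AQ AE hT bQ ti bE nQ nE
  have h1 : ∀ c : Fˣ, tor C (hb c) ∈ L := fun c => by
    obtain ⟨δ, hδ, hn, hY, hW⟩ := ((hE AE bE.toLA).2.2 nE).2 c
    obtain ⟨β, hβ, e⟩ := bE.ext δ hδ hn
    obtain ⟨s, l, hl, rfl⟩ := (hT.2 β).1 hβ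
    obtain ⟨⟨a, m⟩, φ, rfl, -⟩ := hT.1 l hl
    have e1 : ∀ x : K, (m : F) • (C.sh a * φ x) = x := fun x => by
      have := (mem_W.1 (hY (xx C x) ⟨rfl, rfl, rfl⟩)).2.2.2
      rw [e (xx C x) rfl, MulAut.mul_apply, MulAut.conj_apply, U.mul_x, conj_x s (by
        simp [mem_Y, tor_apply, fld_apply, tmap, fmap, xx])] at this
      exact Eq.symm (by simpa [tor_apply, fld_apply, tmap, fmap, xx, neg_add_eq_zero] using this)
    have e2 : C.N a * m = (c : F)⁻¹ := by
      have := congrArg U.a (hW (xa C 1) ⟨rfl, rfl, rfl, rfl⟩)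
      rw [e (xa C 1) rfl, MulAut.mul_apply, MulAut.conj_apply, conj_a s (by
        simp [mem_W, tor_apply, fld_apply, tmap, fmap, xa])] at this
      simp only [MulAut.mul_apply, tor_apply, fld_apply, tmap, fmap, xa, map_one, mul_one, hb,
        Units.coe_map, MonoidHom.coe_coe, C.N_alg, Units.val_inv_eq_inv_val,
        Units.val_pow_eq_pow_val] at this
      rw [this]; field_simp
    have e3 : C.N a * m ^ 2 = (c : F) := by
      have := congrArg U.z (hW (xz C 1) ⟨rfl, rfl, rfl, rfl⟩)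
      rw [e (xz C 1) rfl, MulAut.mul_apply, MulAut.conj_apply, conj_z s (by
        simp [mem_Z, tor_apply, fld_apply, tmap, fmap, xz])] at this
      simp only [MulAut.mul_apply, tor_apply, fld_apply, tmap, fmap, xz, map_one, mul_one, hb,
        Units.coe_map, MonoidHom.coe_coe, C.N_alg, Units.val_inv_eq_inv_val,
        Units.val_pow_eq_pow_val] at this
      rw [this]; field_simp
    have e4 := e1 1
    rw [map_one, mul_one] at e4
    have e5 : φ = 1 := RingEquiv.ext fun x => by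
      have := e1 x
      rwa [← smul_mul_assoc, e4, one_mul] at this
    have e6 : m = c ^ 2 := Units.ext (by
      rw [pow_two, ← mul_assoc, e2, inv_mul_eq_iff_eq_mul₀ c.ne_zero] at e3
      rw [e3, Units.val_pow_eq_pow_val, pow_two])
    have e7 : a = Units.map (algebraMap F K : F →* K) c⁻¹ := Units.ext (by
      rw [Units.coe_map, MonoidHom.coe_coe, Units.val_inv_eq_inv_val, ← e2, map_mul, ← C.mul_sh,
        mul_assoc, mul_comm (C.sh _), ← Algebra.smul_def, e4, mul_one])
    rwa [e5, e6, e7, map_one, mul_one] at hl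
  have h2 : ∀ n : Kˣ, tor C (ha C n) ∈ L := fun n => by
    obtain ⟨δ, hδ, hn, hA⟩ := ((hQ B L AQ hT bQ ti fun _ => by
      simpa [hb] using h1 (-1)).2.2 nQ).2 n
    obtain ⟨β, hβ, e⟩ := bQ.ext δ hδ hn
    obtain ⟨s, l, hl, rfl⟩ := (hT.2 β).1 hβ
    obtain ⟨⟨a, m⟩, φ, rfl, -⟩ := hT.1 l hl
    have e1 : m = (Nu C n)⁻¹ := Units.ext (by
      have := hA (xu C 1) rfl
      rw [e (xu C 1) rfl, MulAut.mul_apply, MulAut.conj_apply, br_conj s (by
        simp [mem_Q, tor_apply, fld_apply, tmap, fmap, xu])] at this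
      simpa [ρ_apply, rmap, torV_apply, vmap, br, tor_apply, fld_apply, tmap, fmap, xu, ha]
        using congrArg (fun v => v.2.2.2) this)
    have e2 : ∀ y : K, (a : K) * φ y = n ^ 2 * y := fun y => by
      have := hA (xy C y) rfl
      rw [e (xy C y) rfl, MulAut.mul_apply, MulAut.conj_apply, br_conj s (by
        simp [mem_Q, tor_apply, fld_apply, tmap, fmap, xy])] at this
      simpa [ρ_apply, rmap, torV_apply, vmap, br, tor_apply, fld_apply, tmap, fmap, xy, ha, e1]
        using congrArg (fun v => v.2.2.1) this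
    have e3 : a = n ^ 2 := Units.ext (by simpa using e2 1)
    have e4 : φ = 1 := RingEquiv.ext fun y => by simpa [e3] using e2 y
    rwa [e4, e3, e1, map_one, mul_one] at hl
  intro c
  obtain ⟨n, d, rfl⟩ := exists_ab (C := C) c
  rw [map_mul]
  exact mul_mem (h2 n) (h1 d)

omit [Finite K] in
theorem real {p : ℕ} [Fact p.Prime] : RealStmt C p := by
  intro X _ _ ι h ⟨a, ha⟩ Φ hΦ
  have : Finite Φ := Nat.finite_of_card_ne_zero fun e => hΦ (e ▸ dvd_zero p)
  let G := X ⋊[a.comp Φ.subtype] Φ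
  let j : U C →* G := SemidirectProduct.inl.comp ι
  have key : ∀ (x : X) (ψ : Φ) (u : U C), (SemidirectProduct.inl x * SemidirectProduct.inr ψ : G) *
      j u * (SemidirectProduct.inl x * SemidirectProduct.inr ψ)⁻¹ =
      SemidirectProduct.inl (x * ι (fld C ψ u) * x⁻¹) := fun x ψ u => by
    rw [← ha, map_mul, map_mul, map_inv]
    have := SemidirectProduct.inl_aut (φ := a.comp Φ.subtype) ψ (ι u)
    rw [map_inv] at this
    refine Eq.trans ?_ (congrArg (fun y : G => SemidirectProduct.inl x * y *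
      (SemidirectProduct.inl x)⁻¹) this.symm)
    simp only [j, MonoidHom.comp_apply, mul_inv_rev, mul_assoc]
  have key1 : ∀ (x : X) (u : U C), (SemidirectProduct.inl x : G) * j u *
      (SemidirectProduct.inl x)⁻¹ = SemidirectProduct.inl (x * ι u * x⁻¹) := fun x u => by
    simp [j]
  obtain ⟨gQ, hQ⟩ := h.ga
  obtain ⟨gE, hE⟩ := h.gb
  refine ⟨G, inferInstance, Finite.of_equiv _ SemidirectProduct.equivProd.symm, j,
    SemidirectProduct.inl_injective.comp h.inj, ?_, fun g hg => ?_, fun c φ hφ => ?_,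
    ⟨_, fun u hu => (key1 gQ u).trans (congrArg _ (hQ u hu))⟩,
    ⟨_, fun u hu => (key1 gE u).trans (congrArg _ (hE u hu))⟩⟩
  · rw [MonoidHom.range_comp, index_map_of_injective _ SemidirectProduct.inl_injective,
      SemidirectProduct.range_inl_eq_ker_rightHom, index_ker,
      MonoidHom.range_eq_top.2 SemidirectProduct.rightHom_surjective, card_top]
    exact fun e => ((Nat.Prime.dvd_mul Fact.out).1 e).elim h.idx hΦ
  · rw [← SemidirectProduct.inl_left_mul_inr_right g] at hg ⊢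
    have hn : g.left ∈ normalizer (ι.range : Set X) := by
      refine mem_normalizer_fintype ?_
      rintro _ ⟨u, rfl⟩
      obtain ⟨v, e⟩ := (mem_normalizer_iff.1 hg _).1 ⟨(fld C g.right)⁻¹ u, rfl⟩
      rw [key, MulAut.apply_inv_self] at e
      exact ⟨v, SemidirectProduct.inl_injective e⟩
    obtain ⟨s, c, φ, hφ, e⟩ := h.nor _ hn
    rw [mem_bot.1 hφ, map_one] at e
    exact ⟨s, c, g.right, g.right.2, fun u => by rw [key, e]; rfl⟩
  · obtain ⟨x, e⟩ := h.tf c 1 (one_mem _)
    rw [map_one] at e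
    exact ⟨_, fun u => (key x ⟨φ, hφ⟩ u).trans (congrArg _ (e _))⟩

end Cfsg.Agent.H7.D4R
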