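import Cfsg.Agent.H71.FSDefs

/-!
# Project FS2, piece R2: an element of odd Dickson invariant centralising `g`
-/

set_option autoImplicit false

namespace Cfsg.Agent.H7.FsR

open Cfsg Cfsg.Agent.H30 Cfsg.Agent.H71.FS2 QuadraticMap Module Polynomial

universe u

variable {F V : Type u} [Field F] [AddCommGroup V] [Module F V] {Q : QuadraticForm F V}

/-- The isometry with prescribed Wall form. -/
theorem wall [FiniteDimensional F V] (hQ : (polarBilin Q).Nondegenerate) (M : Submodule F V)
    (χ : M →ₗ[F] M →ₗ[F] F) (nd : ∀ b, (∀ a, χ a b = 0) → b = 0) (hq : ∀ a : M, χ a a = Q a) :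
    ∃ (h : O Q) (φ : V →ₗ[F] M), (∀ x, h.1 x = x - φ x) ∧
      (∀ x (a : M), χ a (φ x) = polar Q x a) ∧ movSp h = M := by
  have inj : Function.Injective χ.flip := by
    rw [← LinearMap.ker_eq_bot, LinearMap.ker_eq_bot']
    intro b hb
    exact nd b fun a => LinearMap.congr_fun hb a
  let e : M ≃ₗ[F] Dual F M :=
    LinearMap.linearEquivOfInjective χ.flip inj Subspace.dual_finrank_eq.symm
  let β : V →ₗ[F] Dual F M :=
    M.dualRestrict ∘ₗ (LinearMap.BilinForm.toDual (polarBilin Q) hQ).toLinearMap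
  have βs : Function.Surjective β :=
    Subspace.dualRestrict_surjective.comp (LinearMap.BilinForm.toDual (polarBilin Q) hQ).surjective
  let φ : V →ₗ[F] M := e.symm.toLinearMap ∘ₗ β
  have hφ : ∀ x (a : M), χ a (φ x) = polar Q x a := fun x a =>
    LinearMap.congr_fun (e.apply_symm_apply (β x)) a
  have φs : Function.Surjective φ := e.symm.surjective.comp βs
  let l : V →ₗ[F] V := LinearMap.id - M.subtype ∘ₗ φ
  have hl : ∀ x, Q (l x) = Q x := fun x => by
    show Q (x - φ x) = Q x
    rw [Q_sub, ← hφ, hq, add_sub_cancel_right]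
  have li : Function.Injective l := by
    rw [← LinearMap.ker_eq_bot, LinearMap.ker_eq_bot']
    intro x hx
    refine eq_zero_of_polar hQ fun y => ?_
    have : polar Q x y = polar Q (l x) (l y) := by simp only [polar, ← map_add, hl]
    rw [this, hx, polar_zero_left]
  refine ⟨⟨LinearEquiv.ofInjectiveEndo l li, hl⟩, φ, fun _ => rfl, hφ, ?_⟩
  ext y
  rw [mem_movSp]
  constructor
  · rintro ⟨x, rfl⟩
    show x - φ x - x ∈ M
    rw [sub_sub_cancel_left]
    exact neg_mem (φ x).2
  · intro hy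
    obtain ⟨x, hx⟩ := φs (-⟨y, hy⟩)
    refine ⟨x, ?_⟩
    show x - φ x - x = y
    rw [sub_sub_cancel_left, hx]
    simp

/-- `p ↦ p(g) v` -/
noncomputable def psi (g : O Q) (v : V) : F[X] →ₗ[F] V :=
  LinearMap.applyₗ v ∘ₗ (aeval ((g.1 : V →ₗ[F] V) : End F V)).toLinearMap

theorem psi_apply (g : O Q) (v : V) (p : F[X]) :
    psi g v p = aeval ((g.1 : V →ₗ[F] V) : End F V) p v := rfl

theorem psi_mul (g : O Q) (v : V) (p q : F[X]) : psi g v (p * q) = psi g (psi g v q) p := by
  rw [psi_apply, map_mul]; rfl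

theorem psi_pow (g : O Q) (v : V) (n : ℕ) : psi g v (X ^ n) = (g ^ n).1 v := by
  induction n with
  | zero => rw [pow_zero, psi_apply, map_one]; rfl
  | succ n ih => rw [pow_succ', psi_mul, ih, psi_apply, aeval_X, pow_succ']; rfl

theorem psi_X (g : O Q) (v : V) (p : F[X]) : psi g v (X * p) = g.1 (psi g v p) := by
  rw [psi_mul, psi_apply, aeval_X]; rfl

theorem psi_C (g : O Q) (v : V) (a : F) (p : F[X]) : psi g v (C a * p) = a • psi g v p := by
  rw [← smul_eq_C_mul, map_smul]

theorem psi_zero (g : O Q) (p : F[X]) : psi g (0 : V) p = 0 := by rw [psi_apply, map_zero]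

theorem psi_n (g : O Q) (v : V) (n : ℕ) :
    psi g v ((X + 1) ^ n) = (((g.1 : V →ₗ[F] V) + 1 : End F V) ^ n) v := by
  rw [psi_apply, map_pow, map_add, aeval_X, map_one]

theorem psi_congr {g : O Q} {v : V} {p q : F[X]} (h : psi g v p = psi g v q) (r : F[X]) :
    psi g v (r * p) = psi g v (r * q) := by rw [psi_mul, psi_mul, h]

theorem st_mon (K n : ℕ) (a : F) : expand F K (C a * X ^ n) = C a * X ^ (K * n) := by
  rw [map_mul, expand_C, map_pow, expand_X, ← pow_mul]

theorem psi_adj {g : O Q} {K : ℕ} (hK : g ^ K = g⁻¹) (u w : V) (p : F[X]) :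
    polar Q (psi g u p) w = polar Q u (psi g w (expand F K p)) := by
  induction p using Polynomial.induction_on' with
  | add p q hp hq => rw [map_add, map_add, map_add, polar_add_left, polar_add_right, hp, hq]
  | monomial n a =>
    rw [← C_mul_X_pow_eq_monomial, st_mon, psi_C, psi_C,
      psi_pow, psi_pow, polar_smul_left, polar_smul_right, pow_mul, hK, inv_pow, O_polar_inv]

theorem psi_stst {g : O Q} {K : ℕ} (hK : g ^ K = g⁻¹) (v : V) (p : F[X]) :
    psi g v (expand F K (expand F K p)) = psi g v p := by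
  induction p using Polynomial.induction_on' with
  | add p q hp hq => rw [map_add, map_add, map_add, map_add, hp, hq]
  | monomial n a =>
    rw [← C_mul_X_pow_eq_monomial, st_mon, st_mon, psi_C, psi_C, psi_pow, psi_pow, pow_mul, pow_mul,
      hK, inv_pow, hK, inv_inv]

theorem psi_mem (g : O Q) (v : V) (p : F[X]) : psi g v p ∈ DD (Subgroup.zpowers g) {v} := by
  induction p using Polynomial.induction_on' with
  | add p q hp hq => rw [map_add]; exact add_mem hp hq
  | monomial n a =>
    rw [← C_mul_X_pow_eq_monomial, psi_C, psi_pow]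
    exact Submodule.smul_mem _ _ (Submodule.subset_span
      ⟨g ^ n, Subgroup.npow_mem_zpowers g n, v, rfl, rfl⟩)

/-- Either `p` kills `v` visibly or a multiple of `p v` is the last vector. -/
theorem alt {g : O Q} {v : V} {k : ℕ} (h0 : psi g v ((X + 1) ^ (k + 1)) = 0) (p : F[X]) :
    (X + 1) ^ (k + 1) ∣ p ∨ ∃ s, psi g v (s * p) = psi g v ((X + 1) ^ k) := by
  have key : ∀ i, i ≤ k + 1 → (X + 1) ^ i ∣ p ∨ ∃ s, psi g v (s * p) = psi g v ((X + 1) ^ k) := by
    intro i
    induction i with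
    | zero => intro _; exact Or.inl (by rw [pow_zero]; exact one_dvd _)
    | succ i ih =>
      intro hi
      rcases ih (by omega) with ⟨u, rfl⟩ | h
      · obtain ⟨w, hw⟩ := X_sub_C_dvd_sub_C_eval (p := u) (a := -1)
        rw [map_neg, map_one, sub_neg_eq_add, sub_eq_iff_eq_add] at hw
        by_cases hc : u.eval (-1) = 0
        · rw [hc, map_zero, add_zero] at hw
          exact Or.inl ⟨w, by rw [hw]; ring⟩
        · obtain ⟨d, rfl⟩ := Nat.exists_eq_add_of_le (show i ≤ k by omega)
          refine Or.inr ⟨C (u.eval (-1))⁻¹ * (X + 1) ^ d, ?_⟩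
          generalize u.eval (-1) = c at hw hc
          have : C c⁻¹ * (X + 1) ^ d * ((X + 1) ^ i * u) =
              C c⁻¹ * w * (X + 1) ^ (i + d + 1) + C (c⁻¹ * c) * (X + 1) ^ (i + d) := by
            rw [hw, map_mul]; ring
          rw [this, map_add, psi_mul, h0, psi_zero, zero_add, inv_mul_cancel₀ hc, map_one, one_mul]
      · exact Or.inr h
  exact key _ le_rfl

theorem ker_iff {g : O Q} {v : V} {k : ℕ} (h0 : psi g v ((X + 1) ^ (k + 1)) = 0)
    (h1 : psi g v ((X + 1) ^ k) ≠ 0) {p : F[X]} : psi g v p = 0 ↔ (X + 1) ^ (k + 1) ∣ p := by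
  constructor
  · intro h
    refine (alt h0 p).resolve_right ?_
    rintro ⟨s, hs⟩
    rw [psi_mul, h, psi_zero] at hs
    exact h1 hs.symm
  · rintro ⟨u, rfl⟩
    rw [mul_comm, psi_mul, h0, psi_zero]

theorem st_n [CharP F 2] (K : ℕ) : ∃ u : F[X], expand F K (X + 1) = (X + 1) * u := by
  rw [map_add, expand_X, map_one, ← CharTwo.sub_eq_add, ← CharTwo.sub_eq_add]
  have := sub_dvd_pow_sub_pow (X : F[X]) 1 K
  rwa [one_pow] at this

set_option maxHeartbeats 400000 in
theorem rt : RT.{u} := by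
  intro F V _ _ _ _ _ _ Q hQ g v j a0 a1 a2
  rw [← psi_n] at a0 a1 a2
  haveI : Finite V := Module.finite_of_finite F
  haveI : Finite (V ≃ₗ[F] V) := DFunLike.finite _
  obtain ⟨K, hK⟩ : ∃ K, g ^ K = g⁻¹ := by
    obtain ⟨K, hK⟩ := Nat.exists_eq_add_one_of_ne_zero (orderOf_pos g).ne'
    exact ⟨K, eq_inv_of_mul_eq_one_left (by rw [← pow_succ, ← hK, pow_orderOf_eq_one])⟩
  have ker := fun p => ker_iff a0 a1 (p := p)
  obtain ⟨u, hu⟩ := st_n (F := F) K
  have mon : Monic ((X + 1 : F[X]) ^ (2 * j + 1)) := (monic_X_add_C 1).pow _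
  have deg : ((X + 1 : F[X]) ^ (2 * j + 1)).degree = (2 * j + 1 : ℕ) := by
    rw [degree_pow, ← C_1, degree_X_add_C]; simp
  generalize hμ : (X + 1 : F[X]) ^ (2 * j + 1) = μ at ker mon deg
  have eqv : ∀ p q, psi g v p = psi g v q ↔ μ ∣ p - q := fun p q => by
    rw [← ker, map_sub, sub_eq_zero]
  have stc : ∀ p q, psi g v p = psi g v q → psi g v (expand F K p) = psi g v (expand F K q) := by
    intro p q h
    rw [eqv] at h ⊢
    obtain ⟨w, hw⟩ := h
    rw [← map_sub, hw, map_mul, ← hμ, map_pow, hu, mul_pow, mul_assoc]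
    exact dvd_mul_right _ _
  have one : ∀ n p, psi g v (X ^ (K * n) * X ^ n * p) = psi g v p := fun n p => by
    rw [psi_mul, ← pow_add, psi_pow, pow_add, pow_mul, hK, ← (Commute.refl g).inv_left.mul_pow,
      inv_mul_cancel, one_pow, O_one_apply]
  -- the functional
  let c : ℕ → F := fun i =>
    if i = j then Q v else if j < i then polar Q v (psi g v (X ^ (i - j))) else 0
  obtain ⟨l, hl⟩ : ∃ l : F[X] →ₗ[F] F, ∀ i, l (X ^ i) = c i :=
    ⟨(basisMonomials F).constr F c, fun i => by
      rw [← monomial_one_right_eq_X_pow]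
      exact (basisMonomials F).constr_basis F c i⟩
  obtain ⟨f, hf⟩ : ∃ f : F[X] →ₗ[F] F, ∀ p, f p = l ((X ^ j * p) %ₘ μ) :=
    ⟨l ∘ₗ modByMonicHom μ ∘ₗ LinearMap.mulLeft F (X ^ j), fun p => by
      rw [LinearMap.comp_apply, LinearMap.comp_apply, modByMonicHom_apply, LinearMap.mulLeft_apply]⟩
  have fc : ∀ p q, psi g v p = psi g v q → f p = f q := by
    intro p q h
    rw [← sub_eq_zero, ← map_sub, hf,
      (modByMonic_eq_zero_iff_dvd mon).2 (((eqv p q).1 h).mul_left _), map_zero]
  have fv : ∀ p i, i ≤ 2 * j → psi g v (X ^ j * p) = psi g v (X ^ i) → f p = c i := by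
    intro p i hi h
    have h1 : (X ^ j * p) %ₘ μ = X ^ i := by
      have h2 := (modByMonic_eq_zero_iff_dvd mon).2 ((eqv _ _).1 h)
      rw [sub_modByMonic, sub_eq_zero] at h2
      rw [h2, modByMonic_eq_self_iff mon, deg, degree_X_pow]
      exact_mod_cast Nat.lt_succ_of_le hi
    rw [hf, h1, hl]
  have f1 : f 1 = Q v := by
    rw [fv 1 j (by omega) (by rw [mul_one])]
    exact if_pos rfl
  obtain ⟨D, Dd⟩ : ∃ D : F[X] →ₗ[F] F,
      ∀ a, D a = f a + f (expand F K a) - polar Q v (psi g v a) :=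
    ⟨f + f ∘ₗ (expand F K).toLinearMap - polarBilin Q v ∘ₗ psi g v, fun a => by
      rw [LinearMap.sub_apply, LinearMap.add_apply, LinearMap.comp_apply, LinearMap.comp_apply,
        polarBilin_apply_apply, AlgHom.toLinearMap_apply]⟩
  have D1 : ∀ p q, psi g v p = psi g v q → D p = D q := fun p q h => by
    rw [Dd, Dd, fc _ _ h, fc _ _ (stc _ _ h), h]
  have D2 : ∀ p, D (expand F K p) = D p := fun p => by
    rw [Dd, Dd, fc _ _ (psi_stst hK v p), ← psi_adj hK, polar_comm, add_comm]
  have D3 : ∀ k, k ≤ j → D (X ^ k) = 0 := by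
    intro k hk
    rw [Dd]
    rcases Nat.eq_zero_or_pos k with rfl | hp
    · rw [pow_zero, map_one (expand F K), ← pow_zero (X : F[X]), psi_pow, pow_zero g, O_one_apply,
        polar_self',
        CharTwo.add_self_eq_zero, CharTwo.two_eq_zero, zero_mul, sub_zero]
    · obtain ⟨d, rfl⟩ := Nat.exists_eq_add_of_le hk
      rw [fv (X ^ k) (k + d + k) (by omega) (by rw [← pow_add]),
        fv (expand F K (X ^ k)) d (by omega) (by
          rw [map_pow, expand_X, ← pow_mul, ← one k (X ^ d)]; congr 1; ring)]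
      simp only [c]
      rw [if_neg (by omega), if_pos (by omega), if_neg (by omega), if_neg (by omega),
        Nat.add_sub_cancel_left, add_zero, sub_self]
  have D4 : ∀ i, i ≤ 2 * j → D (X ^ (K * j) * X ^ i) = 0 := by
    intro i hi
    rcases le_total i j with h | h
    · obtain ⟨d, rfl⟩ := Nat.exists_eq_add_of_le h
      rw [← D3 d (by omega), ← D2 (X ^ d)]
      refine D1 _ _ ?_
      rw [map_pow, expand_X, ← pow_mul, ← one i (X ^ (K * d))]; congr 1; ring
    · obtain ⟨d, rfl⟩ := Nat.exists_eq_add_of_le h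
      rw [← D3 d (by omega)]
      refine D1 _ _ ?_
      rw [← one j (X ^ d)]; congr 1; ring
  have D5 : ∀ a, D a = 0 := by
    intro a
    have h1 : psi g v a = psi g v (X ^ (K * j) * ((X ^ j * a) %ₘ μ)) := by
      rw [← one j a, mul_assoc]
      exact psi_congr ((eqv _ _).2 (dvd_modByMonic_sub _ _)).symm _
    have h2 : ((X ^ j * a) %ₘ μ).degree < (2 * j + 1 : ℕ) := deg ▸ degree_modByMonic_lt _ mon
    rw [D1 _ _ h1]
    generalize (X ^ j * a) %ₘ μ = r at h2
    rw [r.as_sum_range' (2 * j + 1) (by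
      by_cases h0 : r = 0
      · rw [h0, natDegree_zero]; omega
      · exact (natDegree_lt_iff_degree_lt h0).2 h2), Finset.mul_sum, map_sum]
    refine Finset.sum_eq_zero fun i hi => ?_
    rw [← C_mul_X_pow_eq_monomial, mul_left_comm, ← smul_eq_C_mul, map_smul,
      D4 i (by have := Finset.mem_range.1 hi; omega), smul_zero]
  have fq : ∀ p, f (expand F K p * p) = Q (psi g v p) := by
    intro p
    induction p using Polynomial.induction_on' with
    | add p q hp hq =>
      have h1 := D5 (expand F K p * q)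
      rw [Dd, sub_eq_zero, map_mul (expand F K), psi_mul, ← psi_adj hK,
        fc (expand F K (expand F K p) * expand F K q) (expand F K q * p) (by
          rw [mul_comm]; exact psi_congr (psi_stst hK v p) _)] at h1
      rw [map_add (psi g v), Q_add, ← hp, ← hq, ← h1, ← map_add, ← map_add, ← map_add, map_add]
      congr 1
      ring
    | monomial n a =>
      rw [← C_mul_X_pow_eq_monomial, st_mon, psi_C,
        psi_pow, Q_smul, O_map, ← f1, ← smul_eq_mul (a * a), ← map_smul]
      refine fc _ _ ?_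
      rw [← one n ((a * a) • 1), smul_eq_C_mul, C_mul]
      congr 1
      ring
  -- the form on the cyclic submodule
  obtain ⟨σ, hσ⟩ := (psi g v).rangeRestrict.exists_rightInverse_of_surjective
    (LinearMap.range_rangeRestrict _)
  have σ1 : ∀ a, psi g v (σ a) = a := fun a =>
    congrArg Subtype.val (LinearMap.congr_fun hσ a)
  obtain ⟨χ, hχ⟩ : ∃ χ : LinearMap.range (psi g v) →ₗ[F] LinearMap.range (psi g v) →ₗ[F] F,
      ∀ a b, χ a b = f (expand F K (σ a) * σ b) :=
    ⟨((LinearMap.mul F F[X]).compl₁₂ ((expand F K).toLinearMap ∘ₗ σ) σ).compr₂ f, fun a b => by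
      rw [LinearMap.compr₂_apply, LinearMap.compl₁₂_apply, LinearMap.mul_apply',
        LinearMap.comp_apply, AlgHom.toLinearMap_apply]⟩
  have χd : ∀ (a b : LinearMap.range (psi g v)) p q, psi g v p = a → psi g v q = b →
      χ a b = f (expand F K p * q) := by
    intro a b p q hp hq
    rw [hχ]
    refine fc _ _ ?_
    rw [psi_congr ((σ1 b).trans hq.symm), mul_comm, mul_comm _ q]
    exact psi_congr (stc _ _ ((σ1 a).trans hp.symm)) _
  have nd : ∀ b, (∀ a, χ a b = 0) → b = 0 := by
    rintro ⟨_, q, rfl⟩ h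
    rcases alt (by rw [hμ]; exact (ker μ).2 dvd_rfl) q with h1 | ⟨s, hs⟩
    · rw [hμ] at h1
      exact Subtype.ext ((ker q).2 h1)
    · exfalso
      apply a2
      rw [← fq, ← h ⟨_, expand F K (u ^ j * s), rfl⟩, χd _ _ _ q rfl rfl]
      refine fc _ _ ?_
      rw [mul_comm _ q, psi_congr (psi_stst hK v _), mul_comm q, mul_assoc, psi_congr hs, map_pow,
        hu, mul_pow]
      congr 1
      ring
  obtain ⟨h, φ, e1, e2, e3⟩ := wall hQ _ χ nd (by
    rintro ⟨_, p, rfl⟩
    rw [χd _ _ p p rfl rfl, fq])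
  refine ⟨h, O_ext fun x => ?_, ?_, fun x hx => ?_⟩
  · obtain ⟨q, hq⟩ := (φ x).2
    have h1 : φ (g.1 x) = ⟨_, X * q, rfl⟩ := by
      rw [← sub_eq_zero]
      refine nd _ ?_
      rintro ⟨_, p, rfl⟩
      rw [map_sub, e2, χd _ _ p (X * q) rfl rfl, O_polar_inv, ← hK, ← psi_pow, ← psi_mul,
        ← e2 x ⟨_, X ^ K * p, rfl⟩, χd _ _ (X ^ K * p) q rfl hq, sub_eq_zero]
      refine fc _ _ ?_
      have h2 := psi_stst hK v X
      rw [expand_X] at h2
      rw [map_mul (expand F K), mul_comm (expand F K (X ^ K)), mul_right_comm, psi_congr h2]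
      congr 1
      ring
    rw [O_mul_apply, O_mul_apply, e1, e1, h1, map_sub, ← hq, ← psi_X]
  · have h1 : finrank F (LinearMap.range (psi g v)) = 2 * j + 1 := by
      have h2 : LinearMap.range (psi g v) =
          LinearMap.range ((psi g v).domRestrict (degreeLT F (2 * j + 1))) := by
        refine le_antisymm ?_ ?_
        · rintro _ ⟨p, rfl⟩
          exact ⟨⟨p %ₘ μ, mem_degreeLT.2 (deg ▸ degree_modByMonic_lt _ mon)⟩,
            (eqv _ _).2 (dvd_modByMonic_sub _ _)⟩
        · rintro _ ⟨p, rfl⟩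
          exact ⟨p, rfl⟩
      rw [h2, LinearMap.finrank_range_of_inj, (degreeLTEquiv F _).finrank_eq, finrank_fin_fun]
      rw [← LinearMap.ker_eq_bot, LinearMap.ker_eq_bot']
      intro p hp
      exact Subtype.ext (eq_zero_of_dvd_of_degree_lt ((ker _).1 hp) (deg ▸ mem_degreeLT.1 p.2))
    rw [dickson_apply, e3, h1, pow_succ, pow_mul]
    simp
  · have h1 : φ x = 0 := by
      refine nd _ ?_
      rintro ⟨_, p, rfl⟩
      rw [e2]
      exact mem_perp'.1 hx _ (psi_mem g v p)
    rw [e1, h1]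
    simp

end Cfsg.Agent.H7.FsR
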