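import Cfsg.Agent.H83.Syl
import Cfsg.Agent.H7.CA1

/-! Homogeneous finite groups: subgroups of index two and central automorphisms. -/

set_option autoImplicit false
set_option linter.unusedSectionVars false

namespace Cfsg.Agent.H7.HG

open Subgroup Cfsg.Agent.H7.CA

universe u
variable {G : Type u} [Group G]

/-- Every isomorphism between subgroups is induced by an automorphism. -/
def Hm (G : Type*) [Group G] : Prop :=
  ∀ (A B : Subgroup G) (e : A ≃* B), ∃ φ : G ≃* G, ∀ a : A, φ (a : G) = (e a : G)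

theorem Hm.congr {G' : Type*} [Group G'] (h : Hm G) (f : G ≃* G') : Hm G' := by
  intro A B e
  obtain ⟨φ, hφ⟩ := h _ _
    ((f.symm.subgroupMap A).symm.trans (e.trans (f.symm.subgroupMap B)))
  refine ⟨f.symm.trans (φ.trans f), fun a => ?_⟩
  have := hφ (f.symm.subgroupMap A a)
  have k : φ (f.symm a) = f.symm (e a) := this.trans (by
    rw [MulEquiv.trans_apply, MulEquiv.symm_apply_apply]; rfl)
  simp only [MulEquiv.trans_apply]
  rw [k, f.apply_symm_apply]

/-- Elements of the same order are conjugate under automorphisms. -/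
theorem Hm.elt (h : Hm G) {x y : G} (o : orderOf x = orderOf y) : ∃ φ : G ≃* G, φ x = y := by
  have g : ∀ z : G, ∀ w : zpowers z, w ∈ zpowers (⟨z, mem_zpowers z⟩ : zpowers z) := by
    rintro z ⟨_, k, rfl⟩
    exact ⟨k, rfl⟩
  have o' : orderOf (⟨x, mem_zpowers x⟩ : zpowers x) = orderOf (⟨y, mem_zpowers y⟩ : zpowers y) := by
    rw [← orderOf_coe, ← orderOf_coe]; exact o
  obtain ⟨φ, hφ⟩ := h _ _ (mulEquivOfOrderOfEq (g x) (g y) o')
  exact ⟨φ, (hφ ⟨x, mem_zpowers x⟩).trans (by rw [mulEquivOfOrderOfEq_apply_gen])⟩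

/-- `Q` has index two in `P`. -/
structure I2 (P Q : Subgroup G) : Prop where
  le : Q ≤ P
  ne : ¬ P ≤ Q
  mul : ∀ x ∈ P, ∀ y ∈ P, x ∉ Q → y ∉ Q → x * y ∈ Q

open Classical in
/-- `1` on `Q`, `c` outside. -/
noncomputable def ep (Q : Subgroup G) (c x : G) : G := if x ∈ Q then 1 else c

theorem ep_pos {Q : Subgroup G} {c x : G} (h : x ∈ Q) : ep Q c x = 1 := if_pos h
theorem ep_neg {Q : Subgroup G} {c x : G} (h : x ∉ Q) : ep Q c x = c := if_neg h

theorem ep_congr {Q Q' : Subgroup G} {c x y : G} (h : x ∈ Q ↔ y ∈ Q') : ep Q c x = ep Q' c y := by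
  by_cases k : x ∈ Q
  · rw [ep_pos k, ep_pos (h.1 k)]
  · rw [ep_neg k, ep_neg (mt h.2 k)]

theorem ep_mem {Q K : Subgroup G} {c x : G} (h : c ∈ K) : ep Q c x ∈ K := by
  by_cases k : x ∈ Q
  · rw [ep_pos k]; exact one_mem _
  · rwa [ep_neg k]

theorem ep_one {Q : Subgroup G} {x : G} : ep Q 1 x = 1 := by
  by_cases k : x ∈ Q
  · exact ep_pos k
  · exact ep_neg k

theorem ep_sq {Q : Subgroup G} {c x : G} (h : c * c = 1) : ep Q c x * ep Q c x = 1 := by
  by_cases k : x ∈ Q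
  · rw [ep_pos k, one_mul]
  · rwa [ep_neg k]

theorem ep_mul_ep {Q : Subgroup G} {c d x : G} : ep Q c x * ep Q d x = ep Q (c * d) x := by
  by_cases k : x ∈ Q
  · simp only [ep_pos k, one_mul]
  · simp only [ep_neg k]

theorem ep_map {Q : Subgroup G} {c x : G} (f : G ≃* G) : f (ep Q c x) = ep Q (f c) x := by
  by_cases k : x ∈ Q
  · simp only [ep_pos k, map_one]
  · simp only [ep_neg k]

theorem ep_conj {Q : Subgroup G} {c x : G} (t : G) :
    t * ep Q c x * t⁻¹ = ep Q (t * c * t⁻¹) x := ep_map (MulAut.conj t)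

theorem ep_comm {Q : Subgroup G} {c x y : G} (h : Commute c y) : Commute (ep Q c x) y := by
  by_cases k : x ∈ Q
  · rw [ep_pos k]; exact Commute.one_left _
  · rwa [ep_neg k]

namespace I2

variable {P Q : Subgroup G}

theorem ex (h : I2 P Q) : ∃ x ∈ P, x ∉ Q := SetLike.not_le_iff_exists.1 h.ne

theorem mul_iff (h : I2 P Q) {x y : G} (hx : x ∈ P) (hy : y ∈ P) :
    x * y ∈ Q ↔ (x ∈ Q ↔ y ∈ Q) := by
  by_cases a : x ∈ Q
  · simp only [a, true_iff, mul_mem_cancel_left a]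
  by_cases b : y ∈ Q
  · simp only [b, iff_true, mul_mem_cancel_right b]
  simp only [a, b, iff_true]
  exact h.mul x hx y hy a b

theorem sq (h : I2 P Q) {x : G} (hx : x ∈ P) : x * x ∈ Q := (h.mul_iff hx hx).2 Iff.rfl

theorem conj_iff (h : I2 P Q) {x y : G} (hx : x ∈ P) (hy : y ∈ P) : x * y * x⁻¹ ∈ Q ↔ y ∈ Q := by
  rw [h.mul_iff (mul_mem hx hy) (inv_mem hx), h.mul_iff hx hy, inv_mem_iff]
  tauto

theorem norm (h : I2 P Q) : P ≤ normalizer (Q : Set G) := fun x hx =>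
  mem_normalizer_iff.2 fun y => ⟨fun k => (h.conj_iff hx (h.le k)).2 k, fun k => by
    have : y ∈ P := by
      have := mul_mem (mul_mem (inv_mem hx) (h.le k)) hx
      simpa [mul_assoc] using this
    exact (h.conj_iff hx this).1 k⟩

theorem ep_mul (h : I2 P Q) {c x y : G} (cc : c * c = 1) (hx : x ∈ P) (hy : y ∈ P) :
    ep Q c (x * y) = ep Q c x * ep Q c y := by
  have := h.mul_iff hx hy
  by_cases a : x ∈ Q <;> by_cases b : y ∈ Q
  · rw [ep_pos a, ep_pos b, ep_pos (mul_mem a b), one_mul]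
  · rw [ep_pos a, ep_neg b, ep_neg (by tauto), one_mul]
  · rw [ep_neg a, ep_pos b, ep_neg (by tauto), mul_one]
  · rw [ep_neg a, ep_neg b, ep_pos (by tauto), cc]

/-- a normalising element acts trivially on `P / Q` -/
theorem delta (h : I2 P Q) {t y : G} (tP : t ∈ normalizer (P : Set G))
    (tQ : t ∈ normalizer (Q : Set G)) (hy : y ∈ P) : y⁻¹ * (t * y * t⁻¹) ∈ Q := by
  rw [h.mul_iff (inv_mem hy) ((mem_normalizer_iff.1 tP y).1 hy), inv_mem_iff]
  exact mem_normalizer_iff.1 tQ y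

theorem eq_of_le {Q' : Subgroup G} (h : I2 P Q) (h' : I2 P Q') (l : Q ≤ Q') : Q = Q' := by
  refine le_antisymm l fun x hx => by_contra fun k => h'.ne fun y hy => by_contra fun k' => ?_
  exact k' ((mul_mem_cancel_left hx).1 (l (h.mul x (h'.le hx) y hy k fun e => k' (l e))))

theorem ex_ne {Q' : Subgroup G} (h : I2 P Q) (h' : I2 P Q') (n : Q ≠ Q') : ∃ x ∈ Q, x ∉ Q' :=
  SetLike.not_le_iff_exists.1 fun l => n (h.eq_of_le h' l)

theorem card [Finite G] (h : I2 P Q) : Nat.card P = 2 * Nat.card Q := by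
  have : Q.relIndex P = 2 := by
    obtain ⟨a, ha, k⟩ := h.ex
    refine index_eq_two_iff.2 ⟨⟨a, ha⟩, fun b => ?_⟩
    have := h.mul_iff b.2 ha
    simp only [mem_subgroupOf, coe_mul, Xor]
    tauto
  rw [← this, relIndex, mul_comm, ← card_mul_index (Q.subgroupOf P),
    Nat.card_congr (subgroupOfEquivOfLe h.le).toEquiv]

/-- the third subgroup of index two -/
def sm {Q' : Subgroup G} (h : I2 P Q) (h' : I2 P Q') : Subgroup G where
  carrier := {x | x ∈ P ∧ (x ∈ Q ↔ x ∈ Q')}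
  mul_mem' := by
    rintro x y ⟨a, b⟩ ⟨c, d⟩
    refine ⟨mul_mem a c, ?_⟩
    rw [h.mul_iff a c, h'.mul_iff a c, b, d]
  one_mem' := ⟨one_mem _, by simp only [one_mem]⟩
  inv_mem' := by
    rintro x ⟨a, b⟩
    exact ⟨inv_mem a, by simpa only [inv_mem_iff] using b⟩

theorem mem_sm {Q' : Subgroup G} (h : I2 P Q) (h' : I2 P Q') {x : G} :
    x ∈ h.sm h' ↔ x ∈ P ∧ (x ∈ Q ↔ x ∈ Q') := Iff.rfl

theorem sm_i2 {Q' : Subgroup G} (h : I2 P Q) (h' : I2 P Q') (n : Q ≠ Q') : I2 P (h.sm h') := by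
  refine ⟨fun x hx => hx.1, fun l => ?_, fun x a y c b d => ⟨mul_mem a c, ?_⟩⟩
  · obtain ⟨x, a, b⟩ := h.ex_ne h' n
    exact b ((l (h.le a)).2.1 a)
  · rw [mem_sm] at b d
    rw [h.mul_iff a c, h'.mul_iff a c]
    tauto

theorem ep_sm {Q' : Subgroup G} (h : I2 P Q) (h' : I2 P Q') {c x : G} (cc : c * c = 1)
    (hx : x ∈ P) : ep (h.sm h') c x = ep Q c x * ep Q' c x := by
  have := h.mem_sm h' (x := x)
  by_cases a : x ∈ Q <;> by_cases b : x ∈ Q'
  · rw [ep_pos a, ep_pos b, ep_pos (by tauto), one_mul]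
  · rw [ep_pos a, ep_neg b, ep_neg (by tauto), one_mul]
  · rw [ep_neg a, ep_pos b, ep_neg (by tauto), mul_one]
  · rw [ep_neg a, ep_neg b, ep_pos (by tauto), cc]

/-- the conjugate `t Q t⁻¹` -/
theorem cj (h : I2 P Q) {t : G} (tP : t ∈ normalizer (P : Set G)) :
    I2 P (Q.comap (MulAut.conj t⁻¹).toMonoidHom) := by
  have m : ∀ x, x ∈ Q.comap (MulAut.conj t⁻¹).toMonoidHom ↔ t⁻¹ * x * t ∈ Q := fun x => by
    simp [mem_comap]
  have n := mem_normalizer_iff''.1 tP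
  refine ⟨fun x hx => (n x).2 (h.le ((m x).1 hx)), fun l => h.ne fun x hx => ?_,
    fun x a y c b d => ?_⟩
  · have := (m _).1 (l ((mem_normalizer_iff.1 tP x).1 hx))
    simpa [mul_assoc] using this
  · rw [m] at b d ⊢
    have := h.mul _ ((n x).1 a) _ ((n y).1 c) b d
    simpa [mul_assoc] using this

end I2

theorem mem_cj {Q : Subgroup G} {t x : G} :
    x ∈ Q.comap (MulAut.conj t⁻¹).toMonoidHom ↔ t⁻¹ * x * t ∈ Q := by
  simp [mem_comap]

/-- central automorphisms are induced -/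
theorem Hm.cen (h : Hm G) {P Q : Subgroup G} (i : I2 P Q) {c : G} (cQ : c ∈ Q) (cc : c * c = 1)
    (cz : ∀ x ∈ P, Commute c x) : ∃ α : G ≃* G, ∀ x ∈ P, α x = x * ep Q c x := by
  let f : P → P := fun x => ⟨x * ep Q c x, mul_mem x.2 (ep_mem (i.le cQ))⟩
  have ff : ∀ x, f (f x) = x := fun x => Subtype.ext (by
    change (x : G) * ep Q c x * ep Q c (x * ep Q c x) = x
    rw [ep_congr (mul_mem_cancel_right (ep_mem cQ)), mul_assoc, ep_sq cc, mul_one])
  let e : P ≃* P :=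
    { toFun := f, invFun := f, left_inv := ff, right_inv := ff
      map_mul' := fun x y => Subtype.ext (by
        change (x : G) * y * ep Q c (x * y) = x * ep Q c x * (y * ep Q c y)
        rw [i.ep_mul cc x.2 y.2, mul_assoc (x : G) (ep Q c x), ← mul_assoc (ep Q c x),
          (ep_comm (cz y y.2)).eq]
        simp only [mul_assoc]) }
  obtain ⟨φ, hφ⟩ := h P P e
  exact ⟨φ, fun x hx => hφ ⟨x, hx⟩⟩

/-- the commutator of an inner and a central automorphism -/
theorem Hm.real (h : Hm G) {P Q : Subgroup G} (i : I2 P Q) {c : G} (cQ : c ∈ Q) (cc : c * c = 1)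
    (cz : ∀ x ∈ P, Commute c x) {t : G} (tP : t ∈ normalizer (P : Set G)) :
    ∃ g : G, ∀ x ∈ P, g * (x * ep Q c x) * g⁻¹ = x * ep Q (t * c * t⁻¹) (t⁻¹ * x * t) := by
  obtain ⟨α, hα⟩ := h.cen i cQ cc cz
  refine ⟨t * (α t)⁻¹, fun x hx => ?_⟩
  have k := hα _ ((mem_normalizer_iff''.1 tP x).1 hx)
  rw [map_mul, map_mul, map_inv, hα x hx] at k
  rw [← ep_conj]
  calc _ = t * ((α t)⁻¹ * (x * ep Q c x) * α t) * t⁻¹ := by group
    _ = _ := by rw [k]; group

theorem Hm.real' (h : Hm G) {P Q : Subgroup G} (i : I2 P Q) {c : G} (cQ : c ∈ Q) (cc : c * c = 1)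
    (cz : ∀ x ∈ P, Commute c x) {t : G} (tP : t ∈ normalizer (P : Set G))
    (tQ : t ∈ normalizer (Q : Set G)) :
    ∃ g : G, ∀ x ∈ P, g * x * g⁻¹ = x * ep Q (c * (t * c * t⁻¹)) x := by
  obtain ⟨g, hg⟩ := h.real i cQ cc cz tP
  refine ⟨g, fun x hx => ?_⟩
  have k := hg _ (mul_mem hx (ep_mem (Q := Q) (x := x) (i.le cQ)))
  have e : x * ep Q c x ∈ Q ↔ x ∈ Q := mul_mem_cancel_right (ep_mem cQ)
  rwa [ep_congr e, mul_assoc x, ep_sq cc, mul_one,
    ep_congr ((mem_normalizer_iff''.1 tQ _).symm.trans e), mul_assoc x, ep_mul_ep] at k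

variable [Finite G]

theorem ppart (g : G) (p : ℕ) (hp : p.Prime) : ∃ m k : ℕ, m.Coprime p ∧ (g ^ m) ^ p ^ k = 1 := by
  obtain ⟨k, m, h1, h2⟩ := Nat.exists_eq_pow_mul_and_not_dvd (orderOf_pos g).ne' p hp.ne_one
  exact ⟨m, k, ((Nat.Prime.coprime_iff_not_dvd hp).2 h1).symm, by
    rw [← pow_mul, mul_comm, ← h2, pow_orderOf_eq_one]⟩

theorem mem_of_pow {K : Subgroup G} {g : G} {m n : ℕ} (c : m.Coprime n) (h : g ^ n = 1)
    (k : g ^ m ∈ K) : g ∈ K := by
  obtain ⟨j, hj⟩ := exists_pow_eq_self_of_coprime (x := g)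
    (c.coprime_dvd_right (orderOf_dvd_of_pow_eq_one h))
  exact hj ▸ pow_mem k j

/-- an element acting as a central automorphism may be taken to be a `2`-element -/
theorem two_act {P Q : Subgroup G} {c g : G} (l : Q ≤ P) (cQ : c ∈ Q) (cc : c * c = 1)
    (hg : ∀ x ∈ P, g * x * g⁻¹ = x * ep Q c x) : ∃ m k : ℕ, (g ^ m) ^ 2 ^ k = 1 ∧
      g ^ m ∈ normalizer (P : Set G) ∧ ∀ x ∈ P, g ^ m * x * (g ^ m)⁻¹ = x * ep Q c x := by
  obtain ⟨m, k, h1, h2⟩ := ppart g 2 Nat.prime_two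
  obtain ⟨j, rfl⟩ := Nat.coprime_two_right.1 h1
  have n : g ∈ normalizer (P : Set G) :=
    mem_normalizer_fintype fun x hx => hg x hx ▸ mul_mem hx (ep_mem (l cQ))
  refine ⟨_, k, h2, pow_mem n _, fun x hx => ?_⟩
  have s : ∀ y ∈ P, Commute (g ^ 2) y := fun y hy => by
    have k1 := hg _ (mul_mem hy (ep_mem (Q := Q) (x := y) (l cQ)))
    rw [ep_congr (mul_mem_cancel_right (ep_mem cQ)), mul_assoc y, ep_sq cc, mul_one,
      ← hg y hy] at k1
    rw [Commute, SemiconjBy, ← mul_inv_eq_iff_eq_mul]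
    conv_rhs => rw [← k1]
    rw [pow_two]; group
  have := ((s _ (mul_mem hx (ep_mem (Q := Q) (x := x) (l cQ)))).pow_left j).mul_inv_cancel
  rw [pow_succ, pow_mul, ← this, ← hg x hx]
  group

/-- an invariant subgroup of index two -/
theorem ex_i2 {R P N : Subgroup G} (h2 : IsPGroup 2 R) (l : P ≤ R)
    (hP : R ≤ normalizer (P : Set G)) (hN : R ≤ normalizer (N : Set G)) (l' : N ≤ P)
    (n : ¬ P ≤ N) : ∃ Q, N ≤ Q ∧ I2 P Q ∧ R ≤ normalizer (Q : Set G) := by
  obtain ⟨Q, ⟨q1, q2, q3, q4⟩, hm⟩ := Set.Finite.exists_maximal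
    (s := {Q : Subgroup G | N ≤ Q ∧ Q ≤ P ∧ ¬ P ≤ Q ∧ R ≤ normalizer (Q : Set G)})
    (Set.toFinite _) ⟨N, le_rfl, l', n, hN⟩
  have cQ : ∀ y ∈ R, ∀ x ∈ Q, y * x * y⁻¹ ∈ Q := fun y hy x => (mem_normalizer_iff.1 (q4 hy) x).1
  obtain ⟨a, a1, a2, a3, a4⟩ := exists_mod (P := R) (A := P) (B := Q) (fun x hx => by
      obtain ⟨k, hk⟩ := h2 ⟨x, hx⟩
      exact ⟨k, by rw [show x ^ 2 ^ k = 1 from congrArg Subtype.val hk]; exact one_mem _⟩)
    cQ l (fun y hy x => (mem_normalizer_iff.1 (hP hy) x).1) q3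
  have aR := l a1
  let K : Subgroup G :=
    { carrier := {x | x ∈ Q ∨ x * a⁻¹ ∈ Q}
      one_mem' := Or.inl (one_mem _)
      mul_mem' := by
        rintro x y (hx | hx) (hy | hy)
        · exact Or.inl (mul_mem hx hy)
        · exact Or.inr (by rw [mul_assoc]; exact mul_mem hx hy)
        · refine Or.inr ?_
          have := mul_mem hx (cQ a aR y hy)
          convert this using 1; group
        · refine Or.inl ?_
          have := mul_mem (mul_mem hx (cQ a aR _ hy)) a3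
          convert this using 1; group
      inv_mem' := by
        rintro x (hx | hx)
        · exact Or.inl (inv_mem hx)
        · refine Or.inr ?_
          have := mul_mem (cQ _ (inv_mem aR) _ (inv_mem hx)) (inv_mem a3)
          convert this using 1; group }
  have kP : K ≤ P := by
    rintro x (hx | hx)
    · exact q2 hx
    · simpa using mul_mem (q2 hx) a1
  have pK : P ≤ K := by_contra fun k => a2 (hm ⟨fun x hx => Or.inl (q1 hx), kP, k, fun y hy =>
    mem_normalizer_fintype (by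
      rintro x (hx | hx)
      · exact Or.inl (cQ y hy x hx)
      · refine Or.inr ?_
        have := mul_mem (cQ y hy _ hx) (a4 y hy)
        convert this using 1; group)⟩ (fun x hx => Or.inl hx) (Or.inr (by simp)))
  refine ⟨Q, q1, ⟨q2, q3, fun x hx y hy k k' => ?_⟩, q4⟩
  have := mul_mem (mul_mem ((pK hx).resolve_left k) (cQ a aR _ ((pK hy).resolve_left k'))) a3
  convert this using 1; group

/-- a proper subgroup of a `2`-group lies in a subgroup of index two -/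
theorem ex_max {P M : Subgroup G} (h2 : IsPGroup 2 P) (l : M ≤ P) (n : ¬ P ≤ M) :
    ∃ Q, M ≤ Q ∧ I2 P Q := by
  obtain ⟨K, -, k1, k2⟩ := H8.exists_normal_index_eq_of_ne_top h2 (H := M.subgroupOf P)
    fun e => n (subgroupOf_eq_top.1 e)
  have m : ∀ x : P, (x : G) ∈ K.map P.subtype ↔ x ∈ K := fun x =>
    mem_map_iff_mem P.subtype_injective
  refine ⟨K.map P.subtype, fun x hx => (m ⟨x, l hx⟩).2 (k2 hx), map_subtype_le _, fun e => ?_,
    fun x hx y hy a b => (m (⟨x, hx⟩ * ⟨y, hy⟩)).2 ((mul_mem_iff_of_index_two k1).2 ?_)⟩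
  · rw [(eq_top_iff.2 fun x _ => (m x).1 (e x.2) : K = ⊤), index_top] at k1
    exact absurd k1 (by norm_num)
  · rw [← m, ← m]; exact iff_of_false a b

end Cfsg.Agent.H7.HG
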