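import Cfsg.Agent.H7.HG1
import Cfsg.Agent.H8.Fusion

/-! Homogeneous finite groups: inner central automorphisms, and the case of central involutions. -/

set_option autoImplicit false
set_option linter.unusedSectionVars false

namespace Cfsg.Agent.H7.HG

open Subgroup Cfsg.Agent.H7.CA Cfsg.Agent.H83

universe u
variable {G : Type u} [Group G]

/-- `E` is the set of elements of order at most two of `P`, and central. -/
structure Ctx (P E : Subgroup G) : Prop where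
  le : E ≤ P
  sq : ∀ e ∈ E, e * e = 1
  cen : ∀ e ∈ E, ∀ x ∈ P, Commute e x
  mem : ∀ x ∈ P, x * x = 1 → x ∈ E

/-- `y` induces the central automorphism attached to `Q` and `c`. -/
def Wit (P Q : Subgroup G) (c y : G) : Prop := y ∈ P ∧ ∀ x ∈ P, y * x * y⁻¹ = x * ep Q c x

theorem Wit.comm {P Q Q' : Subgroup G} {c c' y y' : G} (h : Wit P Q c y) (h' : Wit P Q' c' y')
    (cc : c * c = 1) (cz : ∀ x ∈ P, Commute c x) (n : c ≠ c' ∨ Q = Q') : Commute y y' := by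
  have k := h.2 y' h'.1
  have k' := h'.2 y h.1
  by_cases a : y' ∈ Q
  · rw [ep_pos a, mul_one] at k; exact mul_inv_eq_iff_eq_mul.1 k
  by_cases b : y ∈ Q'
  · rw [ep_pos b, mul_one] at k'; exact (mul_inv_eq_iff_eq_mul.1 k').symm
  rw [ep_neg a] at k
  rw [ep_neg b] at k'
  rcases n with n | rfl
  · refine absurd ?_ n
    rw [mul_inv_eq_iff_eq_mul] at k k'
    rw [mul_assoc, (cz y h.1).eq, ← mul_assoc, k', mul_assoc, ← (cz y' h'.1).eq, mul_assoc,
      mul_right_inj, ← mul_assoc, right_eq_mul] at k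
    exact mul_right_cancel (cc.trans k.symm)
  · have := h'.2 y' h'.1
    rw [ep_neg a, mul_inv_cancel_right, left_eq_mul] at this
    rw [this, mul_one] at k'
    exact (mul_inv_eq_iff_eq_mul.1 k').symm

theorem Wit.mul {P Q : Subgroup G} {c d y y' : G} (h : Wit P Q c y) (h' : Wit P Q d y')
    (dz : ∀ x ∈ P, Commute d x) : Wit P Q (c * d) (y * y') :=
  ⟨mul_mem h.1 h'.1, fun x hx => by
    calc _ = y * (y' * x * y'⁻¹) * y⁻¹ := by group
      _ = y * x * y⁻¹ * ep Q d x := by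
        rw [h'.2 x hx, mul_assoc, mul_assoc, (ep_comm (dz _ (inv_mem h.1))).eq]; group
      _ = _ := by rw [h.2 x hx, mul_assoc, ep_mul_ep]⟩

theorem Wit.cen {P Q : Subgroup G} {c y y' : G} (h : Wit P Q c y) (h' : Wit P Q c y') {x : G}
    (hx : x ∈ P) : Commute (y⁻¹ * y') x := by
  have := (h.2 x hx).trans (h'.2 x hx).symm
  calc y⁻¹ * y' * x = y⁻¹ * (y' * x * y'⁻¹) * y' := by group
    _ = x * (y⁻¹ * y') := by rw [← this]; group

theorem wit_one {P Q : Subgroup G} : Wit P Q 1 1 :=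
  ⟨one_mem _, fun x _ => by rw [ep_one]; group⟩

variable [Finite G]

/-- Two families of inner central automorphisms are too many. -/
theorem Ctx.key {P E Q Q' E₀ : Subgroup G} {E₁ : Set G} (h : Ctx P E) (i : I2 P Q) (i' : I2 P Q')
    (n : Q ≠ Q') (l₀ : E₀ ≤ E) (l₁ : ∀ c ∈ E₁, c ∈ E) (w₀ : ∀ c ∈ E₀, ∃ y, Wit P Q c y)
    (w₁ : ∀ c ∈ E₁, ∃ y, Wit P Q' c y) (h3 : ∀ c ∈ E₀, ∃ a ∈ E₀, a ≠ 1 ∧ a ≠ c)
    (hc : Nat.card E < Nat.card E₀ * Nat.card E₁) : False := by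
  classical
  choose! y₀ hy₀ using w₀
  choose! y₁ hy₁ using w₁
  have c01 : ∀ c ∈ E₀, ∀ d ∈ E₁, Commute (y₀ c) (y₁ d) := fun c hc d hd => by
    have f : ∀ a ∈ E₀, a ≠ d → Commute (y₀ a) (y₁ d) := fun a ha n =>
      (hy₀ a ha).comm (hy₁ d hd) (h.sq a (l₀ ha)) (h.cen a (l₀ ha)) (Or.inl n)
    by_cases e : c ≠ d
    · exact f c hc e
    obtain rfl := not_not.1 e
    obtain ⟨a, ha, a1, a2⟩ := h3 c hc
    have w := (hy₀ a ha).mul (hy₀ _ (mul_mem ha hc)) (h.cen _ (l₀ (mul_mem ha hc)))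
    rw [← mul_assoc, h.sq a (l₀ ha), one_mul] at w
    have := ((f a ha a2).mul_left (f _ (mul_mem ha hc) (by simpa using a1))).mul_left
      (w.cen (hy₀ c hc) (hy₁ c hd).1)
    rwa [mul_inv_cancel_left] at this
  let Z := P ⊓ centralizer (P : Set G)
  let F : Z × E₀ × E₁ → G := fun t => t.1 * (y₀ t.2.1 * y₁ t.2.2)
  have FP : ∀ t, F t ∈ P := fun t =>
    mul_mem t.1.2.1 (mul_mem (hy₀ _ t.2.1.2).1 (hy₁ _ t.2.2.2).1)
  have Fa : ∀ t, ∀ x ∈ P, F t * x * (F t)⁻¹ = x * (ep Q t.2.1 x * ep Q' t.2.2 x) := by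
    rintro ⟨z, c, d⟩ x hx
    have m : x * (ep Q c x * ep Q' d x) ∈ P :=
      mul_mem hx (h.le (mul_mem (ep_mem (l₀ c.2)) (ep_mem (l₁ _ d.2))))
    calc _ = z * (y₀ c * (y₁ d * x * (y₁ d)⁻¹) * (y₀ c)⁻¹) * (z : G)⁻¹ := by
          simp only [F]; group
      _ = z * (y₀ c * x * (y₀ c)⁻¹ * ep Q' d x) * (z : G)⁻¹ := by
          rw [(hy₁ _ d.2).2 x hx, ← mul_assoc (y₀ c), mul_assoc (y₀ c * x),
            (ep_comm (h.cen _ (l₁ _ d.2) _ (inv_mem (hy₀ _ c.2).1))).eq, ← mul_assoc (y₀ c * x)]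
      _ = _ := by
          rw [(hy₀ _ c.2).2 x hx, mul_assoc x, (mC.1 z.2.2 _ m).symm.mul_inv_cancel]
  have Fi : Function.Injective F := by
    rintro ⟨z, c, d⟩ ⟨z', c', d'⟩ e
    obtain ⟨x, a, b⟩ := i.ex_ne i' n
    obtain ⟨x', a', b'⟩ := i'.ex_ne i n.symm
    have k := (Fa _ x (i.le a)).symm.trans (e ▸ Fa (z', c', d') x (i.le a))
    have k' := (Fa _ x' (i'.le a')).symm.trans (e ▸ Fa (z', c', d') x' (i'.le a'))
    simp only [ep_pos a, ep_neg b, ep_pos a', ep_neg b', one_mul, mul_one, mul_right_inj] at k k'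
    obtain rfl := Subtype.ext k
    obtain rfl := Subtype.ext k'
    obtain rfl : z = z' := Subtype.ext (mul_right_cancel e)
    rfl
  have Fc : ∀ s t, Commute (F s) (F t) := by
    rintro ⟨z, c, d⟩ ⟨z', c', d'⟩
    have p0 := fun a : E₀ => (hy₀ _ a.2).1
    have p1 := fun a : E₁ => (hy₁ _ a.2).1
    refine (mC.1 z.2.2 _ (FP _)).symm.mul_left ((mC.1 z'.2.2 _ (mul_mem (p0 c) (p1 d))).mul_right
      (Commute.mul_left (Commute.mul_right ?_ (c01 _ c.2 _ d'.2))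
        (Commute.mul_right (c01 _ c'.2 _ d.2).symm ?_)))
    · exact (hy₀ _ c.2).comm (hy₀ _ c'.2) (h.sq _ (l₀ c.2)) (h.cen _ (l₀ c.2)) (Or.inr rfl)
    · exact (hy₁ _ d.2).comm (hy₁ _ d'.2) (h.sq _ (l₁ _ d.2)) (h.cen _ (l₁ _ d.2)) (Or.inr rfl)
  have Fs : ∀ t, F t * F t ∈ Z := fun t => ⟨mul_mem (FP t) (FP t), fun x hx => by
    have m : ep Q t.2.1 x * ep Q' t.2.2 x ∈ E := mul_mem (ep_mem (l₀ t.2.1.2)) (ep_mem (l₁ _ t.2.2.2))
    have k := Fa t x hx
    generalize ep Q t.2.1 x * ep Q' t.2.2 x = e at m k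
    symm
    calc F t * F t * x = F t * (F t * x * (F t)⁻¹) * F t := by group
      _ = (F t * x * (F t)⁻¹) * (F t * e) * F t := by conv_lhs => rw [k]
                                                      group
      _ = x * (e * e) * F t * F t := by rw [k, ← (h.cen e m _ (FP t)).eq]; group
      _ = _ := by rw [h.sq e m]; group⟩
  have := Fintype.ofFinite Z
  have := Fintype.ofFinite E₀
  have := Fintype.ofFinite E₁
  have := Fintype.ofFinite E
  obtain ⟨z, hz⟩ := Fintype.exists_lt_card_fiber_of_mul_lt_card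
    (fun t => (⟨_, Fs t⟩ : Z)) (n := Fintype.card E) (by
      simp only [← Nat.card_eq_fintype_card, Nat.card_prod]
      exact Nat.mul_lt_mul_of_pos_left hc Nat.card_pos)
  obtain ⟨t₀, ht₀⟩ := Finset.card_pos.1 (lt_of_le_of_lt (Nat.zero_le _) hz)
  have m : ∀ t, (⟨_, Fs t⟩ : Z) = z → F t * (F t₀)⁻¹ ∈ E := fun t ht =>
    h.mem _ (mul_mem (FP t) (inv_mem (FP t₀))) (by
      have e : F t * F t = F t₀ * F t₀ :=
        congrArg Subtype.val (ht.trans (Finset.mem_filter.1 ht₀).2.symm)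
      calc _ = F t * ((F t₀)⁻¹ * F t) * (F t₀)⁻¹ := by group
        _ = F t * F t * (F t₀)⁻¹ * (F t₀)⁻¹ := by rw [← (Fc t t₀).inv_right.eq]; group
        _ = 1 := by rw [e]; group)
  refine hz.not_ge ?_
  rw [← Finset.card_attach, ← Finset.card_univ]
  exact Finset.card_le_card_of_injOn (fun t => ⟨_, m t.1 (Finset.mem_filter.1 t.2).2⟩)
    (fun _ _ => Finset.mem_coe.2 (Finset.mem_univ _))
    fun s _ t _ e => Subtype.ext (Fi (mul_right_cancel (congrArg Subtype.val e)))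

theorem wit_of {P Q X : Subgroup G} {c g : G} (s : IsSylowIn 2 P X) (l : Q ≤ P) (cQ : c ∈ Q)
    (cc : c * c = 1) (gX : g ∈ X) (hg : ∀ x ∈ P, g * x * g⁻¹ = x * ep Q c x) :
    ∃ y, Wit P Q c y := by
  obtain ⟨m, k, h1, h2, h3⟩ := two_act l cQ cc hg
  exact ⟨_, s.mem_of_norm (pow_mem gX m) h1 h2, h3⟩

theorem ex_prime {K : Subgroup G} {g : G} (hg : g ∉ K) :
    ∃ r : ℕ, r.Prime ∧ r ∣ orderOf g ∧ ∃ m k : ℕ, (g ^ m) ^ r ^ k = 1 ∧ g ^ m ∉ K := by
  induction hn : orderOf g using Nat.strong_induction_on generalizing g with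
  | _ n ih =>
  subst hn
  obtain ⟨r, hr, hd⟩ := Nat.exists_prime_and_dvd (n := orderOf g)
    fun e => hg (orderOf_eq_one_iff.1 e ▸ one_mem _)
  obtain ⟨m, k, h1, h2⟩ := ppart g r hr
  by_cases a : g ^ m ∈ K
  swap
  · exact ⟨r, hr, hd, m, k, h2, a⟩
  have b : g ^ r ^ k ∉ K := fun b => hg (by
    have e := Nat.gcd_eq_gcd_ab m (r ^ k)
    rw [(h1.pow_right k).gcd_eq_one, Nat.cast_one] at e
    rw [← zpow_one g, e, zpow_add, zpow_mul, zpow_mul, zpow_natCast, zpow_natCast]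
    exact mul_mem (zpow_mem a _) (zpow_mem b _))
  have d : orderOf (g ^ r ^ k) ∣ m := orderOf_dvd_of_pow_eq_one (by rw [← pow_mul, mul_comm, pow_mul, h2])
  have d' := orderOf_pow_dvd (x := g) (r ^ k)
  obtain ⟨r', p1, p2, m', k', p3, p4⟩ := ih _ (lt_of_le_of_ne (Nat.le_of_dvd (orderOf_pos g) d')
    fun e => hr.coprime_iff_not_dvd.1 h1.symm ((e ▸ hd :).trans d)) b rfl
  exact ⟨r', p1, p2.trans d', r ^ k * m', k', by rwa [pow_mul], by rwa [pow_mul]⟩

/-- the elements fixing all subgroups of index two above `E` -/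
def XX (P E : Subgroup G) : Subgroup G :=
  normalizer (P : Set G) ⊓ ⨅ Q ∈ {Q | I2 P Q ∧ E ≤ Q}, normalizer (Q : Set G)

theorem mXX {P E : Subgroup G} {x : G} : x ∈ XX P E ↔ x ∈ normalizer (P : Set G) ∧
    ∀ Q, I2 P Q → E ≤ Q → x ∈ normalizer (Q : Set G) := by
  simp [XX, mem_iInf]

theorem le_XX {P E : Subgroup G} : P ≤ XX P E := fun _ hx =>
  mXX.2 ⟨le_normalizer hx, fun _ i _ => i.norm hx⟩

theorem mem_XX {P E : Subgroup G} {x : G} (h : ∀ y ∈ P, ∃ e ∈ E ⊓ P, x * y * x⁻¹ = y * e) :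
    x ∈ XX P E := by
  refine mXX.2 ⟨mem_normalizer_fintype fun y hy => ?_, fun Q i l =>
    mem_normalizer_fintype fun y hy => ?_⟩
  · obtain ⟨e, a, b⟩ := h y hy
    exact b ▸ mul_mem hy a.2
  · obtain ⟨e, a, b⟩ := h y (i.le hy)
    exact b ▸ mul_mem hy (l a.1)

theorem C_le_XX {P E : Subgroup G} : centralizer (P : Set G) ≤ XX P E := fun _ hx =>
  mem_XX fun y hy => ⟨1, one_mem _, by rw [(mC.1 hx y hy).symm.mul_inv_cancel, mul_one]⟩

theorem norm_XX {P E : Subgroup G} (h : normalizer (P : Set G) ≤ normalizer (E : Set G)) :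
    normalizer (P : Set G) ≤ normalizer (XX P E : Set G) := fun n hn =>
  mem_normalizer_fintype fun x hx => by
    obtain ⟨a, b⟩ := mXX.1 hx
    refine mXX.2 ⟨mul_mem (mul_mem hn a) (inv_mem hn), fun Q i l => ?_⟩
    have := b _ (i.cj (inv_mem hn)) fun e he => mem_cj.2 (l (by
      rw [inv_inv]; exact (mem_normalizer_iff.1 (h hn) e).1 he))
    refine mem_normalizer_fintype fun y hy => ?_
    have k := mem_cj.1 ((mem_normalizer_iff.1 this (n⁻¹ * y * n)).1 (mem_cj.2 (by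
      simpa [mul_assoc] using hy)))
    simpa [mul_assoc] using k

theorem cen_of_XX {P E : Subgroup G} (h2 : IsPGroup 2 P) (l : E ≤ P) {r k : ℕ} (hr : r.Prime)
    (r2 : r ≠ 2) {g : G} (hg : g ^ r ^ k = 1) (hX : g ∈ XX P E)
    (hE : g ∈ centralizer (E : Set G)) : g ∈ centralizer (P : Set G) := by
  classical
  by_contra n
  obtain ⟨Q, q, i⟩ := ex_max h2 (M := P ⊓ centralizer {g}) inf_le_left
    fun e => n fun x hx => mc.1 (e hx).2
  obtain ⟨a, b⟩ := mXX.1 hX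
  have b := b Q i fun e he => q ⟨l he, mc.2 (mC.1 hE e he)⟩
  have := Fact.mk hr
  have := Fintype.ofFinite {x // x ∈ P ∧ x ∉ Q}
  have c : Fintype.card {x // x ∈ P ∧ x ∉ Q} = Nat.card Q := by
    obtain ⟨w, w1, w2⟩ := i.ex
    rw [← Nat.card_eq_fintype_card]
    exact Nat.card_congr
      ⟨fun x => ⟨w⁻¹ * x, i.mul _ (inv_mem w1) _ x.2.1 (mt inv_mem_iff.1 w2) x.2.2⟩,
        fun x => ⟨w * x, mul_mem w1 (i.le x.2), mt (mul_mem_cancel_right x.2).1 w2⟩,
        fun x => by simp, fun x => by simp⟩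
  obtain ⟨j, hj⟩ := (h2.to_le i.le).exists_card_eq
  obtain ⟨x, hx⟩ := Equiv.Perm.exists_fixed_point_of_prime (p := r) (n := k)
    (α := {x // x ∈ P ∧ x ∉ Q}) (by
      rw [c, hj]
      exact fun d => r2 ((Nat.prime_dvd_prime_iff_eq hr Nat.prime_two).1 (hr.dvd_of_dvd_pow d)))
    (σ := (MulAut.toPerm G (MulAut.conj g)).subtypePerm fun x =>
      and_congr (mem_normalizer_iff.1 a x).symm (mem_normalizer_iff.1 b x).symm.not) (by
      rw [Equiv.Perm.subtypePerm_pow]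
      ext x
      simp only [← map_pow, hg, map_one]
      rfl)
  exact x.2.2 (q ⟨x.2.1, mc.2 (Commute.symm (mul_inv_eq_iff_eq_mul.1 (congrArg Subtype.val hx)))⟩)

/-- `P` is a `2`-group with an automorphism of `r`-power order. -/
def Bad (r : ℕ) (P : Subgroup G) : Prop := IsPGroup 2 P ∧
  ∃ g ∈ normalizer (P : Set G), g ∉ centralizer (P : Set G) ∧ ∃ k, g ^ r ^ k = 1

theorem syl_of_max {r : ℕ} (hr : r.Prime) {P X : Subgroup G} (h2 : IsPGroup 2 P)
    (hm : ∀ Q, Bad r Q → P ≤ Q → Q ≤ P) (l : P ≤ X) (lC : centralizer (P : Set G) ≤ X)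
    {g : G} {k : ℕ} (gX : g ∈ normalizer (X : Set G)) (hg : g ^ r ^ k = 1) (n : g ∉ X) :
    IsSylowIn 2 P X := by
  obtain ⟨T, s, lT⟩ := exists_isSylowIn_ge l h2
  obtain ⟨x, hx, a, ha, e⟩ := s.frattini gX
  obtain ⟨m, j, h1, h3⟩ := ppart a r hr
  have : T ≤ P := hm T ⟨s.isPGroup, _, pow_mem ha m, fun c => n (mem_of_pow (h1.pow_right k) hg ?_),
    j, h3⟩ lT
  · rwa [le_antisymm lT this]
  have c := lC (centralizer_le (SetLike.coe_subset_coe.2 lT) c)
  have : ∀ i : ℕ, g ^ i * (a ^ i)⁻¹ ∈ X := fun i => by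
    induction i with
    | zero => simp
    | succ i ih =>
      have := mul_mem ((mem_normalizer_iff.1 gX _).1 ih) hx
      have e' : x = g * a⁻¹ := by rw [e]; group
      rw [e'] at this
      convert this using 1
      rw [pow_succ' g, pow_succ' a]; group
  simpa using mul_mem (this m) c

theorem pg_of_sq {E : Subgroup G} (sq : ∀ e ∈ E, e * e = 1) : IsPGroup 2 E := fun e =>
  ⟨1, Subtype.ext (by simpa [pow_two] using sq e e.2)⟩

theorem ex_ne2 {E : Subgroup G} (h : 2 < Nat.card E) (c : G) : ∃ a ∈ E, a ≠ 1 ∧ a ≠ c := by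
  classical
  by_contra n
  push Not at n
  have : (E : Set G) ⊆ {1, c} := fun a ha => by
    by_cases k : a = 1
    · exact Or.inl k
    · exact Or.inr (n a ha k)
  have k := (Set.ncard_le_ncard this (Set.toFinite _)).trans (Set.ncard_insert_le _ _)
  rw [Set.ncard_singleton] at k
  exact absurd (h.trans_le k) (by norm_num)

theorem Ctx.norm {P E : Subgroup G} (h : Ctx P E) :
    normalizer (P : Set G) ≤ normalizer (E : Set G) := fun x hx =>
  mem_normalizer_fintype fun e he => h.mem _ ((mem_normalizer_iff.1 hx e).1 (h.le he)) (by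
    calc _ = x * (e * e) * x⁻¹ := by group
      _ = 1 := by rw [h.sq e he]; group)

theorem Hm.wit_sm (h : Hm G) {P E Q : Subgroup G} (c : Ctx P E) (s : IsSylowIn 2 P (XX P E))
    (i : I2 P Q) (l : E ≤ Q) {t : G} (tP : t ∈ normalizer (P : Set G))
    (tE : t ∈ centralizer (E : Set G)) : ∀ e ∈ E, ∃ y, Wit P (i.sm (i.cj tP)) e y := by
  intro e he
  obtain ⟨g, hg⟩ := h.real i (l he) (c.sq e he) (c.cen e he) tP
  have k : ∀ x ∈ P, g * x * g⁻¹ = x * ep (i.sm (i.cj tP)) e x := fun x hx => by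
    have m : ep Q e x ∈ E := ep_mem he
    have k := hg _ (mul_mem hx (c.le m))
    rw [ep_congr (mul_mem_cancel_right (l m)), mul_assoc x, ep_sq (c.sq e he), mul_one,
      (mC.1 tE e he).symm.mul_inv_cancel] at k
    rw [k, i.ep_sm _ (c.sq e he) hx, mul_assoc x]
    congr 2
    refine ep_congr ?_
    rw [mem_cj, mul_assoc, mul_assoc, (mC.1 tE _ m).eq, ← mul_assoc, ← mul_assoc,
      mul_mem_cancel_right (l m)]
  refine wit_of s (fun x hx => hx.1) ⟨c.le he, iff_of_true (l he) (mem_cj.2 ?_)⟩ (c.sq e he)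
    (mem_XX fun y hy => ⟨_, ⟨ep_mem he, ep_mem (c.le he)⟩, k y hy⟩) k
  rw [mul_assoc, (mC.1 tE e he).eq, inv_mul_cancel_left]
  exact l he

/-- If `E` is centralised by its normaliser there is a normal `2`-complement. -/
theorem Hm.cenE (h : Hm G) {E : Subgroup G} (sq : ∀ e ∈ E, e * e = 1) (h4 : 2 < Nat.card E)
    (hmax : ∀ x, x * x = 1 → x ∈ centralizer (E : Set G) → x ∈ E)
    (hN : normalizer (E : Set G) ≤ centralizer (E : Set G)) : HasNormalPComplement 2 G := by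
  by_contra n
  obtain ⟨S, hS⟩ := (pg_of_sq sq).exists_le_sylow
  have ES : (S : Subgroup G) ≤ centralizer (E : Set G) := by
    refine le_trans ?_ hN
    by_contra k
    obtain ⟨x, x1, x2⟩ := SetLike.exists_of_lt (H8.lt_inf_normalizer_of_lt S.2
      (H := S ⊓ normalizer (E : Set G)) (lt_of_le_of_ne inf_le_left fun e => k (e ▸ inf_le_right)))
    have c : Ctx (S ⊓ normalizer (E : Set G)) E := ⟨le_inf hS le_normalizer, sq,
      fun e he y hy => mC.1 (hN hy.2) e he, fun y hy k => hmax y k (hN hy.2)⟩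
    exact x2 ⟨x1.1, c.norm x1.2⟩
  obtain ⟨Q₀, q1, g₀, q2, q3, q4⟩ := H8.exists_not_centralizes_of_not_hasNormalPComplement S n
  obtain ⟨r, hr, hd, m, k, r1, r2⟩ := ex_prime q4
  have r2' : r ≠ 2 := by
    rintro rfl
    exact Nat.prime_two.coprime_iff_not_dvd.1 q3.symm hd
  obtain ⟨P₀, ⟨p2, g₁, g1, g2, j, g3⟩, hm⟩ := Set.exists_max_image {P : Subgroup G | Bad r P}
    (fun P => Nat.card P) (Set.toFinite _) ⟨Q₀, S.2.to_le q1, _, pow_mem q2 m, r2, k, r1⟩
  obtain ⟨a, -, ha⟩ := (isSylowIn_of_sylow S le_top).exists_conj_le le_top p2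
  have hc : Nat.card (cj a P₀) = Nat.card P₀ := card_map_of_injective (MulAut.conj a).injective
  have b1 : a * g₁ * a⁻¹ ∈ normalizer (cj a P₀ : Set G) := cj_normalizer a P₀ ▸ conj_mem_cj g1
  have b2 : a * g₁ * a⁻¹ ∉ centralizer (cj a P₀ : Set G) := by
    rw [← cj_centralizer, H83.mem_cj]; simpa [mul_assoc] using g2
  have b3 : (a * g₁ * a⁻¹) ^ r ^ j = 1 := by rw [conj_pow, g3]; group
  generalize a * g₁ * a⁻¹ = g at b1 b2 b3
  generalize cj a P₀ = P at *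
  have h2 : IsPGroup 2 P := S.2.to_le ha
  have hm' : ∀ Q, Bad r Q → P ≤ Q → Q ≤ P := fun Q b l =>
    (eq_of_le_of_card_ge l (hc ▸ hm Q b)).ge
  have EC : E ≤ centralizer (P : Set G) := fun e he x hx => (mC.1 (ES (ha hx)) e he).symm
  have EP : E ≤ P := (syl_of_max hr h2 hm' le_XX C_le_XX (norm_XX (E := ⊥)
    (normalizer_eq_top (⊥ : Subgroup G) ▸ le_top) b1) b3 fun k => b2 (cen_of_XX h2 bot_le hr r2' b3 k
      fun x hx => by rw [mem_bot.1 hx]; simp)).le_of_norm' (EC.trans C_le_XX)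
    (pg_of_sq sq) (EC.trans (centralizer_le_normalizer _))
  have c : Ctx P E := ⟨EP, sq, fun e he x hx => mC.1 (ES (ha hx)) e he,
    fun x hx k => hmax x k (ES (ha hx))⟩
  have gE := hN (c.norm b1)
  have gX : g ∉ XX P E := fun k => b2 (cen_of_XX h2 EP hr r2' b3 k gE)
  have s := syl_of_max hr h2 hm' le_XX C_le_XX (norm_XX c.norm b1) b3 gX
  obtain ⟨Q, i, l, gQ⟩ : ∃ Q, I2 P Q ∧ E ≤ Q ∧ g ∉ normalizer (Q : Set G) := by
    by_contra k
    push Not at k
    exact gX (mXX.2 ⟨b1, k⟩)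
  have gQ2 : g * g ∉ normalizer (Q : Set G) := fun k => gQ (mem_of_pow (m := 2)
    (((Nat.coprime_primes Nat.prime_two hr).2 r2'.symm).pow_right j) b3 (by rwa [pow_two]))
  have ne : ∀ t, t ∉ normalizer (Q : Set G) → Q ≠ Q.comap (MulAut.conj t⁻¹).toMonoidHom :=
    fun t ht e => ht (mem_normalizer_iff''.2 fun x => by rw [← mem_cj, ← e])
  refine c.key (i.sm_i2 (i.cj b1) (ne _ gQ)) (i.sm_i2 (i.cj (mul_mem b1 b1)) (ne _ gQ2))
    (fun e => gQ (mem_normalizer_fintype fun x hx => ?_)) le_rfl (E₁ := E) (fun _ k => k)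
    (h.wit_sm c s i l b1 gE) (h.wit_sm c s i l (mul_mem b1 b1) (mul_mem gE gE))
    (fun c _ => ex_ne2 h4 c) (lt_mul_of_one_lt_right Nat.card_pos (by
      exact lt_trans (by norm_num) h4))
  have m := (mem_normalizer_iff.1 (mul_mem b1 b1) x).1 (i.le hx)
  have k := SetLike.ext_iff.1 e (g * g * x * (g * g)⁻¹)
  rw [I2.mem_sm, I2.mem_sm, mem_cj, mem_cj,
    show g⁻¹ * (g * g * x * (g * g)⁻¹) * g = g * x * g⁻¹ by group,
    show (g * g)⁻¹ * (g * g * x * (g * g)⁻¹) * (g * g) = x by group] at k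
  have hx' : x ∈ Q := hx
  change g * x * g⁻¹ ∈ Q
  tauto

end Cfsg.Agent.H7.HG
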