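import Cfsg.Agent.H7.HG1
import Cfsg.Agent.H31.SU3

/-! Homogeneous finite groups: the three-dimensional linear and unitary groups. -/

set_option autoImplicit false
set_option linter.unusedSectionVars false

namespace Cfsg.Agent.H7.HG

open Subgroup Cfsg.Agent.H7.CA Matrix Cfsg.Agent.H31

universe u
variable {G : Type u} [Group G]

theorem Hm.ext_inj (h : Hm G) {A : Type*} [Group A] {u v : A →* G} (hu : Function.Injective u)
    (hv : Function.Injective v) : ∃ α : G ≃* G, ∀ a, α (u a) = v a := by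
  obtain ⟨α, hα⟩ := h _ _ ((MonoidHom.ofInjective hu).symm.trans (MonoidHom.ofInjective hv))
  refine ⟨α, fun a => (hα (MonoidHom.ofInjective hu a)).trans ?_⟩
  rw [MulEquiv.trans_apply, MulEquiv.symm_apply_apply]; rfl

theorem Hm.cab (h : Hm G) {x y : G} (o : orderOf y = orderOf x)
    (hx : ∀ a b, Commute a x → Commute b x → Commute a b) {a b : G} (ha : Commute a y)
    (hb : Commute b y) : Commute a b := by
  obtain ⟨φ, rfl⟩ := h.elt o
  exact Commute.of_map φ.injective (hx _ _ (ha.map φ) (hb.map φ))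

theorem no_two (h : Hm (G ⧸ center G)) {p : ℕ} (hp : p.Prime)
    (hz : ∀ c ∈ center G, c ^ p = 1 → c = 1) {r z a b : G} (r1 : r ^ p = 1) (r2 : r ≠ 1)
    (z1 : z ^ p = 1) (z2 : z ≠ 1) (hr : ∀ a b, Commute a r → Commute b r → Commute a b)
    (ha : Commute a z) (hb : Commute b z) (k : (a * b * a⁻¹ * b⁻¹) ^ p = 1) : Commute a b := by
  have := Fact.mk hp
  have o : ∀ x : G, x ^ p = 1 → x ≠ 1 → orderOf (pz G x) = p := fun x x1 x2 =>
    orderOf_eq_prime (by rw [← map_pow, x1, map_one]) fun e => x2 (hz x (pz_one.1 e) x1)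
  have l : ∀ a, Commute (pz G a) (pz G r) → Commute a r := fun a e => by
    have m := pz_comm.1 e
    refine comm_iff.2 (hz _ m ?_)
    have := (mZ.1 m r).symm.mul_pow p
    rwa [inv_mul_cancel_right, conj_pow, r1, mul_one, mul_one, mul_inv_cancel, eq_comm] at this
  refine comm_iff.2 (hz _ (pz_comm.1 (h.cab ((o z z1 z2).trans (o r r1 r2).symm) (fun a b u v => ?_)
    (ha.map _) (hb.map _))) k)
  obtain ⟨a, rfl⟩ := pz_surj a
  obtain ⟨b, rfl⟩ := pz_surj b
  exact (hr a b (l a u) (l b v)).map _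

variable {F : Type*} [Field F]

theorem reg_comm {α β γ : F} (hα : α ≠ 0) (hγ : γ ≠ 0) {M N : Matrix (Fin 3) (Fin 3) F}
    (hM : Commute M !![1, α, β; 0, 1, γ; 0, 0, 1]) (hN : Commute N !![1, α, β; 0, 1, γ; 0, 0, 1]) :
    Commute M N := by
  have k : ∀ M : Matrix (Fin 3) (Fin 3) F, Commute M !![1, α, β; 0, 1, γ; 0, 0, 1] →
      M 2 0 = 0 ∧ M 1 0 = 0 ∧ M 2 1 = 0 ∧ M 1 1 = M 0 0 ∧ M 2 2 = M 0 0 ∧
        M 1 2 = γ / α * M 0 1 := fun M h => by
    have e := fun i j => congrFun (congrFun h.eq i) j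
    have e1 := e 1 0
    have e2 := e 0 0
    have e3 := e 2 2
    have e4 := e 0 1
    have e5 := e 1 2
    have e6 := e 0 2
    simp [Matrix.mul_apply, Fin.sum_univ_three] at e1 e2 e3 e4 e5 e6
    have f1 : M 2 0 = 0 := e1.resolve_left hγ
    have f2 : M 1 0 = 0 := mul_left_cancel₀ hα (by linear_combination -e2 - β * f1)
    have f3 : M 2 1 = 0 := mul_left_cancel₀ hγ (by linear_combination e3 - β * f1)
    have f4 : M 1 1 = M 0 0 := mul_left_cancel₀ hα (by linear_combination -e4 - β * f3)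
    have f5 : M 2 2 = M 0 0 := mul_left_cancel₀ hγ (by linear_combination -e5 + β * f2 + γ * f4)
    refine ⟨f1, f2, f3, f4, f5, ?_⟩
    field_simp
    linear_combination -e6 - β * f5
  obtain ⟨a1, a2, a3, a4, a5, a6⟩ := k M hM
  obtain ⟨b1, b2, b3, b4, b5, b6⟩ := k N hN
  ext i j
  fin_cases i <;> fin_cases j <;>
    simp [Matrix.mul_apply, Fin.sum_univ_three, a1, a2, a3, a4, a5, a6, b1, b2, b3, b4, b5, b6] <;>
    ring

theorem one_of_pow {p : ℕ} [Fact p.Prime] [CharP F p] {a : F} (h : a ^ p = 1) : a = 1 :=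
  frobenius_inj F p (by rw [frobenius_def, h, map_one])

theorem char_odd [Fintype F] (h : Odd (Fintype.card F)) : (2 : F) ≠ 0 := fun e =>
  (Nat.not_even_iff_odd.2 h) ((FiniteField.even_card_iff_char_two.1
    ((ringChar.spec F 2).1 (by exact_mod_cast e) |> fun d => (Nat.prime_two.eq_one_or_self_of_dvd _ d
      ).resolve_left CharP.ringChar_ne_one)) |> Nat.even_iff.2)

/-- upper unitriangular matrices -/
def ut (a b c : F) : Matrix.SpecialLinearGroup (Fin 3) F :=
  ⟨!![1, a, b; 0, 1, c; 0, 0, 1], by simp [det_fin_three]⟩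

theorem ut_mul (a b c a' b' c' : F) :
    ut a b c * ut a' b' c' = ut (a + a') (b + b' + a * c') (c + c') := Subtype.ext (by
  change !![1, a, b; 0, 1, c; 0, 0, 1] * !![1, a', b'; 0, 1, c'; 0, 0, 1] =
    !![1, a + a', b + b' + a * c'; 0, 1, c + c'; 0, 0, 1]
  ext i j
  fin_cases i <;> fin_cases j <;> simp [Matrix.mul_apply, Fin.sum_univ_three] <;> ring)

theorem ut_zero : ut (0 : F) 0 0 = 1 := Subtype.ext one_fin_three.symm

theorem ut_inj {a b c a' b' c' : F} (h : ut a b c = ut a' b' c') : a = a' ∧ b = b' := by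
  have e := fun i j => congrFun (congrFun (congrArg Subtype.val h) i) j
  exact ⟨e 0 1, e 0 2⟩

theorem noL3 [Fintype F] (ho : Odd (Fintype.card F)) :
    ¬ Hm (ProjectiveSpecialLinearGroup (Fin 3) F) := fun h => by
  obtain ⟨p, hc⟩ := CharP.exists F
  have hp := CharP.char_is_prime F p
  have := Fact.mk hp
  have h2 := char_odd ho
  have r1 : ∀ n : ℕ, ut (1 : F) (1 / 2) 1 ^ n = ut (n : F) (n ^ 2 / 2) n := fun n => by
    induction n with
    | zero => simp [ut_zero]
    | succ n ih => rw [pow_succ, ih, ut_mul]; congr 1 <;> push_cast <;> field_simp; ring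
  have z1 : ∀ n : ℕ, ut (0 : F) 1 0 ^ n = ut (0 : F) n 0 := fun n => by
    induction n with
    | zero => simp [ut_zero]
    | succ n ih => rw [pow_succ, ih, ut_mul]; congr 1 <;> push_cast <;> ring
  have zp : ut (0 : F) 1 0 ^ p = 1 := by rw [z1, CharP.cast_eq_zero, ut_zero]
  have e : ut (1 : F) 0 0 * ut 0 0 1 = ut 0 1 0 * ut 0 0 1 * ut 1 0 0 := by simp [ut_mul]
  have := no_two h hp (r := ut 1 (1 / 2) 1) (z := ut 0 1 0) (a := ut 1 0 0) (b := ut 0 0 1)
    (fun c m k => by
      obtain ⟨a, -, ha⟩ := Matrix.SpecialLinearGroup.mem_center_iff.1 m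
      have := congrArg Subtype.val k
      rw [Matrix.SpecialLinearGroup.coe_pow, ← ha, ← map_pow, Matrix.SpecialLinearGroup.coe_one,
        ← map_one (scalar (Fin 3)), scalar_inj] at this
      exact Subtype.ext (by rw [← ha, one_of_pow this, map_one]; rfl))
    (by rw [r1, CharP.cast_eq_zero]; simp [ut_zero])
    (fun k => one_ne_zero (ut_inj (k.trans ut_zero.symm)).1) zp
    (fun k => one_ne_zero (ut_inj (k.trans ut_zero.symm)).2)
    (fun a b u v => Subtype.ext (reg_comm one_ne_zero one_ne_zero (congrArg Subtype.val u)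
      (congrArg Subtype.val v)))
    (by simp [Commute, SemiconjBy, ut_mul]) (by simp [Commute, SemiconjBy, ut_mul])
    (by rw [e, mul_inv_cancel_right, mul_inv_cancel_right, zp])
  simpa using (ut_inj ((ut_mul ..).symm.trans (this.eq.trans (ut_mul ..)))).2

theorem noU3 [Fintype F] {q : ℕ} (hF : Fintype.card F = q ^ 2) (ho : Odd q) :
    ¬ Hm (PSU 3 F q) := fun h => by
  obtain ⟨p, hc⟩ := CharP.exists F
  have hp := CharP.char_is_prime F p
  have := Fact.mk hp
  have h2 : (2 : F) ≠ 0 := char_odd (hF ▸ ho.pow)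
  obtain ⟨e⟩ := nonempty_psu3_equiv hF
  replace h := h.congr e.symm
  have i := isInvol_frobQ hF
  generalize frobQ hF = σ at h i
  obtain ⟨θ, t0, t1⟩ := i.exists_skew
  let r : ℕ → Heis i := fun n => ⟨n, -(n ^ 2 / 2), by simp [map_ofNat]; field_simp; ring⟩
  let z : F → ℕ → Heis i := fun a n => ⟨0, n * (a - σ a), by simp [i.invol]; ring⟩
  let b : Heis i := ⟨θ, θ ^ 2 / 2, by simp [t1, map_ofNat]; field_simp; ring⟩
  have r1 : ∀ n, r 1 ^ n = r n := fun n => by
    induction n with
    | zero => exact Heis.ext (by simp [r, Heis.one_x]) (by simp [r, Heis.one_y])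
    | succ n ih =>
      rw [pow_succ, ih]
      exact Heis.ext (by simp [r, Heis.mul_x]) (by simp [r, Heis.mul_y]; field_simp; ring)
  have z1 : ∀ a n, z a 1 ^ n = z a n := fun a n => by
    induction n with
    | zero => exact Heis.ext (by simp [z, Heis.one_x]) (by simp [z, Heis.one_y])
    | succ n ih =>
      rw [pow_succ, ih]
      exact Heis.ext (by simp [z, Heis.mul_x]) (by simp [z, Heis.mul_y]; ring)
  have zp : z θ 1 ^ p = 1 := by
    rw [z1]; exact Heis.ext rfl (by simp [z, Heis.one_y])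
  have inj : Function.Injective (Heis.toSisom i) :=
    Function.Injective.of_comp (f := QuotientGroup.mk' _) Heis.toPsu_injective
  have cz : ∀ x, Commute x (z θ 1) := fun x => mZ.1 (Heis.mem_center_iff.2 rfl) x
  have eq : b * r 1 = z θ 1 * r 1 * b :=
    Heis.ext (by simp [z, r, b, Heis.mul_x]; ring) (by simp [z, r, b, Heis.mul_x, Heis.mul_y, t1]; ring)
  let ρ : sisom (hyp3 σ) → Matrix (Fin 3) (Fin 3) F := fun g => LinearMap.toMatrix' g.1.toLinearMap
  have ρm : ∀ a b, ρ (a * b) = ρ a * ρ b := fun a b => LinearMap.toMatrix'_mul _ _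
  have ρi : Function.Injective ρ := fun a b e =>
    Subtype.ext (LinearEquiv.toLinearMap_injective (LinearMap.toMatrix'.injective e))
  have ρr : ρ (Heis.toSisom i (r 1)) = !![1, -σ (r 1).x, (r 1).y; 0, 1, (r 1).x; 0, 0, 1] :=
    LinearMap.toMatrix'_toLin' _
  have := no_two h hp (r := Heis.toSisom i (r 1)) (z := Heis.toSisom i (z θ 1))
    (a := Heis.toSisom i b) (b := Heis.toSisom i (r 1))
    (fun c m k => by
      obtain ⟨a, ha⟩ := ((isHerm_hyp3 i).mem_center_sisom_iff (by simp)).1 m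
      have : ∀ n : ℕ, ∀ x, (c ^ n).1 x = a ^ n • x := fun n x => by
        induction n with
        | zero => simp
        | succ n ih => rw [pow_succ', coe_mul, LinearEquiv.mul_apply, ha, ih, smul_smul, pow_succ']
      have k2 := congrFun (this p 1) 0
      rw [k] at k2
      have : a = 1 := one_of_pow (p := p) (by simpa using k2.symm)
      exact Subtype.ext (LinearEquiv.ext fun x => by rw [ha, this, one_smul]; rfl))
    (by rw [← map_pow, r1, map_eq_one_iff _ inj]
        exact Heis.ext (by simp [r, Heis.one_x]) (by simp [r, Heis.one_y]))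
    (fun k => by simpa [r, Heis.one_x] using congrArg Heis.x ((map_eq_one_iff _ inj).1 k))
    (by rw [← map_pow, zp, map_one])
    (fun k => by
      have := congrArg Heis.y ((map_eq_one_iff _ inj).1 k)
      simp only [z, Heis.one_y, t1, Nat.cast_one, one_mul, sub_neg_eq_add, ← two_mul] at this
      exact mul_ne_zero h2 t0 this)
    (fun a b u v => ρi (by
      rw [ρm, ρm]
      refine reg_comm (α := -σ (r 1).x) (β := (r 1).y) (γ := (r 1).x) (by simp [r]) (by simp [r])
        ?_ ?_ <;> rw [← ρr, Commute, SemiconjBy, ← ρm, ← ρm]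
      exacts [congrArg ρ u, congrArg ρ v]))
    ((cz _).map _) ((cz _).map _)
    (by rw [← map_mul, eq, map_mul, map_mul, mul_inv_cancel_right, mul_inv_cancel_right,
      ← map_pow, zp, map_one])
  have := congrArg Heis.y (Commute.of_map inj this).eq
  simp only [b, r, Heis.mul_y, t1, Nat.cast_one, map_one] at this
  exact mul_ne_zero h2 t0 (by linear_combination this)

/-- diagonal elements of `SU₃(4)` -/
def dg (a : F) (ha : a ^ 5 = 1) (i j k : ℕ) (h : 5 ∣ i + j + k) : SU 3 F 4 :=
  ⟨⟨!![a ^ i, 0, 0; 0, a ^ j, 0; 0, 0, a ^ k], by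
    obtain ⟨m, hm⟩ := h
    simp [det_fin_three, ← pow_add, hm, pow_mul, ha]⟩, fun u v => by
    have : ∀ i : ℕ, a ^ i * (a ^ i) ^ 4 = 1 := fun i => by
      rw [← pow_succ', ← pow_mul, mul_comm, pow_mul, ha, one_pow]
    change hermForm 3 F 4 (!![a ^ i, 0, 0; 0, a ^ j, 0; 0, 0, a ^ k] *ᵥ u)
      (!![a ^ i, 0, 0; 0, a ^ j, 0; 0, 0, a ^ k] *ᵥ v) = _
    simp [hermForm, mulVec, dotProduct, Fin.sum_univ_three, mul_pow]
    linear_combination u 0 * v 0 ^ 4 * this i + u 1 * v 1 ^ 4 * this j + u 2 * v 2 ^ 4 * this k⟩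

/-- the matrix -/
def mx (x : SU 3 F 4) : Matrix (Fin 3) (Fin 3) F := x.1.1

theorem mx_mul (x y : SU 3 F 4) : mx (x * y) = mx x * mx y := rfl
theorem mx_one : mx (1 : SU 3 F 4) = 1 := rfl
theorem mx_dg (a : F) (ha : a ^ 5 = 1) (i j k : ℕ) (h : 5 ∣ i + j + k) :
    mx (dg a ha i j k h) = !![a ^ i, 0, 0; 0, a ^ j, 0; 0, 0, a ^ k] := rfl

theorem noU34 [Fintype F] (hF : Fintype.card F = 16) : ¬ Hm (PSU 3 F 4) := fun h => by
  have h2 : (2 : F) = 0 := by
    have := FiniteField.cast_card_eq_zero F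
    rw [hF] at this
    exact pow_eq_zero_iff (n := 4) (by norm_num) |>.1 (by rw [← this]; norm_num)
  obtain ⟨u, hu⟩ := exists_prime_orderOf_dvd_card' (G := Fˣ) 5 (hp := ⟨by norm_num⟩) (by
    rw [Nat.card_units, Nat.card_eq_fintype_card, hF]; norm_num)
  have o : orderOf (u : F) = 5 := by rw [orderOf_units, hu]
  generalize (u : F) = a at o
  have ha : a ^ 5 = 1 := o ▸ pow_orderOf_eq_one a
  have n : ∀ i < 5, ∀ j < 5, a ^ i = a ^ j → i = j := fun i hi j hj e =>
    pow_injOn_Iio_orderOf (by rwa [o]) (by rwa [o]) e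
  obtain ⟨w, hw⟩ : ∃ w : SU 3 F 4, mx w = !![0, 1, 0; 1, 0, 0; 0, 0, 1] :=
    ⟨⟨⟨!![0, 1, 0; 1, 0, 0; 0, 0, 1], by simp [det_fin_three]; linear_combination -h2⟩,
      fun u v => by
        change hermForm 3 F 4 (!![0, 1, 0; 1, 0, 0; 0, 0, 1] *ᵥ u)
          (!![0, 1, 0; 1, 0, 0; 0, 0, 1] *ᵥ v) = _
        simp [hermForm, mulVec, dotProduct, Fin.sum_univ_three]; ring⟩, rfl⟩
  have ext : ∀ {x y : SU 3 F 4}, (∀ i j, mx x i j = mx y i j) → x = y := fun k =>
    Subtype.ext (Subtype.ext (Matrix.ext k))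
  have ent : ∀ {x y : SU 3 F 4}, x = y → ∀ i j, mx x i j = mx y i j := fun k _ _ => by rw [k]
  have p5 : ∀ i j k h, dg a ha i j k h ^ 5 = 1 := fun i j k h => by
    have : ∀ i : ℕ, a ^ i * a ^ i * a ^ i * a ^ i * a ^ i = 1 := fun i => by
      rw [← one_pow i, ← ha]; ring
    refine ext fun x y => ?_
    rw [pow_succ, pow_succ, pow_succ, pow_two]
    simp only [mx_mul, mx_dg, mx_one]
    fin_cases x <;> fin_cases y <;> simp [this]
  have e : w * dg a ha 1 4 0 (by norm_num) =
      dg a ha 3 2 0 (by norm_num) * dg a ha 1 4 0 (by norm_num) * w := ext fun x y => by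
    simp only [mx_mul, mx_dg, hw]
    fin_cases x <;> fin_cases y <;> simp
    · ring
    · linear_combination -a * ha
  have := no_two h (p := 5) (by norm_num) (r := dg a ha 0 1 4 (by norm_num))
    (z := dg a ha 1 1 3 (by norm_num)) (a := w) (b := dg a ha 1 4 0 (by norm_num))
    (fun c m _ => by
      rwa [card_eq_one.1 ((card_center_SU (q := 4) (by rw [hF]; norm_num) (by norm_num)).trans
        (by norm_num)), mem_bot] at m) (p5 ..)
    (fun k => by
      simpa using n 1 (by norm_num) 0 (by norm_num) (by simpa [mx_dg, mx_one] using ent k 1 1))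
    (p5 ..)
    (fun k => by
      simpa using n 1 (by norm_num) 0 (by norm_num) (by simpa [mx_dg, mx_one] using ent k 1 1))
    (fun x y u v => by
      have d : ∀ x : SU 3 F 4, Commute x (dg a ha 0 1 4 (by norm_num)) → ∀ i j, i ≠ j →
          mx x i j = 0 := fun x u i j ij => by
        have := ent u.eq i j
        have n1 := sub_ne_zero.2 (mt (n 1 (by norm_num) 0 (by norm_num)) (by norm_num))
        have n2 := sub_ne_zero.2 (mt (n 4 (by norm_num) 0 (by norm_num)) (by norm_num))
        have n3 := sub_ne_zero.2 (mt (n 4 (by norm_num) 1 (by norm_num)) (by norm_num))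
        simp only [mx_mul, mx_dg, Matrix.mul_apply, Fin.sum_univ_three] at this
        fin_cases i <;> fin_cases j <;> simp at this ij ⊢
        · exact mul_left_cancel₀ n1 (by linear_combination this)
        · exact mul_left_cancel₀ n2 (by linear_combination this)
        · exact mul_left_cancel₀ n1 (by linear_combination -this)
        · exact mul_left_cancel₀ n3 (by linear_combination this)
        · exact mul_left_cancel₀ n2 (by linear_combination -this)
        · exact mul_left_cancel₀ n3 (by linear_combination -this)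
      have dx := d x u
      have dy := d y v
      refine ext fun i j => ?_
      simp only [mx_mul]
      fin_cases i <;> fin_cases j <;>
        simp [Matrix.mul_apply, Fin.sum_univ_three, dx, dy, mul_comm])
    (ext fun x y => by
      simp only [mx_mul, mx_dg, hw]
      fin_cases x <;> fin_cases y <;> simp)
    (ext fun x y => by
      simp only [mx_mul, mx_dg]
      fin_cases x <;> fin_cases y <;> simp [mul_comm])
    (by rw [e, mul_inv_cancel_right, mul_inv_cancel_right, p5])
  simpa using n 4 (by norm_num) 1 (by norm_num) (by simpa [mx_mul, mx_dg, hw] using ent this.eq 0 1)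

end Cfsg.Agent.H7.HG
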