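import Cfsg.Agent.H44.K5Defs

/-! Project K5, piece HERM: the Hermite bound. -/

set_option autoImplicit false

namespace Cfsg.Agent.H7.K5Herm

open Matrix Cfsg.Agent.H44.K5

theorem e00 {n : ℕ} (A U : Matrix (Fin (n + 1)) (Fin (n + 1)) ℤ) :
    (Uᵀ * A * U) 0 0 = (fun i => U i 0) ⬝ᵥ A *ᵥ (fun i => U i 0) := by
  rw [Matrix.mul_assoc]
  rfl

theorem quad {n : ℕ} (A : Matrix (Fin (n + 1)) (Fin (n + 1)) ℤ) (hA : Aᵀ = A) (k : ℤ) (v : Fin n → ℤ) :
    A 0 0 * ((Fin.cons k v : Fin (n + 1) → ℤ) ⬝ᵥ A *ᵥ (Fin.cons k v : Fin (n + 1) → ℤ)) =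
      (A 0 0 * k + ∑ j, A 0 j.succ * v j) ^ 2 +
      v ⬝ᵥ (Matrix.of fun i j : Fin n => A 0 0 * A i.succ j.succ - A 0 i.succ * A 0 j.succ) *ᵥ v := by
  have hs : ∀ i : Fin n, A i.succ 0 = A 0 i.succ := fun i => (congrFun (congrFun hA 0) i.succ)
  have h1 : v ⬝ᵥ (Matrix.of fun i j : Fin n => A 0 0 * A i.succ j.succ - A 0 i.succ * A 0 j.succ) *ᵥ v =
      A 0 0 * (∑ i, v i * ∑ j, A i.succ j.succ * v j) - (∑ j, A 0 j.succ * v j) ^ 2 := by
    rw [sq, Finset.sum_mul_sum, Finset.mul_sum, ← Finset.sum_sub_distrib]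
    simp only [dotProduct, mulVec, of_apply]
    refine Finset.sum_congr rfl fun i _ => ?_
    rw [Finset.mul_sum, Finset.mul_sum, Finset.mul_sum, ← Finset.sum_sub_distrib]
    exact Finset.sum_congr rfl fun j _ => by ring
  have h2 : ∑ i, v i * (A 0 i.succ * k) = k * ∑ j, A 0 j.succ * v j := by
    rw [Finset.mul_sum]
    exact Finset.sum_congr rfl fun i _ => by ring
  rw [h1]
  simp only [dotProduct, mulVec, Fin.sum_univ_succ, Fin.cons_zero, Fin.cons_succ, hs, mul_add,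
    Finset.sum_add_distrib, h2]
  ring

theorem herm : HermStmt := by
  intro n
  induction n with
  | zero =>
    intro A _ _
    exact ⟨1, by simp, by simp⟩
  | succ n ih =>
    intro A0 hA0 hp0
    have pos : ∀ U : Matrix (Fin (n + 2)) (Fin (n + 2)) ℤ, IsUnit U.det → ∀ x, x ≠ 0 →
        0 < x ⬝ᵥ (Uᵀ * A0 * U) *ᵥ x := by
      intro U hU x hx
      rw [← mulVec_mulVec, ← mulVec_mulVec, dotProduct_mulVec, vecMul_transpose]
      exact hp0 _ fun h => hx (Matrix.eq_zero_of_mulVec_eq_zero hU.ne_zero h)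
    have pos0 : ∀ U : Matrix (Fin (n + 2)) (Fin (n + 2)) ℤ, IsUnit U.det → 0 < (Uᵀ * A0 * U) 0 0 := by
      intro U hU
      simpa using pos U hU (Pi.single 0 1) (by simp)
    obtain ⟨a, ⟨U, hU, rfl⟩, hmin⟩ := Int.exists_least_of_bdd
      (P := fun z => ∃ U : Matrix (Fin (n + 2)) (Fin (n + 2)) ℤ, IsUnit U.det ∧ (Uᵀ * A0 * U) 0 0 = z)
      ⟨0, by rintro z ⟨U, hU, rfl⟩; exact (pos0 U hU).le⟩ ⟨_, 1, by simp, rfl⟩
    refine ⟨U, hU, ?_⟩
    have hdet : (Uᵀ * A0 * U).det = A0.det := by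
      rw [det_mul, det_mul, det_transpose, mul_right_comm, Int.isUnit_mul_self hU, one_mul]
    have hmin' : ∀ W : Matrix (Fin (n + 2)) (Fin (n + 2)) ℤ, IsUnit W.det →
        (Uᵀ * A0 * U) 0 0 ≤ (Wᵀ * (Uᵀ * A0 * U) * W) 0 0 := fun W hW =>
      hmin _ ⟨U * W, by rw [det_mul]; exact hU.mul hW, by
        rw [transpose_mul]; simp only [Matrix.mul_assoc]⟩
    have hA : (Uᵀ * A0 * U)ᵀ = Uᵀ * A0 * U := by
      rw [transpose_mul, transpose_mul, transpose_transpose, hA0, Matrix.mul_assoc]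
    have hp := pos U hU
    have ha := pos0 U hU
    rw [← hdet]
    generalize Uᵀ * A0 * U = A at hmin' hA hp ha
    have hs : ∀ i j, A i j = A j i := fun i j => (congrFun (congrFun hA j) i)
    let S : Matrix (Fin (n + 1)) (Fin (n + 1)) ℤ :=
      Matrix.of fun i j => A 0 0 * A i.succ j.succ - A 0 i.succ * A 0 j.succ
    have hS : Sᵀ = S := by
      ext i j
      simp only [S, transpose_apply, of_apply, hs j.succ i.succ]
      ring
    have hSp : ∀ y, y ≠ 0 → 0 < y ⬝ᵥ S *ᵥ y := by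
      intro y hy
      have h1 := quad A hA (-∑ j, A 0 j.succ * y j) (A 0 0 • y)
      have h2 := hp (Fin.cons (-∑ j, A 0 j.succ * y j) (A 0 0 • y)) (fun h => by
        have : A 0 0 • y = 0 := funext fun j => congrFun h j.succ
        exact hy ((smul_eq_zero.mp this).resolve_left ha.ne'))
      have h3 : ∑ j, A 0 j.succ * (A 0 0 • y) j = A 0 0 * ∑ j, A 0 j.succ * y j := by
        rw [Finset.mul_sum]
        exact Finset.sum_congr rfl fun i _ => by simp only [Pi.smul_apply, smul_eq_mul]; ring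
      rw [h3, mulVec_smul, dotProduct_smul, smul_dotProduct, smul_eq_mul, smul_eq_mul] at h1
      have h4 := mul_pos ha h2
      rw [h1, mul_neg, neg_add_cancel, sq, mul_zero, zero_add] at h4
      exact (mul_pos_iff_of_pos_left ha).mp ((mul_pos_iff_of_pos_left ha).mp h4)
    have hdS : S.det = A 0 0 ^ n * A.det := by
      let E : Matrix (Fin (n + 2)) (Fin (n + 2)) ℤ := Matrix.of (Fin.cons
        (Fin.cons 1 fun j => -A 0 j.succ) fun i => Fin.cons 0 fun j => if i = j then A 0 0 else 0)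
      have hE : E.det = A 0 0 ^ (n + 1) := by
        rw [det_succ_column_zero, Fin.sum_univ_succ]
        have : E.submatrix Fin.succ Fin.succ = diagonal fun _ => A 0 0 := by
          ext i j
          simp [E, diagonal_apply]
        simp [this, E]
      have h0 : ∀ j : Fin (n + 1), (A * E) 0 j.succ = 0 := fun j => by
        simp [E, mul_apply, Fin.sum_univ_succ (n := n + 1)]
        ring
      have h1 : (A * E).submatrix Fin.succ Fin.succ = S := by
        ext i j
        simp [E, S, mul_apply, Fin.sum_univ_succ (n := n + 1), hs i.succ 0]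
        ring
      have h2 : (A * E) 0 0 = A 0 0 := by simp [E, mul_apply, Fin.sum_univ_succ (n := n + 1)]
      have h3 : (A * E).det = A 0 0 * S.det := by
        rw [det_succ_row_zero, Fin.sum_univ_succ]
        simp [h0, h1, h2]
      rw [det_mul, hE] at h3
      apply mul_left_cancel₀ ha.ne'
      rw [← h3]
      ring
    obtain ⟨V, hV, hb⟩ := ih S hS hSp
    rw [e00] at hb
    obtain ⟨k, hk⟩ : ∃ k : ℤ, 4 * (A 0 0 * k + ∑ j, A 0 j.succ * V j 0) ^ 2 ≤ A 0 0 ^ 2 := by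
      generalize ∑ j, A 0 j.succ * V j 0 = β
      have h1 := Int.emod_nonneg β ha.ne'
      have h2 := Int.emod_lt_of_pos β ha
      have h3 := Int.mul_ediv_add_emod β (A 0 0)
      by_cases h : 2 * (β % A 0 0) ≤ A 0 0
      · refine ⟨-(β / A 0 0), ?_⟩
        rw [show A 0 0 * -(β / A 0 0) + β = β % A 0 0 by linarith]
        nlinarith
      · refine ⟨-(β / A 0 0) - 1, ?_⟩
        rw [show A 0 0 * (-(β / A 0 0) - 1) + β = β % A 0 0 - A 0 0 by linarith]
        nlinarith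
    let W : Matrix (Fin (n + 2)) (Fin (n + 2)) ℤ := Matrix.of (Fin.cons
      (Fin.cons 1 fun _ => k) fun i => Fin.cons 0 (V i))
    have hW : W.det = V.det := by
      rw [det_succ_column_zero, Fin.sum_univ_succ]
      have : W.submatrix Fin.succ Fin.succ = V := by
        ext i j
        simp [W]
      simp [this, W]
    have h1 := hmin' (W.submatrix id (Equiv.swap 0 1)) (by
      rw [det_permute', hW]
      exact (Units.isUnit _).mul hV)
    have hx : (fun i => (W.submatrix id (Equiv.swap 0 1)) i 0) = Fin.cons k fun j => V j 0 := by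
      funext i
      rw [submatrix_apply, Equiv.swap_apply_left]
      refine Fin.cases rfl (fun _ => rfl) i
    rw [e00, hx] at h1
    have h2 := mul_le_mul_of_nonneg_left h1 ha.le
    rw [quad A hA] at h2
    have h3 : 3 * A 0 0 ^ 2 ≤ 4 * ((fun i => V i 0) ⬝ᵥ S *ᵥ fun i => V i 0) := by
      simp only [S]
      nlinarith
    have h4 := pow_le_pow_left₀ (by positivity) h3 (n + 1)
    have hm : (n + 1) * (n + 1 + 1) / 2 = n * (n + 1) / 2 + (n + 1) := by
      rw [show (n + 1) * (n + 1 + 1) = n * (n + 1) + (n + 1) * 2 by ring, Nat.add_mul_div_right _ _ two_pos]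
    rw [hm]
    rw [hdS] at hb
    apply le_of_mul_le_mul_left _ (pow_pos ha n)
    calc A 0 0 ^ n * (A 0 0 ^ (n + 1 + 1) * 3 ^ (n * (n + 1) / 2 + (n + 1)))
        = (3 * A 0 0 ^ 2) ^ (n + 1) * 3 ^ (n * (n + 1) / 2) := by ring
      _ ≤ (4 * ((fun i => V i 0) ⬝ᵥ S *ᵥ fun i => V i 0)) ^ (n + 1) * 3 ^ (n * (n + 1) / 2) :=
        mul_le_mul_of_nonneg_right h4 (by positivity)
      _ = 4 ^ (n + 1) * (((fun i => V i 0) ⬝ᵥ S *ᵥ fun i => V i 0) ^ (n + 1) *
          3 ^ (n * (n + 1) / 2)) := by rw [mul_pow, mul_assoc]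
      _ ≤ 4 ^ (n + 1) * (4 ^ (n * (n + 1) / 2) * (A 0 0 ^ n * A.det)) :=
        mul_le_mul_of_nonneg_left hb (by positivity)
      _ = _ := by ring

end Cfsg.Agent.H7.K5Herm
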