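import Cfsg.Agent.H78.G40A

/-! Project L40G, piece FIN: the final identification. -/

set_option autoImplicit false

namespace Cfsg.Agent.H7.L40Fin

open Subgroup Cfsg.Agent.H83 Cfsg.Agent.H46.L40 Cfsg.Agent.H78.G40

universe u

theorem z0_sq : z0 * z0 = 1 := by decide

theorem z0_ne : z0 ≠ 1 := by decide

/-- a subgroup of a simple subgroup normalised by it is trivial or everything -/
theorem bot_or_eq {G : Type u} [Group G] {F I : Subgroup G} (hs : IsSimpleGroup F) (hI : I ≤ F)
    (hn : F ≤ normalizer (I : Set G)) : I = ⊥ ∨ I = F := by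
  haveI := hs
  haveI : (I.subgroupOf F).Normal := (normal_subgroupOf_iff_le_normalizer hI).mpr hn
  rcases Subgroup.Normal.eq_bot_or_eq_top (inferInstance : (I.subgroupOf F).Normal) with h | h
  · left
    rw [subgroupOf_eq_bot, disjoint_iff, inf_eq_left.mpr hI] at h
    exact h
  · right
    exact le_antisymm hI (subgroupOf_eq_top.mp h)

theorem fin (gh : GhS.{u}) : FinS.{u} := by
  intro ghz X _ e σ τ θ act T mo hm hT hTz G _ _ S ψ tie zu hcz
  haveI := mo.fin
  haveI : Fact (Nat.Prime 2) := ⟨Nat.prime_two⟩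
  have fn := S.fn
  have hzz : S.z * S.z = 1 := by
    show S.φ z0 * S.φ z0 = 1
    rw [← map_mul, z0_sq, map_one]
  have hz1 : S.z ≠ 1 := by
    intro h
    exact z0_ne (S.inj (h.trans (map_one _).symm))
  have hze : ψ (e z0) = S.z := tie.he z0
  have hzR : S.z ∈ S.R := by
    rw [← tie.rg]
    exact ⟨_, hze⟩
  have hRN : PP S.R ≤ normalizer (S.R : Set G) :=
    sup_le le_normalizer (centralizer_le_normalizer _)
  -- the isomorphism of the model with `R`
  let i : X ≃* S.R := (MonoidHom.ofInjective tie.inj).trans (MulEquiv.subgroupCongr tie.rg)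
  have hsq : Sq S.R ⊥ := by
    refine ⟨X, inferInstance, i.symm.toMonoidHom, i.symm.surjective, ?_, mo.simple, mo.nc, ?_⟩
    · intro y
      rw [mem_bot]
      constructor
      · intro h
        have : y = 1 := i.symm.injective (h.trans (map_one _).symm)
        rw [this]
        rfl
      · intro h
        have : y = 1 := Subtype.ext h
        rw [this, map_one]
    · intro m h
      exact absurd h (hm m)
  have hez : e z0 * e z0 = 1 := by rw [← map_mul, z0_sq, map_one]
  have hzT : e z0 ∈ T := by
    refine hT.mem_of_norm (mem_top _) (k := 1) (by rw [pow_one, sq, hez]) ?_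
    refine centralizer_le_normalizer _ ?_
    rw [mem_centralizer_iff]
    intro x hx
    exact (mem_centralizer_singleton_iff.mp (hTz hx))
  have hsyl : IsSylowIn 2 (T.map ψ) S.X := by
    apply fn.syl
    have := hT.map ψ
    rwa [← MonoidHom.range_eq_map, tie.rg] at this
  have key : S.X ≤ PP S.R := by
    refine ghz gh G S.X (PP S.R) S.R ⊥ (T.map ψ) S.z fn.pF bot_le bot_le IsPGroup.of_bot ?_
      le_sup_left hRN hsq hzR ?_ ?_ hsyl ⟨_, hzT, hze⟩ ?_ ?_
    · intro I hI hn ho
      rcases bot_or_eq fn.as.simple hI hn with h | h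
      · rw [h]
        exact bot_le
      · exfalso
        have hzI : S.z ∈ I := by
          rw [h]
          exact fn.le hzR
        have h2 : orderOf S.z = 2 := orderOf_eq_prime (by rw [sq, hzz]) hz1
        have hd : orderOf S.z ∣ Nat.card I := Subgroup.orderOf_dvd_natCard I hzI
        rw [h2] at hd
        exact (Nat.not_even_iff_odd.mpr ho) (even_iff_two_dvd.mpr hd)
    · rw [mem_bot]
      exact hz1
    · rw [mem_bot]
      exact hzz
    · rintro _ ⟨x, hx, rfl⟩
      have hc : x * e z0 = e z0 * x := mem_centralizer_singleton_iff.mp (hTz hx)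
      rw [mem_bot, ← hze, ← map_mul, hc, map_mul]
      group
    · intro g hg hp
      have h2 : Two (g * S.z * g⁻¹) := ⟨1, by rw [pow_one, conj_pow, sq, hzz]; group⟩
      obtain ⟨r, hr, hrz⟩ := zu g hg (fn.two _ hp h2)
      have hm' : r⁻¹ * g ∈ S.X ⊓ Cz S.z := by
        refine ⟨S.X.mul_mem (S.X.inv_mem (fn.le hr)) hg, ?_⟩
        show r⁻¹ * g ∈ centralizer {S.z}
        rw [mem_centralizer_singleton_iff]
        calc r⁻¹ * g * S.z = r⁻¹ * (g * S.z * g⁻¹) * g := by group
          _ = r⁻¹ * (r * S.z * r⁻¹) * g := by rw [hrz]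
          _ = S.z * (r⁻¹ * g) := by group
      have := mul_mem (le_sup_left (a := S.R) (b := centralizer (S.R : Set G)) hr) (hcz hm')
      simpa using this
  rcases bot_or_eq fn.as.simple fn.le (key.trans hRN) with h | h
  · rw [h, mem_bot] at hzR
    exact absurd hzR hz1
  · exact ⟨(MulEquiv.subgroupCongr h.symm).trans i.symm⟩

end Cfsg.Agent.H7.L40Fin
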