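import Cfsg.Agent.H48.M2Defs

/-! Maximal 2-local subgroups of the Monster: the count at a common point of two lines. -/

set_option autoImplicit false

namespace Cfsg.Agent.H48.M2

open Cfsg Subgroup Cfsg.Agent.H48 Cfsg.Agent.H48.Rec Cfsg.Agent.H49 Cfsg.Agent.H95.Par
open Cfsg.Agent.H97.Gr (DD ZZ)
open Cfsg.Agent.H97.Yt (M)

namespace BF2

theorem two_le {G : Type*} [Group G] [Finite G] {L Y : Subgroup G} (h : L ≤ Y) {y : G}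
    (hy : y ∈ Y) (hn : y ∉ L) : 2 * Nat.card L ≤ Nat.card Y := by
  obtain ⟨k, hk⟩ := card_dvd_of_le h
  have h0 : 0 < Nat.card Y := Nat.card_pos
  rcases k with _ | _ | k
  · omega
  · exact absurd ((eq_of_le_of_card_ge h (by omega)).ge hy) hn
  · rw [hk]; nlinarith

theorem uniq {G : Type*} [Group G] [Finite G] {W W' : Subgroup G} (h : Nat.card W = 4)
    (h' : Nat.card W' = 4) (ne : W ≠ W') {b u : G} (hb : b ∈ W ⊓ W') (hu : u ∈ W ⊓ W')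
    (b1 : b ≠ 1) (u1 : u ≠ 1) : u = b := by
  by_contra hc
  obtain ⟨y, hy, hn⟩ : ∃ y ∈ W, y ∉ W ⊓ W' := by
    by_contra! q
    exact ne (eq_of_le_of_card_ge (fun x hx => (q x hx).2) (by omega))
  have h1 := two_le inf_le_left hy hn
  have : Fintype ↥(W ⊓ W') := Fintype.ofFinite _
  rw [Nat.card_eq_fintype_card] at h1
  have h3 : 2 < Fintype.card ↥(W ⊓ W') := Fintype.two_lt_card_iff.2
    ⟨1, ⟨b, hb⟩, ⟨u, hu⟩, fun e => b1 (congrArg Subtype.val e).symm,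
      fun e => u1 (congrArg Subtype.val e).symm, fun e => hc (congrArg Subtype.val e).symm⟩
  omega

theorem claim (hW : BwStmt) (h5 : B5Stmt) (hL : BlStmt) {R V : Subgroup M} {w w' y y' b : M}
    (h : Bs R V w w') (hy : y ∈ V) (hy' : y' ∈ V) (l : Ln w w' y) (l' : Ln w' w y')
    (ne : WW w w' y ≠ WW w' w y') (hb : b ∈ WW w w' y) (hb' : b ∈ WW w' w y') (b1 : b ≠ 1) :
    V ⊓ Qz w ⊓ (Qz b ⊔ Ak w w') ≤ Qz b ∧
      2 * Nat.card ↥(V ⊓ TT w w') ≤ Nat.card ↥(V ⊓ Qz w ⊓ (Qz b ⊔ Ak w w')) := by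
  have el := h.vs.el
  have k1 : V ⊓ TT w w' ≤ Qz b := fun a ha =>
    (h5 w' w y' h.bp.symm l' a ha.2.2).2 b hb' b1 (by
      rw [el.cm ha.1 hy', mul_inv_cancel_right, mul_inv_cancel]; exact one_mem _)
  have k2 : y ∈ Qz b := hL w w' y y' h.bp l l' (el.cm hy hy') ne b hb hb' b1
  have ln : ∀ x ∈ V ⊓ Qz w, x ∉ TT w w' → Ln w w' x := fun x hx hn =>
    ⟨⟨hx.2, mem_centralizer_singleton_iff.2 (el.cm hx.1 h.m2.mem)⟩, hn, el x hx.1⟩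
  have k3 : ∀ x ∈ V ⊓ Qz w ⊓ (Qz b ⊔ Ak w w'), x ∉ TT w w' → WW w w' x ≠ WW w' w y' →
      x ∈ Qz b := fun x hx hn e =>
    hL w w' x y' h.bp (ln x hx.1 hn) l' (el.cm hx.1.1 hy') e b
      (((hW w w' x h.bp (ln x hx.1 hn)).2.1 b hb.1 b1).2 hx.2) hb' b1
  have k4 : y ∈ V ⊓ Qz w ⊓ (Qz b ⊔ Ak w w') := ⟨⟨hy, l.mem.1⟩, mem_sup_left k2⟩
  refine ⟨fun x hx => ?_, two_le (fun a ha => ⟨⟨ha.1, ha.2.1.1⟩, mem_sup_left (k1 ha)⟩) k4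
    fun e => l.out e.2⟩
  by_cases hn : x ∈ TT w w'
  · exact k1 ⟨hx.1.1, hn⟩
  by_cases e : WW w w' x = WW w' w y'
  swap
  · exact k3 x hx hn e
  have m2 : x * y ∈ V ⊓ Qz w ⊓ (Qz b ⊔ Ak w w') := mul_mem hx k4
  have n2 : x * y ∉ TT w w' := fun q => ne
    ((((hW w w' x h.bp (ln x hx.1 hn)).2.2 y l (el.cm hx.1.1 hy)).2 q).symm.trans e)
  have n3 : WW w w' (x * y) ≠ WW w' w y' := fun q => l.out (by
    have := ((hW w w' x h.bp (ln x hx.1 hn)).2.2 (x * y) (ln _ m2.1 n2)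
      (el.cm hx.1.1 m2.1.1)).1 (e.trans q.symm)
    rwa [← mul_assoc, el x hx.1.1, one_mul] at this)
  exact (mul_mem_cancel_right k2).1 (k3 _ m2 n2 n3)

end BF2

theorem bf2_of (hU : BuStmt) (hW : BwStmt) (h5 : B5Stmt) (hL : BlStmt) (hI : BiStmt) :
    Bf2Stmt := by
  intro R V w w' h y hy y' hy' l l' ne b hb hb' b1
  have bV : b ∈ V := by
    obtain ⟨u, hu, h1, h2⟩ := h.vs.fp (WW w w' y ⊓ WW w' w y') (fun x hx => by
        by_cases x1 : x = 1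
        · rw [x1, mul_one]
        · exact ZZ_sq ((hU w w' h.bp).2.2.2.2.2.1 x hx.1.1 x1).1)
      (fun e => b1 (mem_bot.1 (e ▸ (⟨hb, hb'⟩ : b ∈ WW w w' y ⊓ WW w' w y'))))
      fun r hr => n_inf
        (n_WW h.bp.z1 (h.vs.cm hr h.m1.mem) (h.vs.cm hr h.m2.mem) (h.vs.cm hr hy))
        (n_WW h.bp.z2 (h.vs.cm hr h.m2.mem) (h.vs.cm hr h.m1.mem) (h.vs.cm hr hy'))
    exact BF2.uniq (hW w w' y h.bp l).1 (hW w' w y' h.bp.symm l').1 ne ⟨hb, hb'⟩ hu b1 h2 ▸ h1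
  obtain ⟨c1, c2⟩ := BF2.claim hW h5 hL h hy hy' l l' ne hb hb' b1
  obtain ⟨c3, c4⟩ := BF2.claim hW h5 hL h.symm hy' hy l' l ne.symm hb' hb b1
  refine ⟨?_, c2⟩
  have d1 := ((hI R V w w' h).2 b hb.1 bV b1).2
  have d2 := (hI R V w' w h.symm).1
  rw [inf_right_comm V (Qz w')] at d2
  have d3 : Nat.card ↥(V ⊓ Qz w ⊓ (Qz b ⊔ Ak w w')) ≤ Nat.card ↥(V ⊓ Qz w ⊓ Qz b) :=
    card_le_of_le (le_inf inf_le_left c1)
  have d4 : Nat.card ↥(V ⊓ Qz w' ⊓ (Qz b ⊔ Ak w' w)) ≤ Nat.card ↥(V ⊓ Qz w' ⊓ Qz b) :=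
    card_le_of_le (le_inf inf_le_left c3)
  refine Nat.le_of_mul_le_mul_right (c := Nat.card ↥(V ⊓ Qz w ⊓ Qz w')) ?_ Nat.card_pos
  refine le_trans ?_ d1
  rw [mul_comm 4, mul_assoc]
  exact Nat.mul_le_mul d3 (by omega)

end Cfsg.Agent.H48.M2
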