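import Mathlib
import Cfsg.Agent.H7.T3Cx

/-!
# T3-MOU1: the wall condition gives the Moufang property
-/

set_option autoImplicit false

namespace Cfsg.Agent.H7.T3Mou1

open Cfsg.Agent.H35 Cfsg.Agent.H35.InvGen Cfsg.Agent.Lead.T3 Cfsg.Agent.H7.T3Cx

universe u

variable {I W : Type} [Group W] {X : Cox I W} {C : Type u} (B : Bld X C)

theorem mem_univ (w : W) : w ∈ X.WJ Set.univ := by
  unfold Cox.WJ
  rw [Set.image_univ, X.closure_eq]
  trivial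

theorem mem_rt_one {i : I} {w : W} : w ∈ X.rt 1 i ↔ X.len w < X.len (X.s i * w) := by
  simp [Cox.rt]

theorem apt_mul {σ : W → C} (hσ : B.Apt σ) (v : W) : B.Apt fun w => σ (v * w) := by
  intro u w
  rw [hσ]
  simp [mul_assoc]

variable [Finite W] [Finite C]

/-- An apartment through the root `α_i` and a given chamber of the boundary panel. -/
theorem exists_apt (h1 : Ba1Stmt.{u}) {σ : W → C} (hσ : B.Apt σ) {i : I} {x : C}
    (hx : x ∈ B.pan (σ 1) i) :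
    ∃ τ : W → C, B.Apt τ ∧ τ (X.s i) = x ∧ ∀ w ∈ X.rt 1 i, τ w = σ w := by
  obtain ⟨-, -, -, -, -, -, -, -, uniq, apt⟩ := h1 B
  have hx' : B.δ x (σ 1) = X.s i := by
    rw [B.symm, show B.δ (σ 1) x = X.s i from hx, inv_s]
  have up : ∀ w, X.len w ≤ X.len (X.s i * w) → B.δ x (σ w) = X.s i * w := fun w hw => by
    have e : B.δ (σ 1) (σ w) = w := by rw [hσ]; simp
    have := B.step_up i x (σ 1) (σ w) hx' (by rwa [e])
    rwa [e] at this
  have hd : B.δ x (σ (X.s i * X.w0)) = X.w0 := by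
    rw [up _ ?_, s_mul_s_cancel_left]
    rw [s_mul_s_cancel_left]
    exact (X.wJ_spec _).2 _ (mem_univ _)
  obtain ⟨τ, hτ, t1, t2⟩ := apt _ _ hd
  refine ⟨fun w => τ (X.s i * w), apt_mul B hτ _, by simp [X.s_mul_s, t1], fun w hw => ?_⟩
  have e1 : B.δ x (τ (X.s i * w)) = X.s i * w := by rw [← t1, hτ]; simp
  have e2 : B.δ (τ (X.s i * w)) (σ (X.s i * X.w0)) = (X.s i * w)⁻¹ * X.w0 := by rw [← t2, hτ]
  refine uniq x (σ (X.s i * X.w0)) _ _ ?_ ?_ ?_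
  · rw [e1, up w (mem_rt_one.1 hw).le]
  · rw [e2, hσ]
    simp [mul_assoc]
  · rw [hd, e1, e2]
    exact (X.exch.len_add_isLongest (X.wJ_spec _) (mem_univ _)).symm

/-- Parallel panels. -/
theorem par (h1 : Ba1Stmt.{u}) (h2 : Ba2Stmt.{u}) {σ : W → C} (hσ : B.Apt σ) {f : C → C}
    (hf : ∀ x y, B.δ (f x) (f y) = B.δ x y) {v v' : W} {k j : I} (hr : X.rf v k = X.rf v' j)
    (hv : f (σ v) = σ v) (hv' : f (σ v') = σ v') (hp : ∀ z ∈ B.pan (σ v') j, f z = z) :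
    ∀ z ∈ B.pan (σ v) k, f z = z := by
  obtain ⟨-, -, -, -, hres, -⟩ := h1 B
  have hfix : ∀ z ∈ B.res {j} (σ v'), f z = z := fun z hz => by
    rcases (mem_WJ_single X _ _).1 hz with h | h
    · rw [← (B.eq_one _ _).1 h, hv']
    · exact hp z h
  have key : ∀ a : W, X.rf v k = X.rf a j → B.res {j} (σ a) = B.res {j} (σ v') →
      X.len (a⁻¹ * v) < X.len (X.s j * (a⁻¹ * v)) → ∀ z ∈ B.pan (σ v) k, f z = z := by
    intro a ha hra hl z hz
    have hz' : z ∈ B.res {k} (σ v) := (mem_WJ_single X _ _).2 (Or.inr hz)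
    have hc : X.s j * (a⁻¹ * v) = a⁻¹ * v * X.s k := by
      unfold Cox.rf at ha
      calc X.s j * (a⁻¹ * v) = a⁻¹ * (a * X.s j * a⁻¹) * v := by group
        _ = a⁻¹ * (v * X.s k * v⁻¹) * v := by rw [ha]
        _ = a⁻¹ * v * X.s k := by group
    obtain ⟨x, hx, e, hu⟩ := (h2 B).2 (σ a) (σ v) _ j k (hσ a v) hc hl z hz'
    refine hu _ ?_ ?_
    · change B.δ (σ v) (f z) ∈ X.WJ _
      rw [← hv, hf]
      exact hz'
    · rw [← hfix x (hra ▸ hx), hf, e]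
  rcases X.exch.len_s_mul j (v'⁻¹ * v) with h | h
  · exact key v' hr rfl (by omega)
  · refine key (v' * X.s j) ?_ (hres _ _ _ ?_) ?_
    · rw [hr]
      simp [Cox.rf, mul_assoc]
    · change B.δ _ _ ∈ X.WJ _
      rw [hσ, inv_mul_cancel_left]
      exact s_mem X rfl
    · simp only [mul_inv_rev, inv_s, mul_assoc, s_mul_s_cancel_left]
      omega

theorem core (h1 : Ba1Stmt.{u}) (h2 : Ba2Stmt.{u}) (h3 : Ba3Stmt.{u}) (hE : ExtStmt.{u})
    (hI : Nontrivial I) (hM : X.M234) {i : I} (hW : Wall X i) {σ : W → C} (hσ : B.Apt σ) {x y : C}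
    (hx : x ∈ B.pan (σ 1) i) (hy : y ∈ B.pan (σ 1) i) :
    ∃ f : C ≃ C, (∀ a b, B.δ (f a) (f b) = B.δ a b) ∧ f x = y ∧ (∀ w ∈ X.rt 1 i, f (σ w) = σ w) ∧
      ∀ w j, w ∈ X.rt 1 i → w * X.s j ∈ X.rt 1 i → ∀ z ∈ B.pan (σ w) j, f z = z := by
  obtain ⟨τ, hτ, t1, t2⟩ := exists_apt B h1 hσ hx
  obtain ⟨τ', hτ', t1', t2'⟩ := exists_apt B h1 hσ hy
  obtain ⟨c, hc, hW⟩ := hW
  have hc1 : c ∈ X.rt 1 i := by simpa using hc i i 1 (one_mem _)
  obtain ⟨f, hf, fa, fe⟩ := hE B B hI hM (fun w => τ (c * w)) (fun w => τ' (c * w)) id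
    (apt_mul B hτ c) (apt_mul B hτ' c)
    (fun a b => ⟨fun _ _ _ _ => rfl, by simp⟩)
    (fun a b u hu => by rw [id, t2 _ (hc a b u hu), t2' _ (hc a b u hu)])
  have fa' : ∀ w, f (τ w) = τ' w := fun w => by simpa using fa (c⁻¹ * w)
  have hroot : ∀ w ∈ X.rt 1 i, f (σ w) = σ w := fun w hw => by rw [← t2 w hw, fa', t2' w hw, t2 w hw]
  simp only [mul_one, t2 c hc1] at fe
  refine ⟨f, hf, by rw [← t1, fa', t1'], hroot, fun w j hw hw' => ?_⟩
  refine hW {t | ∀ v k, v ∈ X.rt 1 i → X.rf v k = t → ∀ z ∈ B.pan (σ v) k, f z = z} ?_ ?_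
    w j hw hw' w j hw rfl
  · intro j v k hv hr
    refine par B h1 h2 hσ hf hr (hroot v hv) (hroot c hc1) fun z hz => fe ⟨j, j, ?_⟩
    change B.δ _ _ ∈ X.WJ _
    rw [show B.δ (σ c) z = X.s j from hz]
    exact s_mem X (by simp)
  · intro v a b hv ha hb u hu
    have hv1 : v ∈ X.rt 1 i := by simpa using hv 1 (one_mem _)
    have hfix : Set.EqOn f id (B.res {a, b} (σ v)) := by
      refine (h3 B B).2 {a, b} (σ v) (σ (v * X.wJ {a, b})) f id (fun p _ q _ => hf p q)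
        (fun _ _ _ _ => rfl) (by rw [hσ, inv_mul_cancel_left]) (hroot v hv1)
        (hroot _ (hv _ (wJ_mem X _))) ?_
      rintro k (rfl | rfl) z hz
      exacts [ha v k hv1 rfl z hz, hb v k hv1 rfl z hz]
    have hres : B.res {a, b} (σ (v * u)) = B.res {a, b} (σ v) := by
      refine (h1 B).2.2.2.2.1 _ _ _ ?_
      change B.δ _ _ ∈ X.WJ _
      rwa [hσ, inv_mul_cancel_left]
    have key : ∀ k ∈ ({a, b} : Set I), ∀ v' k', v' ∈ X.rt 1 i → X.rf v' k' = X.rf (v * u) k →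
        ∀ z ∈ B.pan (σ v') k', f z = z := fun k hk v' k' hv' hr => by
      refine par B h1 h2 hσ hf hr (hroot v' hv') (hroot _ (hv u hu)) fun z hz => hfix ?_
      rw [← hres]
      change B.δ _ _ ∈ X.WJ _
      rw [show B.δ (σ (v * u)) z = X.s k from hz]
      exact s_mem X hk
    exact ⟨key a (by simp), key b (by simp)⟩

theorem mou1Stmt (h1 : Ba1Stmt.{u}) (h2 : Ba2Stmt.{u}) (h3 : Ba3Stmt.{u}) (hE : ExtStmt.{u}) :
    Mou1Stmt.{u} := by
  intro I W _ _ X C _ B hI hM hW c σ hσ _ v _ i _ x hx y hy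
  obtain ⟨f, hf, e, f1, f2⟩ := core B h1 h2 h3 hE hI hM (hW i) (apt_mul B hσ v) (x := x) (y := y)
    (by simpa using hx) (by simpa using hy)
  have hr : ∀ w, w ∈ X.rt v i → v⁻¹ * w ∈ X.rt 1 i := fun w hw => mem_rt_one.2 hw
  refine ⟨f, ⟨⟨fun z hz => (hz (mem_univ _)).elim, fun a _ b _ => hf a b⟩, fun w _ hw => ?_,
    fun w _ j _ hw hw' z hz => ?_⟩, e⟩
  · simpa using f1 _ (hr w hw)
  · exact f2 _ j (hr w hw) (by simpa [mul_assoc] using hr _ hw') z (by simpa using hz)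

end Cfsg.Agent.H7.T3Mou1
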