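import Cfsg.Agent.H97.U5Defs

/-!
Extensions of `SU₅(q)` by diagonal and field automorphisms.
-/

set_option autoImplicit false

namespace Cfsg.Agent.H7.U5R

open Cfsg.Agent.H97 Cfsg.Agent.H97.U5 Subgroup

universe u

variable {K : Type u} [Field K] [Finite K] {T : Hm K} {p : ℕ} [Fact p.Prime] [CharP K p]

omit [Finite K] in
theorem tf_inj {c c' : Kˣ × Kˣ} {φ φ' : RingAut K}
    (h : tor T c * fld T φ = tor T c' * fld T φ') : c = c' ∧ φ = φ' := by
  have h1 : ∀ x y : K, (c.1 : K) * φ x = c'.1 * φ' x ∧ (c.2 : K) * φ y = c'.2 * φ' y :=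
    fun x y => by
      have := DFunLike.congr_fun h (rv T x y)
      exact ⟨congrArg U.v1 this, congrArg U.v2 this⟩
  have h2 := h1 1 1
  simp only [map_one, mul_one, Units.val_inj] at h2
  refine ⟨Prod.ext h2.1 h2.2, RingEquiv.ext fun x => ?_⟩
  have := (h1 x x).1
  rw [h2.1] at this
  exact mul_left_cancel₀ c'.1.ne_zero this

omit [Finite K] in
theorem fld_tor (φ : RingAut K) (c : Kˣ × Kˣ) : fld T φ * tor T c =
    tor T (Units.map (φ : K →* K) c.1, Units.map (φ : K →* K) c.2) * fld T φ :=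
  MulEquiv.ext fun g => by
    ext <;> simp [T.com]

omit [CharP K p] in
theorem real (h1 : X1Stmt T) (h2 : X2Stmt T p) : RealStmt T p := by
  intro L hL hp hS
  obtain ⟨⟨gQ, hQ⟩, ⟨gR, hR⟩, aT, aF, hT, hF, hc⟩ := h1
  have hfin : Finite L := Nat.finite_of_card_ne_zero fun h => hp (h ▸ dvd_zero p)
  choose c φ hcφ using fun l : L => hL l l.2
  let a : L →* MulAut (XU T) := MonoidHom.mk' (fun l => aT (c l) * aF (φ l)) fun l m => by
    have e : tor T (c (l * m)) * fld T (φ (l * m)) = tor T (c l * (Units.map (φ l : K →* K) (c m).1,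
        Units.map (φ l : K →* K) (c m).2)) * fld T (φ l * φ m) := by
      rw [← hcφ, coe_mul, hcφ l, hcφ m, map_mul, map_mul, mul_assoc, ← mul_assoc (fld T _),
        fld_tor]
      simp only [mul_assoc]
    obtain ⟨e1, e2⟩ := tf_inj e
    rw [e1, e2, map_mul, map_mul, mul_assoc, mul_assoc, ← mul_assoc (aF _), hc]
    simp only [mul_assoc]
  have ha : ∀ (l : L) u, a l (iU T u) = iU T (l.1 u) := fun l u => by
    rw [hcφ l]
    exact (congrArg (aT (c l)) (hF _ u)).trans (hT _ _)
  let G := XU T ⋊[a] L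
  let ι : U T →* G := SemidirectProduct.inl.comp (iU T)
  have key : ∀ (x : XU T) (l : L) (u : U T), (SemidirectProduct.inl x * SemidirectProduct.inr l : G) *
      ι u * (SemidirectProduct.inl x * SemidirectProduct.inr l)⁻¹ =
      SemidirectProduct.inl (x * iU T (l.1 u) * x⁻¹) := fun x l u => by
    rw [← ha, map_mul, map_mul, map_inv]
    have := SemidirectProduct.inl_aut (φ := a) l (iU T u)
    rw [map_inv] at this
    refine Eq.trans ?_ (congrArg (fun y : G => SemidirectProduct.inl x * y *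
      (SemidirectProduct.inl x)⁻¹) this.symm)
    simp only [ι, MonoidHom.comp_apply, mul_inv_rev, mul_assoc]
  have key1 : ∀ (x : XU T) (u : U T), (SemidirectProduct.inl x : G) * ι u *
      (SemidirectProduct.inl x)⁻¹ = SemidirectProduct.inl (x * iU T u * x⁻¹) := fun x u => by
    simp [ι]
  refine ⟨G, inferInstance, Finite.of_equiv _ SemidirectProduct.equivProd.symm, ι,
    SemidirectProduct.inl_injective.comp (iU_inj T), ?_, fun g hg => ?_, fun l hl => ?_,
    ⟨_, fun u hu => (key1 gQ u).trans (congrArg _ (hQ u hu))⟩,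
    ⟨_, fun u hu => (key1 gR u).trans (congrArg _ (hR u hu))⟩⟩
  · rw [MonoidHom.range_comp, index_map_of_injective _ SemidirectProduct.inl_injective,
      SemidirectProduct.range_inl_eq_ker_rightHom, index_ker,
      MonoidHom.range_eq_top.2 SemidirectProduct.rightHom_surjective, card_top]
    exact fun h => ((Nat.Prime.dvd_mul Fact.out).1 h).elim h2.1 hp
  · rw [← SemidirectProduct.inl_left_mul_inr_right g] at hg ⊢
    have hn : g.left ∈ normalizer ((iU T).range : Set (XU T)) := by
      refine mem_normalizer_fintype ?_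
      rintro _ ⟨u, rfl⟩
      obtain ⟨v, e⟩ := (mem_normalizer_iff.1 hg _).1 ⟨g.right.1⁻¹ u, rfl⟩
      rw [key, MulAut.apply_inv_self] at e
      exact ⟨v, SemidirectProduct.inl_injective e⟩
    obtain ⟨s, d, l, e⟩ := h2.2 _ hn
    exact ⟨s, _, mul_mem (mul_mem (hS.1 d) (hS.2 l)) g.right.2, fun u => by
      rw [key, e]; rfl⟩
  · exact ⟨_, fun u => by simpa [ι] using key 1 ⟨l, hl⟩ u⟩

end Cfsg.Agent.H7.U5R
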